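import Mathlib

set_option autoImplicit false

namespace Cfsg.Agent.Recog71

open Subgroup

/-- A Frobenius-like group `U⟨x⟩` cannot act fixed-point-freely: every vector is killed
by the order of `U`. -/
theorem pow_card_eq_one_of_fpf {F V : Type*} [Group F] [CommGroup V]
    [MulDistribMulAction F V] (U : Subgroup F) [Fintype U]
    (hUne : ∃ u ∈ U, u ≠ 1) (hU : ∀ u ∈ U, u ≠ 1 → ∀ v : V, u • v = v → v = 1)
    (x : F) (r : ℕ) (hr : 0 < r) (hxr : x ^ r = 1)
    (hxn : ∀ u ∈ U, x * u * x⁻¹ ∈ U)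
    (hxU : ∀ i, 0 < i → i < r → ∀ u ∈ U, x ^ i * u * (x ^ i)⁻¹ = u → u = 1)
    (hxV : ∀ v : V, x • v = v → v = 1) (v : V) : v ^ Fintype.card U = 1 := by
  classical
  have hxn' : ∀ i : ℕ, ∀ u ∈ U, x ^ i * u * (x ^ i)⁻¹ ∈ U := by
    intro i
    induction i with
    | zero => intro u hu; simpa using hu
    | succ i ih =>
      intro u hu
      have h := hxn _ (ih u hu)
      have e : x * (x ^ i * u * (x ^ i)⁻¹) * x⁻¹ = x ^ (i + 1) * u * (x ^ (i + 1))⁻¹ := by
        rw [pow_succ']; group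
      rwa [e] at h
  have hsumU : ∀ w : V, ∏ u : U, (u : F) • w = 1 := by
    intro w
    obtain ⟨u, hu, hu1⟩ := hUne
    refine hU u hu hu1 _ ?_
    rw [Finset.smul_prod']
    simp_rw [← mul_smul]
    exact Equiv.prod_comp (Equiv.mulLeft (⟨u, hu⟩ : U)) fun z : U => (z : F) • w
  have horbit : ∀ u : U, ∏ i ∈ Finset.range r, ((u : F) * x ^ i * (u : F)⁻¹) • v = 1 := by
    intro u
    have hfix : ∏ i ∈ Finset.range r, x ^ i • ((u : F)⁻¹ • v) = 1 := by
      refine hxV _ ?_
      rw [Finset.smul_prod']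
      simp_rw [← mul_smul x, ← pow_succ']
      have h1 := Finset.prod_range_succ' (fun i => x ^ i • ((u : F)⁻¹ • v)) r
      have h2 := Finset.prod_range_succ (fun i => x ^ i • ((u : F)⁻¹ • v)) r
      rw [h2, hxr, pow_zero] at h1
      exact (mul_right_cancel h1).symm
    calc ∏ i ∈ Finset.range r, ((u : F) * x ^ i * (u : F)⁻¹) • v
        = (u : F) • ∏ i ∈ Finset.range r, x ^ i • ((u : F)⁻¹ • v) := by
          rw [Finset.smul_prod']
          simp_rw [mul_smul]
      _ = 1 := by rw [hfix, smul_one]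
  have htot : ∏ i ∈ Finset.range r, ∏ u : U, ((u : F) * x ^ i * (u : F)⁻¹) • v = 1 := by
    rw [Finset.prod_comm]
    simp [horbit]
  rw [← Finset.prod_erase_mul _ _ (Finset.mem_range.mpr hr)] at htot
  have hz : ∏ i ∈ (Finset.range r).erase 0, ∏ u : U, ((u : F) * x ^ i * (u : F)⁻¹) • v = 1 := by
    refine Finset.prod_eq_one fun i hi => ?_
    rw [Finset.mem_erase, Finset.mem_range] at hi
    let ψ : U → U := fun u => ⟨(u : F) * (x ^ i * (u : F)⁻¹ * (x ^ i)⁻¹),
      U.mul_mem u.2 (hxn' i _ (U.inv_mem u.2))⟩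
    have hψ : Function.Bijective ψ := by
      refine Finite.injective_iff_bijective.mp fun u w huw => ?_
      have h0 : (u : F) * (x ^ i * (u : F)⁻¹ * (x ^ i)⁻¹) =
          (w : F) * (x ^ i * (w : F)⁻¹ * (x ^ i)⁻¹) := congrArg Subtype.val huw
      have h1 : (w : F)⁻¹ * u = 1 := by
        refine hxU i (by omega) hi.2 _ (U.mul_mem (U.inv_mem w.2) u.2) ?_
        symm
        calc (w : F)⁻¹ * u = (w : F)⁻¹ * ((u : F) * (x ^ i * (u : F)⁻¹ * (x ^ i)⁻¹)) *
              (x ^ i * (u : F) * (x ^ i)⁻¹) := by group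
          _ = (w : F)⁻¹ * ((w : F) * (x ^ i * (w : F)⁻¹ * (x ^ i)⁻¹)) *
              (x ^ i * (u : F) * (x ^ i)⁻¹) := by rw [h0]
          _ = x ^ i * ((w : F)⁻¹ * u) * (x ^ i)⁻¹ := by group
      exact (Subtype.ext (inv_mul_eq_one.mp h1)).symm
    calc ∏ u : U, ((u : F) * x ^ i * (u : F)⁻¹) • v
        = ∏ u : U, ((ψ u : U) : F) • (x ^ i • v) := by
          refine Finset.prod_congr rfl fun u _ => ?_
          rw [← mul_smul]
          congr 1
          show _ = (u : F) * (x ^ i * (u : F)⁻¹ * (x ^ i)⁻¹) * x ^ i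
          group
      _ = ∏ z : U, (z : F) • (x ^ i • v) :=
          Fintype.prod_bijective ψ hψ _ _ fun _ => rfl
      _ = 1 := hsumU _
  rw [hz, one_mul] at htot
  simpa using htot

theorem exists_orderOf_mul_of_commute {G : Type*} [Group G] {a b : G} (h : Commute a b)
    {p q : ℕ} (hp : p.Prime) (hq : q.Prime) (hne : p ≠ q) (ha : orderOf a = p) (hb : orderOf b = q) :
    ∃ z : G, orderOf z = p * q :=
  ⟨a * b, by rw [h.orderOf_mul_eq_mul_orderOf_of_coprime
    (by rw [ha, hb]; exact (Nat.coprime_primes hp hq).mpr hne), ha, hb]⟩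

/-- The elements of order dividing `p` in the centre of a `p`-subgroup. -/
def omegaCenter {G : Type*} [Group G] (P : Subgroup G) (p : ℕ) : Subgroup G where
  carrier := {x | x ∈ P ∧ (∀ y ∈ P, x * y = y * x) ∧ x ^ p = 1}
  one_mem' := ⟨P.one_mem, by simp, one_pow p⟩
  mul_mem' {x y} hx hy := by
    refine ⟨P.mul_mem hx.1 hy.1, fun z hz => ?_, ?_⟩
    · rw [mul_assoc, hy.2.1 z hz, ← mul_assoc, hx.2.1 z hz, mul_assoc]
    · rw [(show Commute x y from hx.2.1 y hy.1).mul_pow, hx.2.2, hy.2.2, one_mul]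
  inv_mem' {x} hx := by
    refine ⟨P.inv_mem hx.1, fun z hz => ?_, by rw [inv_pow, hx.2.2, inv_one]⟩
    exact ((show Commute x z from hx.2.1 z hz).inv_left).eq

theorem omegaCenter_conj {G : Type*} [Group G] {P : Subgroup G} {p : ℕ} {g : G}
    (hg : g ∈ normalizer (P : Set G)) {x : G} (hx : x ∈ omegaCenter P p) :
    g * x * g⁻¹ ∈ omegaCenter P p := by
  refine ⟨(mem_normalizer_iff.mp hg x).mp hx.1, fun y hy => ?_, ?_⟩
  · have hy' : g⁻¹ * y * g ∈ P := by
      have := (mem_normalizer_iff.mp (inv_mem hg) y).mp hy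
      simpa using this
    have h := hx.2.1 _ hy'
    calc g * x * g⁻¹ * y = g * (x * (g⁻¹ * y * g)) * g⁻¹ := by group
      _ = g * ((g⁻¹ * y * g) * x) * g⁻¹ := by rw [h]
      _ = y * (g * x * g⁻¹) := by group
  · rw [conj_pow, hx.2.2]; group

theorem omegaCenter_ne_bot {G : Type*} [Group G] [Finite G] {P : Subgroup G} {p : ℕ}
    [hp : Fact p.Prime] (hP : IsPGroup p P) (hd : p ∣ Nat.card P) :
    ∃ x ∈ omegaCenter P p, x ≠ 1 := by
  haveI : Nontrivial P := by
    rw [← Finite.one_lt_card_iff_nontrivial]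
    exact lt_of_lt_of_le hp.out.one_lt (Nat.le_of_dvd Nat.card_pos hd)
  haveI : Nontrivial (Subgroup.center P) := hP.center_nontrivial
  obtain ⟨m, hm⟩ := (hP.to_subgroup (Subgroup.center P)).exists_card_eq
  have hm0 : m ≠ 0 := by
    rintro rfl
    have := Finite.one_lt_card (α := Subgroup.center P)
    rw [hm, pow_zero] at this
    omega
  obtain ⟨x, hx⟩ := exists_prime_orderOf_dvd_card' (G := Subgroup.center P) p
    (hm ▸ dvd_pow_self p hm0)
  refine ⟨((x : P) : G), ⟨(x : P).2, fun y hy => ?_, ?_⟩, ?_⟩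
  · exact congrArg Subtype.val (Subgroup.mem_center_iff.mp x.2 ⟨y, hy⟩).symm
  · rw [← hx, ← Subgroup.orderOf_coe x, ← Subgroup.orderOf_coe (x : P), pow_orderOf_eq_one]
  · intro h
    have h1 : orderOf ((x : P) : G) = p := by
      rw [Subgroup.orderOf_coe, Subgroup.orderOf_coe, hx]
    rw [h, orderOf_one] at h1
    exact hp.out.ne_one h1.symm

theorem orderOf_eq_of_mem_omegaCenter {G : Type*} [Group G] {P : Subgroup G} {p : ℕ}
    [Fact p.Prime] {x : G} (hx : x ∈ omegaCenter P p) (h1 : x ≠ 1) : orderOf x = p :=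
  orderOf_eq_prime hx.2.2 h1

/-- Index relation for a supplement. -/
theorem card_mul_eq_of_sup_eq_top {G : Type*} [Group G] [Finite G] (N M : Subgroup G) [M.Normal]
    (h : N ⊔ M = ⊤) : Nat.card ↥(M ⊓ N : Subgroup G) * M.index = Nat.card N := by
  have h1 : M.relIndex N = M.index := by
    rw [← Subgroup.relIndex_top_right M, ← h, Subgroup.relIndex_sup_right]
  rw [← h1, ← Subgroup.inf_relIndex_right M N]
  simpa using Subgroup.relIndex_mul_relIndex ⊥ (M ⊓ N) N bot_le inf_le_right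

/-- Lucido's three primes lemma. -/
theorem three_primes {G : Type*} [Group G] [Finite G] (K M : Subgroup G) [hKn : K.Normal]
    [hMn : M.Normal] (hKM : K ≤ M)
    (p q r : ℕ) (hp : p.Prime) (hq : q.Prime) (hr : r.Prime) (hpq : p ≠ q) (hpr : p ≠ r)
    (hqr : q ≠ r)
    (hpK : p ∣ Nat.card K) (hqM : q ∣ Nat.card M / Nat.card K) (hrG : r ∣ Nat.card G / Nat.card M) :
    (∃ x : G, orderOf x = p * q) ∨ (∃ x : G, orderOf x = p * r) ∨ (∃ x : G, orderOf x = q * r) := by
  haveI := Fact.mk hp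
  haveI := Fact.mk hq
  haveI := Fact.mk hr
  by_contra hcon
  push_neg at hcon
  obtain ⟨npq, npr, nqr⟩ := hcon
  let P : Sylow p K := default
  let P' : Subgroup G := (P : Subgroup K).map K.subtype
  have hP' : IsPGroup p P' := P.isPGroup'.map _
  have hP'card : p ∣ Nat.card P' := by
    rw [Nat.card_congr ((P : Subgroup K).equivMapOfInjective _ K.subtype_injective).symm.toEquiv]
    exact P.dvd_card_of_dvd_card hpK
  let N : Subgroup G := normalizer (P' : Set G)
  have hNK : N ⊔ K = ⊤ := Sylow.normalizer_sup_eq_top P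
  have hNM : N ⊔ M = ⊤ := top_le_iff.mp (hNK ▸ sup_le_sup_left hKM N)
  -- indices
  have hidxM : M.index = Nat.card G / Nat.card M := by
    rw [← M.card_mul_index, Nat.mul_div_cancel_left _ Nat.card_pos]
  have hrelKM : Nat.card K * K.relIndex M = Nat.card M := by
    simpa using Subgroup.relIndex_mul_relIndex ⊥ K M bot_le hKM
  have hidxKM : K.relIndex M = Nat.card M / Nat.card K := by
    rw [← hrelKM, Nat.mul_div_cancel_left _ Nat.card_pos]
  have hqMN : q ∣ Nat.card ↥(M ⊓ N : Subgroup G) := by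
    have e1 := card_mul_eq_of_sup_eq_top N M hNM
    have e2 := card_mul_eq_of_sup_eq_top N K hNK
    rw [← Subgroup.relIndex_mul_index hKM, ← mul_assoc] at e2
    have e3 : Nat.card ↥(K ⊓ N : Subgroup G) * K.relIndex M = Nat.card ↥(M ⊓ N : Subgroup G) :=
      Nat.eq_of_mul_eq_mul_right (Nat.pos_of_ne_zero Subgroup.index_ne_zero_of_finite)
        (e2.trans e1.symm)
    rw [← e3, hidxKM]
    exact dvd_mul_of_dvd_right hqM _
  let MN : Subgroup N := (M ⊓ N).subgroupOf N
  haveI : MN.Normal := by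
    constructor
    intro x hx g
    exact ⟨hMn.conj_mem _ hx.1 _, (g * x * g⁻¹).2⟩
  let Q : Sylow q MN := default
  let Q' : Subgroup N := (Q : Subgroup MN).map MN.subtype
  have hQ' : IsPGroup q Q' := Q.isPGroup'.map _
  have hcardMN : Nat.card MN = Nat.card ↥(M ⊓ N : Subgroup G) :=
    Nat.card_congr (Subgroup.subgroupOfEquivOfLe inf_le_right).toEquiv
  have hQ'card : q ∣ Nat.card Q' := by
    rw [Nat.card_congr ((Q : Subgroup MN).equivMapOfInjective _ MN.subtype_injective).symm.toEquiv]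
    exact Q.dvd_card_of_dvd_card (hcardMN ▸ hqMN)
  have hN2 : normalizer (Q' : Set N) ⊔ MN = ⊤ := Sylow.normalizer_sup_eq_top Q
  have hrN : r ∣ Nat.card ↥(normalizer (Q' : Set N)) := by
    have e := card_mul_eq_of_sup_eq_top _ MN hN2
    have hidx : MN.index = M.index := by
      have e1 := card_mul_eq_of_sup_eq_top N M hNM
      rw [← MN.card_mul_index, hcardMN] at e1
      exact (Nat.eq_of_mul_eq_mul_left Nat.card_pos e1).symm
    rw [← e, hidx, hidxM]
    exact dvd_mul_of_dvd_right hrG _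
  obtain ⟨x, hx⟩ := exists_prime_orderOf_dvd_card' r hrN
  -- V and U
  let V : Subgroup G := omegaCenter P' p
  letI : CommGroup V :=
    { (inferInstance : Group V) with mul_comm := fun a b => Subtype.ext (a.2.2.1 b b.2.1) }
  let U : Subgroup N := omegaCenter Q' q
  letI : MulDistribMulAction N V :=
    { smul := fun g v => ⟨(g : G) * v * (g : G)⁻¹, omegaCenter_conj g.2 v.2⟩
      one_smul := fun v => Subtype.ext (show ((1 : N) : G) * v * ((1 : N) : G)⁻¹ = v by simp)
      mul_smul := fun g h v => Subtype.ext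
        (show ((g * h : N) : G) * v * ((g * h : N) : G)⁻¹ =
          (g : G) * ((h : G) * v * (h : G)⁻¹) * (g : G)⁻¹ by simp [mul_assoc])
      smul_mul := fun g a b => Subtype.ext
        (show (g : G) * ((a * b : V) : G) * (g : G)⁻¹ =
          ((g : G) * a * (g : G)⁻¹) * ((g : G) * b * (g : G)⁻¹) by simp [mul_assoc])
      smul_one := fun g => Subtype.ext
        (show (g : G) * ((1 : V) : G) * (g : G)⁻¹ = 1 by simp) }
  have hfix : ∀ g : N, orderOf g = q ∨ orderOf g = r → ∀ v : V, g • v = v → v = 1 := by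
    intro g hg v hv
    by_contra hv1
    have hvo : orderOf (v : G) = p :=
      orderOf_eq_of_mem_omegaCenter v.2 fun h => hv1 (Subtype.ext h)
    have hcomm : Commute (v : G) (g : G) := by
      have : (g : G) * v * (g : G)⁻¹ = v := congrArg Subtype.val hv
      exact (mul_inv_eq_iff_eq_mul.mp this).symm
    rcases hg with hg | hg <;> rw [← Subgroup.orderOf_coe] at hg
    · obtain ⟨z, hz⟩ := exists_orderOf_mul_of_commute hcomm hp hq hpq hvo hg
      exact npq z hz
    · obtain ⟨z, hz⟩ := exists_orderOf_mul_of_commute hcomm hp hr hpr hvo hg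
      exact npr z hz
  have hxN : orderOf (x : N) = r := by rw [Subgroup.orderOf_coe, hx]
  obtain ⟨v, hv, hv1⟩ := omegaCenter_ne_bot hP' hP'card
  haveI := Fintype.ofFinite U
  have key := pow_card_eq_one_of_fpf U (omegaCenter_ne_bot hQ' hQ'card)
    (fun u hu hu1 => hfix u (Or.inl (orderOf_eq_of_mem_omegaCenter hu hu1)))
    (x : N) r hr.pos (hxN ▸ pow_orderOf_eq_one _)
    (fun u hu => omegaCenter_conj x.2 hu)
    (fun i hi hir u hu heq => by
      by_contra hu1
      have hxi : orderOf ((x : N) ^ i) = r := by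
        rw [Nat.Coprime.orderOf_pow (by
          rw [hxN]; exact (hr.coprime_iff_not_dvd.mpr (Nat.not_dvd_of_pos_of_lt hi hir)))]
        exact hxN
      obtain ⟨z, hz⟩ := exists_orderOf_mul_of_commute
        (show Commute (u : N) ((x : N) ^ i) from (mul_inv_eq_iff_eq_mul.mp heq).symm)
        hq hr hqr (orderOf_eq_of_mem_omegaCenter hu hu1) hxi
      exact nqr z (by rw [Subgroup.orderOf_coe]; exact hz))
    (hfix _ (Or.inr hxN)) (⟨v, hv⟩ : V)
  -- card U is prime to p
  have hUq : IsPGroup q U := hQ'.to_le fun u hu => hu.1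
  obtain ⟨m, hm⟩ := hUq.exists_card_eq
  have h2 : orderOf v ∣ q ^ m := by
    rw [← hm, Nat.card_eq_fintype_card]
    exact orderOf_dvd_of_pow_eq_one (congrArg Subtype.val key)
  rw [orderOf_eq_of_mem_omegaCenter hv hv1] at h2
  exact hpq ((Nat.prime_dvd_prime_iff_eq hp hq).mp (hp.dvd_of_dvd_pow h2))

theorem exists_orderOf_of_hom_surjective {G Q : Type*} [Group G] [Finite G] [Group Q]
    {f : G →* Q} (hf : Function.Surjective f) (y : Q) : ∃ x : G, orderOf x = orderOf y := by
  obtain ⟨g, rfl⟩ := hf y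
  obtain ⟨d, hd⟩ := orderOf_map_dvd f g
  refine ⟨g ^ d, ?_⟩
  have hd0 : d ≠ 0 := by
    rintro rfl
    rw [mul_zero] at hd
    exact (orderOf_pos g).ne' hd
  rw [orderOf_pow' g hd0, hd]
  rw [Nat.gcd_eq_right (Dvd.intro_left _ rfl), Nat.mul_div_cancel _ (Nat.pos_of_ne_zero hd0)]

/-- Two non-adjacent primes never divide the same abelian section. -/
theorem not_both_dvd_abelian_section {G : Type*} [Group G] [Finite G] (D : Subgroup G) (E : Subgroup D)
    [E.Normal] (hab : ∀ a b : D, a * b * a⁻¹ * b⁻¹ ∈ E) {r s : ℕ} (hr : r.Prime) (hs : s.Prime)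
    (hne : r ≠ s) (hdr : r ∣ E.index) (hds : s ∣ E.index) : ∃ x : G, orderOf x = r * s := by
  haveI := Fact.mk hr
  haveI := Fact.mk hs
  obtain ⟨a, ha⟩ := exists_prime_orderOf_dvd_card' (G := D ⧸ E) r hdr
  obtain ⟨b, hb⟩ := exists_prime_orderOf_dvd_card' (G := D ⧸ E) s hds
  have hc : Commute a b := by
    induction a using QuotientGroup.induction_on with
    | H a =>
      induction b using QuotientGroup.induction_on with
      | H b =>
        show (a : D ⧸ E) * b = b * a
        rw [← QuotientGroup.mk_mul, ← QuotientGroup.mk_mul, QuotientGroup.eq]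
        have := hab b⁻¹ a⁻¹
        simpa [mul_assoc] using this
  obtain ⟨z, hz⟩ := exists_orderOf_mul_of_commute hc hr hs hne ha hb
  obtain ⟨w, hw⟩ := exists_orderOf_of_hom_surjective (QuotientGroup.mk'_surjective E) z
  exact ⟨w, by rw [Subgroup.orderOf_coe, hw, hz]⟩

/-- The derived series of a normal subgroup, seen in the ambient group. -/
abbrev dser {G : Type*} [Group G] (K : Subgroup G) (n : ℕ) : Subgroup G :=
  (derivedSeries K n).map K.subtype

theorem dser_zero {G : Type*} [Group G] (K : Subgroup G) : dser K 0 = K := by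
  rw [dser, derivedSeries_zero, ← MonoidHom.range_eq_map, Subgroup.range_subtype]

theorem card_dser {G : Type*} [Group G] (K : Subgroup G) (n : ℕ) :
    Nat.card (dser K n) = Nat.card (derivedSeries K n) :=
  Nat.card_congr ((derivedSeries K n).equivMapOfInjective _ K.subtype_injective).symm.toEquiv

theorem dser_antitone {G : Type*} [Group G] (K : Subgroup G) : Antitone (dser K) := fun _ _ h =>
  Subgroup.map_mono ((derivedSeries_antitone _) h)

instance dser_normal {G : Type*} [Group G] (K : Subgroup G) [K.Normal] (n : ℕ) :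
    (dser K n).Normal := ConjAct.normal_of_characteristic_of_normal

/-- Height of a prime in a solvable normal subgroup. -/
theorem exists_height {G : Type*} [Group G] [Finite G] (K : Subgroup G)
    (hK : Group.IsSolvable K) {r : ℕ} (hr : r.Prime) (hd : r ∣ Nat.card K) :
    ∃ n, r ∣ Nat.card (dser K n) ∧ ¬ r ∣ Nat.card (dser K (n + 1)) := by
  obtain ⟨m, hm⟩ := (isSolvable_def K).mp hK
  by_contra hc
  push_neg at hc
  have : ∀ n, r ∣ Nat.card (dser K n) := by
    intro n
    induction n with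
    | zero => rw [dser_zero]; exact hd
    | succ n ih => exact hc n ih
  have h1 := this m
  rw [card_dser, hm, Subgroup.card_bot] at h1
  exact hr.ne_one (Nat.dvd_one.mp h1)

theorem height_ne {G : Type*} [Group G] [Finite G] (K : Subgroup G) {r s : ℕ} (hr : r.Prime)
    (hs : s.Prime) (hne : r ≠ s) (hno : ¬ ∃ x : G, orderOf x = r * s) {m n : ℕ}
    (hm : r ∣ Nat.card (dser K m) ∧ ¬ r ∣ Nat.card (dser K (m + 1)))
    (hn : s ∣ Nat.card (dser K n) ∧ ¬ s ∣ Nat.card (dser K (n + 1))) : m ≠ n := by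
  rintro rfl
  apply hno
  let D := dser K m
  let E : Subgroup D := (dser K (m + 1)).subgroupOf D
  have hle : dser K (m + 1) ≤ D := dser_antitone K (Nat.le_succ m)
  have hder : ⁅D, D⁆ = dser K (m + 1) := by
    rw [← Subgroup.map_commutator]; rfl
  haveI : E.Normal := by
    constructor
    intro x hx g
    show (g : G) * x * (g : G)⁻¹ ∈ dser K (m + 1)
    have h1 : (g : G) * x * (g : G)⁻¹ * (x : G)⁻¹ ∈ dser K (m + 1) := by
      rw [← hder, ← commutatorElement_def]
      exact Subgroup.commutator_mem_commutator g.2 x.2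
    simpa using (dser K (m + 1)).mul_mem h1 hx
  have hcard : Nat.card (dser K (m + 1)) * E.index = Nat.card D := by
    rw [← E.card_mul_index, Nat.card_congr (Subgroup.subgroupOfEquivOfLe hle).toEquiv]
  refine not_both_dvd_abelian_section D E (fun a b => ?_) hr hs hne ?_ ?_
  · show (a : G) * b * (a : G)⁻¹ * (b : G)⁻¹ ∈ dser K (m + 1)
    rw [← hder, ← commutatorElement_def]
    exact Subgroup.commutator_mem_commutator a.2 b.2
  · exact (hr.dvd_mul.mp (hcard ▸ hm.1)).resolve_left hm.2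
  · exact (hs.dvd_mul.mp (hcard ▸ hn.1)).resolve_left hn.2

theorem at_most_one_in_solvable {G : Type*} [Group G] [Finite G] (K : Subgroup G) [hn : K.Normal]
    (hK : Group.IsSolvable K) {r s t : ℕ} (hr : r.Prime) (hs : s.Prime) (ht : t.Prime)
    (hrs : r ≠ s) (hrt : r ≠ t) (hst : s ≠ t)
    (nrs : ¬ ∃ x : G, orderOf x = r * s) (nrt : ¬ ∃ x : G, orderOf x = r * t)
    (nst : ¬ ∃ x : G, orderOf x = s * t)
    (hrK : r ∣ Nat.card K) (hsK : s ∣ Nat.card K) (htG : t ∣ Nat.card G) : False := by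
  have nc : ∀ {a b : ℕ}, ¬ (∃ x : G, orderOf x = a * b) → ¬ ∃ x : G, orderOf x = b * a := by
    intro a b h; rwa [mul_comm]
  have quot : ∀ (A B : Subgroup G), A ≤ B → ∀ a : ℕ, a.Prime → a ∣ Nat.card B →
      ¬ a ∣ Nat.card A → a ∣ Nat.card B / Nat.card A := by
    intro A B hle a ha hB hA
    obtain ⟨c, hc⟩ := Subgroup.card_dvd_of_le hle
    rw [hc, Nat.mul_div_cancel_left _ Nat.card_pos]
    exact (ha.dvd_mul.mp (hc ▸ hB)).resolve_left hA
  have below : ∀ {a n m : ℕ}, ¬ a ∣ Nat.card (dser K (n + 1)) → n < m →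
      ¬ a ∣ Nat.card (dser K m) := fun h hnm hdv =>
    h (hdv.trans (Subgroup.card_dvd_of_le (dser_antitone K (Nat.succ_le_of_lt hnm))))
  have quotTop : ∀ (A : Subgroup G) (a : ℕ), a.Prime → a ∣ Nat.card G →
      ¬ a ∣ Nat.card A → a ∣ Nat.card G / Nat.card A := by
    intro A a ha hG hA
    rw [← Subgroup.card_top (G := G)] at hG ⊢
    exact quot A ⊤ le_top a ha hG hA
  have chain : ∀ {a b c : ℕ}, a.Prime → b.Prime → c.Prime → a ≠ b → a ≠ c → b ≠ c →
      (¬ ∃ x : G, orderOf x = a * b) → (¬ ∃ x : G, orderOf x = a * c) →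
      (¬ ∃ x : G, orderOf x = b * c) → ∀ (A B : Subgroup G), A.Normal → B.Normal → A ≤ B →
      a ∣ Nat.card A → b ∣ Nat.card B / Nat.card A → c ∣ Nat.card G / Nat.card B → False := by
    intro a b c ha hb hc hab hac hbc n1 n2 n3 A B hA hB hle h1 h2 h3
    rcases three_primes A B hle a b c ha hb hc hab hac hbc h1 h2 h3 with h | h | h
    exacts [n1 h, n2 h, n3 h]
  obtain ⟨i, hi⟩ := exists_height K hK hr hrK
  obtain ⟨j, hj⟩ := exists_height K hK hs hsK
  have hij : i ≠ j := height_ne K hr hs hrs nrs hi hj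
  by_cases htK : t ∣ Nat.card K
  · obtain ⟨k, hk⟩ := exists_height K hK ht htK
    have hik : i ≠ k := height_ne K hr ht hrt nrt hi hk
    have hjk : j ≠ k := height_ne K hs ht hst nst hj hk
    have three : ∀ {a b c ia ib ic : ℕ}, a.Prime → b.Prime → c.Prime → a ≠ b → a ≠ c → b ≠ c →
      (¬ ∃ x : G, orderOf x = a * b) → (¬ ∃ x : G, orderOf x = a * c) →
      (¬ ∃ x : G, orderOf x = b * c) → ib < ia → ic < ib → a ∣ Nat.card (dser K ia) →
      (b ∣ Nat.card (dser K ib) ∧ ¬ b ∣ Nat.card (dser K (ib + 1))) →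
      (c ∣ Nat.card G ∧ ¬ c ∣ Nat.card (dser K (ic + 1))) → False := by
      intro a b c ia ib ic ha hb hc hab hac hbc n1 n2 n3 h1 h2 hA hB hC
      exact chain ha hb hc hab hac hbc n1 n2 n3 (dser K ia) (dser K ib) inferInstance inferInstance
        (dser_antitone K h1.le) hA
        (quot _ _ (dser_antitone K h1.le) b hb hB.1 (below hB.2 h1))
        (quotTop _ c hc hC.1 (below hC.2 h2))
    have rG := hrK.trans K.card_subgroup_dvd_card
    have sG := hsK.trans K.card_subgroup_dvd_card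
    rcases Nat.lt_or_gt_of_ne hij with h | h <;> rcases Nat.lt_or_gt_of_ne hik with h' | h' <;>
      rcases Nat.lt_or_gt_of_ne hjk with h'' | h''
    · exact three ht hs hr (Ne.symm hst) (Ne.symm hrt) (Ne.symm hrs) (nc nst) (nc nrt) (nc nrs) h'' h hk.1 hj ⟨rG, hi.2⟩
    · exact three hs ht hr hst (Ne.symm hrs) (Ne.symm hrt) nst (nc nrs) (nc nrt) h'' h' hj.1 hk ⟨rG, hi.2⟩
    · omega
    · exact three hs hr ht (Ne.symm hrs) hst hrt (nc nrs) nst nrt h h' hj.1 hi ⟨htG, hk.2⟩
    · exact three ht hr hs (Ne.symm hrt) (Ne.symm hst) hrs (nc nrt) (nc nst) nrs h' h hk.1 hi ⟨sG, hj.2⟩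
    · omega
    · exact three hr ht hs hrt hrs (Ne.symm hst) nrt nrs (nc nst) h' h'' hi.1 hk ⟨sG, hj.2⟩
    · exact three hr hs ht hrs hrt hst nrs nrt nst h h'' hi.1 hj ⟨htG, hk.2⟩
  · have htQ := quotTop K t ht htG htK
    rcases Nat.lt_or_gt_of_ne hij with h | h
    · have hle : dser K j ≤ K := (dser_antitone K (Nat.zero_le j)).trans (dser_zero K).le
      exact chain hs hr ht (Ne.symm hrs) hst hrt (nc nrs) nst nrt (dser K j) K inferInstance hn
        hle hj.1 (quot _ _ hle r hr hrK (below hi.2 h)) htQ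
    · have hle : dser K i ≤ K := (dser_antitone K (Nat.zero_le i)).trans (dser_zero K).le
      exact chain hr hs ht hrs hrt hst nrs nrt nst (dser K i) K inferInstance hn
        hle hi.1 (quot _ _ hle s hs hsK (below hj.2 h)) htQ

end Cfsg.Agent.Recog71
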