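import Mathlib

set_option autoImplicit false

/-!
Orders of elements of `SL₂` over a finite field, and the natural module in characteristic 2.
-/

namespace Cfsg.Agent.Recog71

open Matrix Polynomial

variable {F : Type*} [Field F]

theorem sl2_aeval_eq_zero (g : SpecialLinearGroup (Fin 2) F) :
    aeval (g : Matrix (Fin 2) (Fin 2) F) (X ^ 2 - C (g : Matrix (Fin 2) (Fin 2) F).trace * X + 1) = 0 := by
  have h := Matrix.aeval_self_charpoly (g : Matrix (Fin 2) (Fin 2) F)
  rw [Matrix.charpoly_fin_two, g.det_coe, map_one] at h
  exact h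

/-- Orders of elements of `SL₂(q)` divide `q - 1`, `q + 1` or `2p`. -/
theorem sl2_pow_cases [Fintype F] (p : ℕ) [hp : Fact p.Prime] [CharP F p]
    (g : SpecialLinearGroup (Fin 2) F) :
    (g : Matrix (Fin 2) (Fin 2) F) ^ (Fintype.card F - 1) = 1 ∨
    (g : Matrix (Fin 2) (Fin 2) F) ^ (Fintype.card F + 1) = 1 ∨
    (g : Matrix (Fin 2) (Fin 2) F) ^ p = 1 ∨ (g : Matrix (Fin 2) (Fin 2) F) ^ p = -1 := by
  classical
  set A : Matrix (Fin 2) (Fin 2) F := (g : Matrix (Fin 2) (Fin 2) F) with hA
  set t := A.trace
  set q := Fintype.card F with hq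
  have hq1 : 1 < q := Fintype.one_lt_card
  have hunit : IsUnit A := (Matrix.isUnit_iff_isUnit_det A).mpr (by rw [hA, g.det_coe]; exact isUnit_one)
  set P : F[X] := X ^ 2 - C t * X + 1 with hP
  have hPA : aeval A P = 0 := sl2_aeval_eq_zero g
  have hqm : A ^ q = A → A ^ (q - 1) = 1 := fun h => by
    apply hunit.mul_left_cancel
    rw [mul_one, ← pow_succ', show q - 1 + 1 = q by omega, h]
  by_cases hroot : ∃ l : F, l ^ 2 - t * l + 1 = 0
  · obtain ⟨l, hl⟩ := hroot
    have hl0 : l ≠ 0 := by rintro rfl; simp at hl
    have hsum : l + l⁻¹ = t := by field_simp; linear_combination hl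
    have hPl : P = (X - C l) * (X - C l⁻¹) := by
      rw [hP, ← hsum]
      have h1 : C l * C l⁻¹ = (1 : F[X]) := by rw [← C_mul, mul_inv_cancel₀ hl0, C_1]
      simp only [C_add]
      linear_combination -h1
    by_cases hll : l = l⁻¹
    · right; right
      have hsq : (A - algebraMap F _ l) ^ 2 = 0 := by
        rw [pow_two]
        have : aeval A P = (A - algebraMap F _ l) * (A - algebraMap F _ l) := by
          rw [hPl, map_mul, ← hll]; simp
        rw [← this, hPA]
      haveI : CharP (Matrix (Fin 2) (Fin 2) F) p := inferInstance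
      have hp2 : (A - algebraMap F _ l) ^ p = 0 := pow_eq_zero_of_le hp.out.two_le hsq
      rw [sub_pow_char_of_commute _ (Algebra.commute_algebraMap_right l A), sub_eq_zero, ← map_pow]
        at hp2
      have hl1 : l = 1 ∨ l = -1 := by
        have : l * l = 1 := by nth_rewrite 2 [hll]; exact mul_inv_cancel₀ hl0
        exact mul_self_eq_one_iff.mp this
      rcases hl1 with rfl | rfl
      · left; rw [hp2, one_pow, map_one]
      · rw [hp2]
        rcases neg_one_pow_eq_or F p with h | h <;> rw [h]
        · left; exact map_one _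
        · right; rw [map_neg, map_one]
    · left
      apply hqm
      have hdvd : P ∣ X ^ q - X := by
        rw [hPl]
        refine IsCoprime.mul_dvd ?_ ?_ ?_
        · exact Polynomial.isCoprime_X_sub_C_of_isUnit_sub (sub_ne_zero.mpr hll).isUnit
        · rw [dvd_iff_isRoot]; simp [hq, FiniteField.pow_card, IsRoot]
        · rw [dvd_iff_isRoot]; simp [hq, FiniteField.pow_card, IsRoot]
      obtain ⟨R, hR⟩ := hdvd
      have := congrArg (aeval A) hR
      rw [map_mul, hPA, zero_mul, map_sub, map_pow, aeval_X, sub_eq_zero] at this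
      exact this
  · push_neg at hroot
    have hPA' : A * A = algebraMap F _ t * A - 1 := by
      have h := hPA
      simp only [hP, map_add, map_sub, map_mul, map_pow, aeval_X, aeval_C, map_one] at h
      rw [← pow_two]
      rw [sub_add, sub_eq_zero] at h
      exact h
    -- powers of A are linear in A
    have hlin : ∀ n, ∃ x y : F, A ^ n = algebraMap F _ x + algebraMap F _ y * A := by
      intro n
      induction n with
      | zero => exact ⟨1, 0, by simp⟩
      | succ n ih =>
        obtain ⟨x, y, h⟩ := ih
        refine ⟨-y, x + y * t, ?_⟩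
        rw [pow_succ, h, add_mul, mul_assoc, hPA', mul_sub, map_add, map_mul, map_neg]
        noncomm_ring
    have hq' : aeval (A ^ q) P = 0 := by
      have h := Polynomial.expand_aeval q P A
      rw [FiniteField.expand_card, map_pow, hPA, zero_pow (by omega)] at h
      exact h.symm
    obtain ⟨x, y, hxy⟩ := hlin q
    have hB : (A ^ q - A) * (A ^ q + A - algebraMap F _ t) = 0 := by
      have hc : A ^ q * A = A * A ^ q := by rw [← pow_succ, ← pow_succ']
      have ht : ∀ M : Matrix (Fin 2) (Fin 2) F, algebraMap F _ t * M = M * algebraMap F _ t :=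
        fun M => (Algebra.commutes t M)
      have h1 : A ^ q * A ^ q - algebraMap F _ t * A ^ q + 1 = 0 := by
        simpa [hP, pow_two] using hq'
      have h2 : A * A - algebraMap F _ t * A + 1 = 0 := by rw [hPA']; abel
      calc _ = (A ^ q * A ^ q - algebraMap F _ t * A ^ q + 1) -
            (A * A - algebraMap F _ t * A + 1) := by
            rw [sub_mul, mul_sub, mul_sub, mul_add, mul_add, ← ht, ← ht, hc]
            abel
        _ = 0 := by rw [h1, h2, sub_zero]
    by_cases he : A ^ q = A
    · left; exact hqm he
    · right; left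
      have hu : IsUnit (A ^ q - A) := by
        have e : A ^ q - A = algebraMap F _ x + algebraMap F _ (y - 1) * A := by
          rw [hxy, map_sub, map_one, sub_mul, one_mul]; abel
        set u := y - 1
        have hnorm : x ^ 2 + x * u * t + u ^ 2 ≠ 0 := by
          intro h0
          rcases eq_or_ne u 0 with hu0 | hu0
          · have hx0 : x = 0 := by simpa [hu0] using h0
            exact he (sub_eq_zero.mp (by rw [e, hu0, hx0]; simp))
          · refine hroot (-x / u) ?_
            field_simp
            linear_combination h0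
        refine IsUnit.of_mul_eq_one (algebraMap F _ (x ^ 2 + x * u * t + u ^ 2)⁻¹ *
          (algebraMap F _ x + algebraMap F _ u * (algebraMap F _ t - A))) ?_
        rw [e, ← mul_assoc, ← Algebra.commutes, mul_assoc]
        have e2 : (algebraMap F _ x + algebraMap F _ u * A) *
            (algebraMap F _ x + algebraMap F _ u * (algebraMap F _ t - A)) =
            algebraMap F _ (x ^ 2 + x * u * t + u ^ 2) := by
          simp only [Algebra.algebraMap_eq_smul_one, mul_add, add_mul, mul_sub, sub_mul,
            smul_mul_assoc, mul_smul_comm, one_mul, mul_one, smul_smul]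
          rw [hPA']
          simp only [Algebra.algebraMap_eq_smul_one, smul_mul_assoc, one_mul, smul_sub, smul_smul]
          match_scalars <;> ring
        rw [e2, ← map_mul, inv_mul_cancel₀ hnorm, map_one]
      have h2 : A ^ q + A - algebraMap F _ t = 0 := hu.mul_right_eq_zero.mp hB
      have h3 : A ^ q = algebraMap F _ t - A := by
        rw [eq_sub_iff_add_eq]; exact sub_eq_zero.mp h2
      rw [pow_succ, h3, sub_mul, hPA']
      abel

/-- In characteristic two an element fixing a non-zero vector squares to one. -/
theorem sl2_mul_self_of_fix [CharP F 2] (g : SpecialLinearGroup (Fin 2) F) (v : Fin 2 → F)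
    (hv : v ≠ 0) (h : (g : Matrix (Fin 2) (Fin 2) F) *ᵥ v = v) : g * g = 1 := by
  have hdet : ((g : Matrix (Fin 2) (Fin 2) F) - 1).det = 0 := by
    rw [← Matrix.exists_mulVec_eq_zero_iff]
    exact ⟨v, hv, by rw [Matrix.sub_mulVec, Matrix.one_mulVec, h, sub_self]⟩
  have hg := g.det_coe
  rw [Matrix.det_fin_two] at hdet hg
  simp only [Matrix.sub_apply, Matrix.one_apply_eq, ne_eq, zero_ne_one, not_false_eq_true,
    Matrix.one_apply_ne, one_ne_zero, sub_zero] at hdet
  apply Subtype.ext
  show (g : Matrix (Fin 2) (Fin 2) F) * (g : Matrix (Fin 2) (Fin 2) F) = 1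
  have h2 : (2 : F) = 0 := CharTwo.two_eq_zero
  clear h
  generalize (g : Matrix (Fin 2) (Fin 2) F) = A at hdet hg ⊢
  ext i j
  fin_cases i <;> fin_cases j <;> simp [Matrix.mul_apply, Fin.sum_univ_two] <;> grind

/-- In characteristic two `SL₂` is its own central quotient. -/
theorem sl2_center_eq_bot [CharP F 2] :
    Subgroup.center (SpecialLinearGroup (Fin 2) F) = ⊥ := by
  rw [eq_bot_iff]
  intro g hg
  obtain ⟨r, hr, hrg⟩ := Matrix.SpecialLinearGroup.mem_center_iff.mp hg
  rw [Subgroup.mem_bot]
  apply Subtype.ext
  rw [← hrg]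
  simp only [Fintype.card_fin] at hr
  have hr1 : r = 1 := by
    rw [pow_two] at hr
    rcases mul_self_eq_one_iff.mp hr with h | h
    · exact h
    · rw [h, CharTwo.neg_eq]
  simp [hr1]

end Cfsg.Agent.Recog71
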