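import Mathlib

set_option autoImplicit false

namespace Cfsg.Agent.Recog71

open Equiv

/-- Two permutations whose supports meet in a single point have a three-cycle as commutator. -/
theorem isThreeCycle_commutator_of_support_inter {α : Type*} [Fintype α] [DecidableEq α]
    (a b : Perm α) (γ : α) (ha : a γ ≠ γ) (hb : b γ ≠ γ)
    (hab : ∀ x, a x ≠ x → b x ≠ x → x = γ) : (a * b * a⁻¹ * b⁻¹).IsThreeCycle := by
  have hA : ∀ x, x ≠ γ → b x ≠ x → a x = x := fun x h1 h2 =>
    not_not.mp fun h => h1 (hab x h h2)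
  have hB : ∀ x, x ≠ γ → a x ≠ x → b x = x := fun x h1 h2 =>
    not_not.mp fun h => h1 (hab x h2 h)
  have ainv : ∀ x, a x = x → a⁻¹ x = x := fun x h => by
    rw [Perm.inv_eq_iff_eq]; exact h.symm
  have binv : ∀ x, b x = x → b⁻¹ x = x := fun x h => by
    rw [Perm.inv_eq_iff_eq]; exact h.symm
  have hbγa : a (b γ) = b γ := hA _ hb fun h => hb (b.injective h)
  have haγb : b (a γ) = a γ := hB _ ha fun h => ha (a.injective h)
  have hne : a γ ≠ b γ := fun h => ha (a.injective (h ▸ hbγa : a (a γ) = a γ))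
  rw [← card_support_eq_three_iff]
  have : (a * b * a⁻¹ * b⁻¹).support = {γ, a γ, b γ} := by
    ext x
    simp only [Perm.mem_support, Finset.mem_insert, Finset.mem_singleton, Perm.mul_apply]
    constructor
    · intro h
      by_contra hx
      push_neg at hx
      obtain ⟨h1, h2, h3⟩ := hx
      apply h
      by_cases hbx : b x = x
      · rw [binv x hbx]
        by_cases hax : a x = x
        · rw [ainv x hax, hbx, hax]
        · have hy : a (a⁻¹ x) ≠ a⁻¹ x := fun e => hax (by simpa using congrArg a e)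
          have hyγ : a⁻¹ x ≠ γ := fun e => h2 (by rw [← e]; simp)
          rw [hB _ hyγ hy]
          simp
      · have hy : b (b⁻¹ x) ≠ b⁻¹ x := fun e => hbx (by simpa using congrArg b e)
        have hyγ : b⁻¹ x ≠ γ := fun e => h3 (by rw [← e]; simp)
        rw [ainv _ (hA _ hyγ hy)]
        simp only [Perm.coe_inv, Equiv.apply_symm_apply]
        exact hA x h1 hbx
    · intro hx
      rcases hx with rfl | rfl | rfl
      · have hy : b (b⁻¹ x) ≠ b⁻¹ x := fun e => hb (by simpa using congrArg b e)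
        have hyγ : b⁻¹ x ≠ x := fun e => hb (by simpa using (congrArg b e).symm)
        rw [ainv _ (hA _ hyγ hy)]
        simpa using ha
      · rw [binv _ haγb, Perm.coe_inv, Equiv.symm_apply_apply, hbγa]
        exact hne.symm
      · rw [show b⁻¹ (b γ) = γ by simp]
        have hy : a (a⁻¹ γ) ≠ a⁻¹ γ := fun e => ha (by simpa using congrArg a e)
        have hyγ : a⁻¹ γ ≠ γ := fun e => ha (by simpa using (congrArg a e).symm)
        rw [hB _ hyγ hy]
        simpa using hb.symm
  rw [this, Finset.card_insert_of_notMem (by simp [Ne.symm ha, Ne.symm hb]),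
    Finset.card_insert_of_notMem (by simpa using hne), Finset.card_singleton]

/-- A primitive group without the alternating group has a base of size at most `n / 2`. -/
theorem exists_base_le_half {G Ω : Type*} [Group G] [MulAction G Ω] [FaithfulSMul G Ω]
    [Fintype Ω] [DecidableEq Ω] (hprim : MulAction.IsPreprimitive G Ω)
    (hA : ¬ alternatingGroup Ω ≤ (MulAction.toPermHom G Ω).range) :
    ∃ Δ : Finset Ω, 2 * Δ.card ≤ Fintype.card Ω ∧ ∀ g : G, (∀ x ∈ Δ, g • x = x) → g = 1 := by
  classical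
  have hex : ∃ k, ∃ Δ : Finset Ω, Δ.card = k ∧ ∀ g : G, (∀ x ∈ Δ, g • x = x) → g = 1 :=
    ⟨_, Finset.univ, rfl, fun g hg =>
      FaithfulSMul.eq_of_smul_eq_smul (α := Ω) fun x => by simpa using hg x (by simp)⟩
  obtain ⟨Δ, hΔc, hΔ⟩ := Nat.find_spec hex
  refine ⟨Δ, ?_, hΔ⟩
  by_contra hlt
  have hsmall : ∀ Θ : Finset Ω, Θ.card < Δ.card → ∃ g : G, (∀ x ∈ Θ, g • x = x) ∧ g ≠ 1 := by
    intro Θ hΘ
    by_contra h
    push_neg at h
    exact Nat.find_min hex (hΔc ▸ hΘ) ⟨Θ, rfl, h⟩
  obtain ⟨a, haf, ha1⟩ := hsmall Δᶜ (by rw [Finset.card_compl]; omega)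
  obtain ⟨γ, hγ, haγ⟩ : ∃ γ ∈ Δ, a • γ ≠ γ := by
    by_contra h
    push_neg at h
    exact ha1 (hΔ a h)
  obtain ⟨b, hbf, hb1⟩ := hsmall (Δ.erase γ) (Finset.card_erase_lt_of_mem hγ)
  have hbγ : b • γ ≠ γ := fun h => hb1 (hΔ b fun x hx => by
    rcases eq_or_ne x γ with rfl | hne
    · exact h
    · exact hbf x (Finset.mem_erase.mpr ⟨hne, hx⟩))
  have h3 := isThreeCycle_commutator_of_support_inter
    (MulAction.toPermHom G Ω a) (MulAction.toPermHom G Ω b) γ haγ hbγ (by
      intro x hax hbx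
      by_contra hne
      by_cases hx : x ∈ Δ
      · exact hbx (hbf x (Finset.mem_erase.mpr ⟨hne, hx⟩))
      · exact hax (haf x (Finset.mem_compl.mpr hx)))
  apply hA
  haveI := hprim
  let f : Ω →ₑ[(MulAction.toPermHom G Ω).rangeRestrict] Ω :=
    { toFun := id, map_smul' := fun _ _ => rfl }
  have hp : MulAction.IsPreprimitive (MulAction.toPermHom G Ω).range Ω :=
    MulAction.IsPreprimitive.of_surjective (f := f) Function.surjective_id
  refine Equiv.Perm.alternatingGroup_le_of_isPreprimitive_of_isThreeCycle_mem hp h3 ?_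
  exact ⟨a * b * a⁻¹ * b⁻¹, by simp only [map_mul, map_inv]⟩

/-- Bochert's bound. -/
theorem bochert {G Ω : Type*} [Group G] [Finite G] [MulAction G Ω] [FaithfulSMul G Ω] [Fintype Ω]
    [DecidableEq Ω] (hprim : MulAction.IsPreprimitive G Ω)
    (hA : ¬ alternatingGroup Ω ≤ (MulAction.toPermHom G Ω).range) :
    Nat.card G * Nat.factorial ((Fintype.card Ω + 1) / 2) ≤ Nat.factorial (Fintype.card Ω) := by
  obtain ⟨Δ, hΔc, hΔ⟩ := exists_base_le_half hprim hA
  let f : G → (Δ ↪ Ω) := fun g => ⟨fun x => g • (x : Ω), fun x y h =>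
    Subtype.ext (MulAction.injective g h)⟩
  have hinj : Function.Injective f := by
    intro g g' h
    rw [← inv_mul_eq_one]
    refine hΔ _ fun x hx => ?_
    have : g • x = g' • x := congrArg (fun e : Δ ↪ Ω => e ⟨x, hx⟩) h
    rw [mul_smul, ← this, inv_smul_smul]
  have h1 := Nat.card_le_card_of_injective f hinj
  rw [Nat.card_eq_fintype_card (α := Δ ↪ Ω), Fintype.card_embedding_eq, Fintype.card_coe] at h1
  have h2 := Nat.factorial_mul_descFactorial (show Δ.card ≤ Fintype.card Ω by omega)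
  rw [← h2, mul_comm (Nat.factorial _)]
  exact Nat.mul_le_mul h1 (Nat.factorial_le (by omega))

end Cfsg.Agent.Recog71
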