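import Cfsg.Agent.Lib.CosetEnum.Rep
import Mathlib.GroupTheory.Sylow

/-!
Automorphisms of a presented group of transpositions acting on the points of its class.

The class of an involution `z` is identified with the points of a table: the transposition at a point
`p` is the conjugate `h * z * h⁻¹` with `h` taking the base point to `p`. All checks are about runs
of words through the table.
-/

set_option autoImplicit false
set_option linter.style.haveILetI false

namespace Cfsg.Agent.Recog71.FischerOut

open Cfsg.Agent.CosetEnum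

/-- The word of a transposition, given by a generator and a conjugating word. -/
def dw (t : ℕ × List ℕ) : List ℕ := t.2.reverse ++ t.1 :: t.2

/-- The point of a transposition given by a generator and a conjugating word. -/
noncomputable def pw (T : Tbl) (π : List ℕ) (t : ℕ × List ℕ) : ℕ := T.run t.2 (π.getD t.1 0)

/-- A point may be the image of generator `k` once the images of the earlier generators are fixed. -/
noncomputable def inS (T : Tbl) (π : List ℕ) (prev : List (ℕ × (ℕ × List ℕ))) (k p : ℕ) : Bool :=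
  prev.all fun e =>
    (Nat.beq (T.run (dw e.2) p) p ==
        Nat.beq (T.run [k] (π.getD e.1 0)) (π.getD e.1 0)) &&
      !(Nat.beq p (pw T π e.2))

/-- The check of a node at one point: a candidate is a root or moves down in rank. -/
noncomputable def nodePoint (T : Tbl) (π : List ℕ) (prev : List (ℕ × (ℕ × List ℕ))) (k : ℕ)
    (roots : List (ℕ × List ℕ)) (ws : List (List ℕ)) (rank : PTree) (p : ℕ) : Bool :=
  !(inS T π prev k p) || roots.any (fun t => Nat.beq p (pw T π t)) ||
    ws.any (fun W => Nat.blt (rank.get 16 (T.run W p)) (rank.get 16 p))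

/-- A transposition word uses only letters of the table. -/
noncomputable def okT (T : Tbl) (t : ℕ × List ℕ) : Bool :=
  Nat.blt t.1 T.nl && t.2.all (fun l => Nat.blt l T.nl)

/-- The static check of a node. -/
noncomputable def nodeOK (T : Tbl) (π : List ℕ) (prev : List (ℕ × (ℕ × List ℕ))) (k : ℕ)
    (roots : List (ℕ × List ℕ)) (ws : List (List ℕ)) : Bool :=
  Nat.blt k T.nl && roots.all (okT T) &&
    prev.all (fun e => Nat.blt e.1 T.nl && okT T e.2 &&
      !(Nat.beq (π.getD e.1 0) (π.getD k 0))) &&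
    ws.all (fun W => W.all (fun l => Nat.blt l T.nl) &&
      prev.all (fun e => Nat.beq (T.run W (pw T π e.2)) (pw T π e.2)))

/-- The pattern check of a round at one point. -/
noncomputable def roundPoint (T : Tbl) (π : List ℕ) (F : List (ℕ × List ℕ)) (q : ℕ)
    (es : List (List ℕ)) (p : ℕ) : Bool :=
  !(F.all fun t => Nat.beq (T.run (dw t) p) p ==
      Nat.beq (T.run (dw t) (π.getD q 0)) (π.getD q 0)) ||
    es.any (fun e => Nat.beq (T.run e (π.getD q 0)) p)

/-- The static check of a round. -/
noncomputable def roundOK (T : Tbl) (π : List ℕ) (F : List (ℕ × List ℕ)) (q : ℕ)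
    (es : List (List ℕ)) : Bool :=
  Nat.blt q T.nl && F.all (okT T) &&
    es.all (fun e => e.all (fun l => Nat.blt l T.nl) &&
      F.all (fun t => Nat.beq (T.run e (pw T π t)) (pw T π t)))

/-- The products of one word from each round, the last round first. -/
def combos : List (ℕ × List (List ℕ)) → List (List ℕ)
  | [] => [[]]
  | (_, es) :: L => (combos L).flatMap fun w => es.map (fun e => w ++ e)

/-- All the rounds are checked. -/
def RoundsOK (T : Tbl) (π : List ℕ) : List (ℕ × List ℕ) → List (ℕ × List (List ℕ)) → Prop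
  | _, [] => True
  | F, (q, es) :: L => roundOK T π F q es = true ∧ (∀ p < T.n, roundPoint T π F q es p = true) ∧
      RoundsOK T π (F ++ [(q, [])]) L

/-- The verdict on one product: trivial, a transposition, or not in a class of 3-transpositions. -/
noncomputable def comboOK (T : Tbl) (π : List ℕ) (base : List (ℕ × List ℕ)) (W : List ℕ)
    (code : ℕ × ℕ × List ℕ) : Bool :=
  match code with
  | (0, _, _) => (List.range T.nl).all fun l => Nat.beq (T.run W (π.getD l 0)) (π.getD l 0)
  | (1, j, _) => okT T (base.getD j (0, [])) && (List.range T.nl).all fun l =>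
      Nat.beq (T.run (W ++ dw (base.getD j (0, []))) (π.getD l 0)) (π.getD l 0)
  | (_, p, U) => U.all (fun l => Nat.blt l T.nl) && Nat.blt p T.n &&
      !(Nat.beq (T.run ((W ++ (U.reverse ++ (W ++ U))) ++ (W ++ (U.reverse ++ (W ++ U)))) p) p) &&
      !(Nat.beq (T.run ((W ++ (U.reverse ++ (W ++ U))) ++ (W ++ (U.reverse ++ (W ++ U))) ++
          (W ++ (U.reverse ++ (W ++ U)))) p) p)

variable {α : Type} [DecidableEq α] {P : InvPres α} {T : Tbl}

/-- The transposition `d` sits at the point `p`. -/
def DP (R : P.Rep T) (hnd : P.gens.Nodup) (z d : P.Gp) (p : ℕ) : Prop :=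
  ∃ h : P.Gp, d = h * z * h⁻¹ ∧ ((R.hom hnd h R.base : Fin T.n) : ℕ) = p

/-- A transposition class presented on a table. -/
structure Setup (R : P.Rep T) (hnd : P.gens.Nodup) (z : P.Gp) (π : List ℕ) : Prop where
  cent : Subgroup.centralizer ({z} : Set P.Gp) = R.stab hnd
  descend : InvPres.Rep.checkDescend T = true
  sq : z * z = 1
  gens : ∀ l < T.nl, DP R hnd z (P.val l) (π.getD l 0)
  center : Subgroup.center P.Gp = ⊥
  finite : Finite P.Gp

theorem val_sq (l : ℕ) : P.val l * P.val l = 1 := by
  rcases Nat.lt_or_ge l P.gens.length with h | h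
  · rw [InvPres.val, letterVal_of_lt _ _ h]
    exact P.sq_val _
  · simp [InvPres.val, letterVal, List.getElem?_eq_none_iff.mpr h]

theorem val_inv (l : ℕ) : (P.val l)⁻¹ = P.val l := inv_eq_of_mul_eq_one_right (val_sq l)

theorem evalWord_reverse : ∀ W : List ℕ, evalWord P.val W.reverse = (evalWord P.val W)⁻¹
  | [] => by simp [evalWord]
  | l :: W => by
    rw [List.reverse_cons, evalWord_append, evalWord_reverse W]
    show _ * (P.val l * 1) = (P.val l * evalWord P.val W)⁻¹
    rw [mul_inv_rev, mul_one, val_inv]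

theorem evalWord_dw (t : ℕ × List ℕ) :
    evalWord P.val (dw t) = (evalWord P.val t.2)⁻¹ * P.val t.1 * evalWord P.val t.2 := by
  rw [dw, evalWord_append, evalWord_reverse, mul_assoc]
  rfl

theorem evalWord_singleton (l : ℕ) : evalWord P.val [l] = P.val l := mul_one _

variable {R : P.Rep T} {hnd : P.gens.Nodup} {z : P.Gp} {π : List ℕ}

theorem exists_word (S : Setup R hnd z π) (x : P.Gp) :
    ∃ W : List ℕ, (∀ l ∈ W, l < T.nl) ∧ evalWord P.val W = x := by
  have hx : x ∈ Subgroup.closure (P.val '' Set.Iio P.gens.length) :=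
    P.closure_val.symm ▸ Subgroup.mem_top x
  induction hx using Subgroup.closure_induction with
  | mem y hy =>
    obtain ⟨l, hl, rfl⟩ := hy
    refine ⟨[l], fun m hm => ?_, evalWord_singleton l⟩
    rw [List.mem_singleton] at hm
    rw [hm, R.nl]
    exact hl
  | one => exact ⟨[], by simp, rfl⟩
  | mul a b _ _ ha hb =>
    obtain ⟨U, hU, rfl⟩ := ha
    obtain ⟨V, hV, rfl⟩ := hb
    exact ⟨U ++ V, fun l hl => (List.mem_append.mp hl).elim (hU l) (hV l), evalWord_append _ U V⟩
  | inv a _ ha =>
    obtain ⟨U, hU, rfl⟩ := ha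
    exact ⟨U.reverse, fun l hl => hU l (List.mem_reverse.mp hl), evalWord_reverse U⟩

theorem DP.lt {d : P.Gp} {p : ℕ} (h : DP R hnd z d p) : p < T.n := by
  obtain ⟨g, -, rfl⟩ := h
  exact (R.hom hnd g R.base).2

/-- A word moves a transposition as it moves its point. -/
theorem DP.run {d : P.Gp} {p : ℕ} (h : DP R hnd z d p) {W : List ℕ} (hW : ∀ l ∈ W, l < T.nl) :
    DP R hnd z ((evalWord P.val W)⁻¹ * d * evalWord P.val W) (T.run W p) := by
  obtain ⟨g, rfl, rfl⟩ := h
  refine ⟨(evalWord P.val W)⁻¹ * g, by group, ?_⟩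
  rw [map_mul, map_inv, Equiv.Perm.mul_apply, R.hom_inv_apply hnd hW]

theorem DP.point_unique (S : Setup R hnd z π) {d : P.Gp} {p q : ℕ} (h : DP R hnd z d p)
    (h' : DP R hnd z d q) : p = q := by
  obtain ⟨g, hg, rfl⟩ := h
  obtain ⟨g', hg', rfl⟩ := h'
  have hc : g⁻¹ * g' ∈ R.stab hnd := by
    rw [← S.cent, Subgroup.mem_centralizer_singleton_iff]
    calc g⁻¹ * g' * z = g⁻¹ * (g' * z * g'⁻¹) * g' := by group
      _ = g⁻¹ * (g * z * g⁻¹) * g' := by rw [← hg', hg]
      _ = z * (g⁻¹ * g') := by group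
  rw [InvPres.Rep.mem_stab, map_mul, map_inv, Equiv.Perm.mul_apply, Equiv.Perm.inv_eq_iff_eq] at hc
  rw [hc]

theorem DP.elem_unique (S : Setup R hnd z π) {d e : P.Gp} {p : ℕ} (h : DP R hnd z d p)
    (h' : DP R hnd z e p) : d = e := by
  obtain ⟨g, rfl, hp⟩ := h
  obtain ⟨g', rfl, hp'⟩ := h'
  have hc : g⁻¹ * g' ∈ R.stab hnd := by
    rw [InvPres.Rep.mem_stab, map_mul, map_inv, Equiv.Perm.mul_apply, Equiv.Perm.inv_eq_iff_eq]
    exact Fin.ext (hp'.trans hp.symm)
  rw [← S.cent, Subgroup.mem_centralizer_singleton_iff] at hc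
  calc g * z * g⁻¹ = g * (z * (g⁻¹ * g')) * g'⁻¹ := by group
    _ = g * (g⁻¹ * g' * z) * g'⁻¹ := by rw [hc]
    _ = g' * z * g'⁻¹ := by group

theorem DP.sq (S : Setup R hnd z π) {d : P.Gp} {p : ℕ} (h : DP R hnd z d p) : d * d = 1 := by
  obtain ⟨g, rfl, -⟩ := h
  calc g * z * g⁻¹ * (g * z * g⁻¹) = g * (z * z) * g⁻¹ := by group
    _ = 1 := by rw [S.sq]; group

/-- A word fixes a point exactly when it commutes with the transposition there. -/
theorem DP.fix_iff (S : Setup R hnd z π) {d : P.Gp} {p : ℕ} (h : DP R hnd z d p) {W : List ℕ}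
    (hW : ∀ l ∈ W, l < T.nl) : T.run W p = p ↔ Commute d (evalWord P.val W) := by
  constructor
  · intro e
    have h' := h.run hW
    rw [e] at h'
    have he := h'.elem_unique S h
    calc d * evalWord P.val W
        = evalWord P.val W * ((evalWord P.val W)⁻¹ * d * evalWord P.val W) := by group
      _ = evalWord P.val W * d := by rw [he]
  · intro hc
    have h' := h.run hW
    rw [mul_assoc, hc.eq, inv_mul_cancel_left] at h'
    exact h'.point_unique S h

theorem okT_iff {t : ℕ × List ℕ} (h : okT T t = true) :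
    t.1 < T.nl ∧ (∀ l ∈ t.2, l < T.nl) ∧ ∀ l ∈ dw t, l < T.nl := by
  rw [okT, Bool.and_eq_true, List.all_eq_true] at h
  have h1 : t.1 < T.nl := Nat.le_of_ble_eq_true h.1
  have h2 : ∀ l ∈ t.2, l < T.nl := fun l hl => Nat.le_of_ble_eq_true (h.2 l hl)
  refine ⟨h1, h2, fun l hl => ?_⟩
  rw [dw, List.mem_append, List.mem_reverse, List.mem_cons] at hl
  rcases hl with hl | rfl | hl
  exacts [h2 l hl, h1, h2 l hl]

/-- A transposition word sits at its point. -/
theorem DP.word (S : Setup R hnd z π) {t : ℕ × List ℕ} (h : okT T t = true) :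
    DP R hnd z (evalWord P.val (dw t)) (pw T π t) := by
  obtain ⟨h1, h2, -⟩ := okT_iff h
  rw [evalWord_dw, pw]
  exact (S.gens _ h1).run h2

/-- An element fixing the points of all generators is trivial. -/
theorem eq_one_of_fix (S : Setup R hnd z π) {W : List ℕ} (hW : ∀ l ∈ W, l < T.nl)
    (h : ∀ l < T.nl, T.run W (π.getD l 0) = π.getD l 0) : evalWord P.val W = 1 := by
  rw [← Subgroup.mem_bot, ← S.center, Subgroup.mem_center_iff]
  intro g
  have hg : g ∈ Subgroup.centralizer ({evalWord P.val W} : Set P.Gp) := by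
    refine (Subgroup.closure_le _).mpr ?_ (P.closure_val.symm ▸ Subgroup.mem_top g :
      g ∈ Subgroup.closure (P.val '' Set.Iio P.gens.length))
    rintro _ ⟨l, hl, rfl⟩
    have hl' : l < T.nl := R.nl ▸ hl
    exact Subgroup.mem_centralizer_singleton_iff.mpr (((S.gens l hl').fix_iff S hW).mp (h l hl')).eq
  exact Subgroup.mem_centralizer_singleton_iff.mp hg

theorem eq_one_of_commute (S : Setup R hnd z π) {y : P.Gp}
    (h : ∀ l < T.nl, Commute (P.val l) y) : y = 1 := by
  obtain ⟨W, hW, rfl⟩ := exists_word S y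
  exact eq_one_of_fix S hW fun l hl => ((S.gens l hl).fix_iff S hW).mpr (h l hl)

/-- The rounds confine the centralizer of the listed transpositions. -/
theorem rounds_sound (S : Setup R hnd z π) : ∀ (L : List (ℕ × List (List ℕ)))
    (F : List (ℕ × List ℕ)), RoundsOK T π F L → ∀ x : P.Gp,
    (∀ t ∈ F, Commute (evalWord P.val (dw t)) x) →
    ∃ W ∈ combos L, (∀ l ∈ W, l < T.nl) ∧ ∃ y : P.Gp, x = y * evalWord P.val W ∧
      (∀ t ∈ F, Commute (evalWord P.val (dw t)) y) ∧
      ∀ r ∈ L, Commute (P.val r.1) y := by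
  intro L
  induction L with
  | nil =>
    intro F _ x hx
    exact ⟨[], List.mem_singleton.mpr rfl, by simp, x, (mul_one x).symm, hx,
      fun r hr => absurd hr List.not_mem_nil⟩
  | cons r L ih =>
    obtain ⟨q, es⟩ := r
    rintro F ⟨hok, hpts, hrest⟩ x hx
    rw [roundOK, Bool.and_eq_true, Bool.and_eq_true, List.all_eq_true, List.all_eq_true] at hok
    obtain ⟨⟨hq', hF⟩, hes⟩ := hok
    have hq : q < T.nl := Nat.le_of_ble_eq_true hq'
    obtain ⟨U, hU, hUx⟩ := exists_word S x
    have hd := (S.gens q hq).run hU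
    rw [hUx] at hd
    have hpat : (F.all fun t => Nat.beq (T.run (dw t) (T.run U (π.getD q 0))) (T.run U (π.getD q 0)) ==
        Nat.beq (T.run (dw t) (π.getD q 0)) (π.getD q 0)) = true := by
      rw [List.all_eq_true]
      intro t ht
      have hW := (okT_iff (hF t ht)).2.2
      rw [beq_iff_eq, Bool.eq_iff_iff]
      simp only [Nat.beq_eq]
      rw [hd.fix_iff S hW, (S.gens q hq).fix_iff S hW]
      have e : evalWord P.val (dw t) = x⁻¹ * evalWord P.val (dw t) * x := by
        rw [mul_assoc, (hx t ht).eq, inv_mul_cancel_left]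
      constructor
      · intro hc
        rw [e] at hc
        exact (Commute.conj_iff x⁻¹).mp (by simpa using hc)
      · intro hc
        rw [e]
        simpa using (Commute.conj_iff x⁻¹).mpr hc
    have h := hpts _ hd.lt
    rw [roundPoint, Bool.or_eq_true, hpat, List.any_eq_true] at h
    obtain ⟨e, he, hep⟩ := h.resolve_left (by simp)
    have hes' := hes e he
    rw [Bool.and_eq_true, List.all_eq_true, List.all_eq_true] at hes'
    have heW : ∀ l ∈ e, l < T.nl := fun l hl => Nat.le_of_ble_eq_true (hes'.1 l hl)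
    have hde := (S.gens q hq).run heW
    rw [Nat.eq_of_beq_eq_true hep] at hde
    have heq := hde.elem_unique S hd
    have hyF : ∀ t ∈ F ++ [(q, [])],
        Commute (evalWord P.val (dw t)) (x * (evalWord P.val e)⁻¹) := by
      intro t ht
      rcases List.mem_append.mp ht with ht | ht
      · exact (hx t ht).mul_right
          (((DP.word S (hF t ht)).fix_iff S heW).mp
            (Nat.eq_of_beq_eq_true (hes'.2 t ht))).inv_right
      · rw [List.mem_singleton] at ht
        subst ht
        rw [evalWord_dw]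
        show Commute ((1 : P.Gp)⁻¹ * P.val q * 1) _
        rw [inv_one, one_mul, mul_one]
        calc P.val q * (x * (evalWord P.val e)⁻¹)
            = x * (x⁻¹ * P.val q * x) * (evalWord P.val e)⁻¹ := by group
          _ = x * ((evalWord P.val e)⁻¹ * P.val q * evalWord P.val e) * (evalWord P.val e)⁻¹ := by
              rw [heq]
          _ = x * (evalWord P.val e)⁻¹ * P.val q := by group
    obtain ⟨W, hWm, hW, y, hy, hyc, hyr⟩ := ih _ hrest _ hyF
    refine ⟨W ++ e, List.mem_flatMap.mpr ⟨W, hWm, List.mem_map.mpr ⟨e, he, rfl⟩⟩,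
      fun l hl => (List.mem_append.mp hl).elim (hW l) (heW l), y, ?_,
      fun t ht => hyc t (List.mem_append_left _ ht), ?_⟩
    · rw [evalWord_append, ← mul_assoc, ← hy, inv_mul_cancel_right]
    · intro r hr
      rcases List.mem_cons.mp hr with rfl | hr
      · have := hyc (q, []) (List.mem_append_right _ (List.mem_singleton.mpr rfl))
        rw [evalWord_dw] at this
        simpa [evalWord] using this
      · exact hyr r hr

/-- The centralizer of the base consists of the listed products. -/
theorem mem_combos (S : Setup R hnd z π) {base : List (ℕ × List ℕ)}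
    {L : List (ℕ × List (List ℕ))} (hL : RoundsOK T π base L)
    (hcov : ∀ l < T.nl, (l, []) ∈ base ∨ ∃ r ∈ L, r.1 = l) {x : P.Gp}
    (hx : ∀ t ∈ base, Commute (evalWord P.val (dw t)) x) :
    ∃ W ∈ combos L, (∀ l ∈ W, l < T.nl) ∧ x = evalWord P.val W := by
  obtain ⟨W, hWm, hW, y, hy, hyc, hyr⟩ := rounds_sound S L base hL x hx
  refine ⟨W, hWm, hW, ?_⟩
  rw [hy, eq_one_of_commute S (y := y) fun l hl => ?_, one_mul]
  rcases hcov l hl with h | ⟨r, hr, rfl⟩
  · have := hyc _ h
    rw [evalWord_dw] at this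
    simpa [evalWord] using this
  · exact hyr r hr

/-- Every automorphism preserves the class. -/
theorem class_preserved (S : Setup R hnd z π) (hodd : ¬ 2 ∣ T.n) (hz : z ≠ 1)
    (h3 : ∀ k : P.Gp, (z * (k * z * k⁻¹)) ^ 2 = 1 ∨ (z * (k * z * k⁻¹)) ^ 3 = 1)
    {base : List (ℕ × List ℕ)} (hbase : base.all (okT T) = true)
    (hcomm : base.all (fun t => base.all (fun u => Nat.beq (T.run (dw t) (pw T π u)) (pw T π u))) = true)
    {L : List (ℕ × List (List ℕ))} (hL : RoundsOK T π base L)
    (hcov : ∀ l < T.nl, (l, []) ∈ base ∨ ∃ r ∈ L, r.1 = l)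
    (hcode : ∀ W ∈ combos L, ∃ code, comboOK T π base W code = true)
    (φ : MulAut P.Gp) {d : P.Gp} {p : ℕ} (hd : DP R hnd z d p) : ∃ q, DP R hnd z (φ d) q := by
  haveI := S.finite
  haveI : Fact (Nat.Prime 2) := ⟨Nat.prime_two⟩
  have hbase' : ∀ t ∈ base, okT T t = true := List.all_eq_true.mp hbase
  set C := Subgroup.centralizer ({φ z} : Set P.Gp)
  have hCidx : C.index = T.n := by
    have e : (Subgroup.centralizer ({z} : Set P.Gp)).map φ.toMonoidHom = C := by
      ext x
      rw [Subgroup.mem_map_equiv, Subgroup.mem_centralizer_singleton_iff,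
        Subgroup.mem_centralizer_singleton_iff, ← φ.injective.eq_iff, map_mul, map_mul,
        MulEquiv.apply_symm_apply]
    rw [← e, show ((Subgroup.centralizer ({z} : Set P.Gp)).map φ.toMonoidHom).index =
      (Subgroup.centralizer ({z} : Set P.Gp)).index from Subgroup.index_map_equiv _ φ, S.cent,
      R.index_stab hnd S.descend]
  obtain ⟨P0⟩ : Nonempty (Sylow 2 C) := inferInstance
  have hidx : ¬ 2 ∣ ((P0 : Subgroup C).map C.subtype).index := by
    rw [Subgroup.index_map_subtype, hCidx]
    exact fun h => ((Nat.prime_two.dvd_mul).mp h).elim P0.not_dvd_index hodd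
  let Q : Sylow 2 P.Gp := (P0.2.map C.subtype).toSylow hidx
  have hQC : (Q : Subgroup P.Gp) ≤ C := Subgroup.map_subtype_le _
  set E := Subgroup.closure {g : P.Gp | ∃ t ∈ base, g = evalWord P.val (dw t)}
  have hEcomm : ∀ t ∈ base, ∀ u ∈ base,
      Commute (evalWord P.val (dw u)) (evalWord P.val (dw t)) := by
    intro t ht u hu
    rw [List.all_eq_true] at hcomm
    have := hcomm t ht
    rw [List.all_eq_true] at this
    exact ((DP.word S (hbase' u hu)).fix_iff S (okT_iff (hbase' t ht)).2.2).mp
      (Nat.eq_of_beq_eq_true (this u hu))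
  have hcen : ∀ t ∈ base, ∀ g ∈ E, Commute g (evalWord P.val (dw t)) := by
    intro t ht g hg
    induction hg using Subgroup.closure_induction with
    | mem x hx => obtain ⟨u, hu, rfl⟩ := hx; exact hEcomm t ht u hu
    | one => exact Commute.one_left _
    | mul a b _ _ ha hb => exact ha.mul_left hb
    | inv a _ ha => exact ha.inv_left
  have hEE : ∀ a ∈ E, ∀ b ∈ E, Commute a b := by
    intro a ha b hb
    induction hb using Subgroup.closure_induction with
    | mem x hx => obtain ⟨u, hu, rfl⟩ := hx; exact hcen u hu a ha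
    | one => exact Commute.one_right _
    | mul c e _ _ hc he => exact hc.mul_right he
    | inv c _ hc => exact hc.inv_right
  have hE2 : ∀ g ∈ E, g * g = 1 := by
    intro g hg
    induction hg using Subgroup.closure_induction with
    | mem x hx => obtain ⟨u, hu, rfl⟩ := hx; exact (DP.word S (hbase' u hu)).sq S
    | one => exact one_mul 1
    | mul a b ha hb ea eb =>
      have hab : Commute a b := hEE a ha b hb
      calc a * b * (a * b) = a * (b * a) * b := by group
        _ = a * a * (b * b) := by rw [← hab.eq]; group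
        _ = 1 := by rw [ea, eb, one_mul]
    | inv a _ ea => rw [← mul_inv_rev, ea, inv_one]
  have hEp : IsPGroup 2 E := fun g => ⟨1, Subtype.ext (by
    rw [Subgroup.coe_pow, pow_one, pow_two]; exact hE2 _ g.2)⟩
  obtain ⟨Q', hQ'⟩ := hEp.exists_le_sylow
  obtain ⟨g, hg⟩ := MulAction.exists_smul_eq P.Gp Q' Q
  set t := g⁻¹ * φ z * g with ht
  have htE : ∀ u ∈ base, Commute (evalWord P.val (dw u)) t := by
    intro u hu
    have hmem : g * evalWord P.val (dw u) * g⁻¹ ∈ (Q : Subgroup P.Gp) := by
      rw [← hg, Sylow.coe_subgroup_smul]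
      exact Subgroup.smul_mem_pointwise_smul _ (MulAut.conj g) _
        (hQ' (Subgroup.subset_closure ⟨u, hu, rfl⟩))
    have hc := Subgroup.mem_centralizer_singleton_iff.mp (hQC hmem)
    show evalWord P.val (dw u) * t = t * evalWord P.val (dw u)
    calc evalWord P.val (dw u) * (g⁻¹ * φ z * g)
        = g⁻¹ * (g * evalWord P.val (dw u) * g⁻¹ * φ z) * g := by group
      _ = g⁻¹ * (φ z * (g * evalWord P.val (dw u) * g⁻¹)) * g := by rw [hc]
      _ = g⁻¹ * φ z * g * evalWord P.val (dw u) := by group
  obtain ⟨W, hWm, hW, hWt⟩ := mem_combos S hL hcov htE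
  have ht3 : ∀ k : P.Gp, (t * (k * t * k⁻¹)) ^ 2 = 1 ∨ (t * (k * t * k⁻¹)) ^ 3 = 1 := by
    intro k
    have e : t * (k * t * k⁻¹) = φ (φ.symm g⁻¹ * (z * ((φ.symm g * φ.symm k * φ.symm g⁻¹) * z *
        (φ.symm g * φ.symm k * φ.symm g⁻¹)⁻¹)) * φ.symm g) := by
      simp only [map_mul, map_inv, MulEquiv.apply_symm_apply, ht]
      group
    have hpow : ∀ (a b c : P.Gp) (i : ℕ), a * c = 1 → b ^ i = 1 → (c * b * a) ^ i = 1 := by
      intro a b c i hac hb
      have hca : c = a⁻¹ := eq_inv_of_mul_eq_one_right hac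
      subst hca
      have := conj_pow (i := i) (a := a⁻¹) (b := b)
      rw [inv_inv] at this
      rw [this, hb, mul_one, inv_mul_cancel]
    have hgg : φ.symm g * φ.symm g⁻¹ = 1 := by rw [← map_mul, mul_inv_cancel, map_one]
    rcases h3 (φ.symm g * φ.symm k * φ.symm g⁻¹) with h | h
    · left; rw [e, ← map_pow, hpow _ _ _ 2 hgg h, map_one]
    · right; rw [e, ← map_pow, hpow _ _ _ 3 hgg h, map_one]
  have htD : ∃ q, DP R hnd z t q := by
    obtain ⟨code, hc⟩ := hcode W hWm
    match code, hc with
    | (0, _, _), hc =>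
      exfalso
      simp only [comboOK, List.all_eq_true, List.mem_range] at hc
      have h1 : t = 1 := hWt.trans (eq_one_of_fix S hW fun l hl => Nat.eq_of_beq_eq_true (hc l hl))
      apply hz
      apply φ.injective
      rw [map_one]
      calc φ z = g * t * g⁻¹ := by rw [ht]; group
        _ = 1 := by rw [h1]; group
    | (1, j, _), hc =>
      simp only [comboOK, Bool.and_eq_true, List.all_eq_true, List.mem_range] at hc
      obtain ⟨hj, hfix⟩ := hc
      have h1 := eq_one_of_fix S (W := W ++ dw (base.getD j (0, [])))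
        (fun l hl => (List.mem_append.mp hl).elim (hW l) ((okT_iff hj).2.2 l))
        fun l hl => Nat.eq_of_beq_eq_true (hfix l hl)
      rw [evalWord_append] at h1
      have hdd := DP.word S hj
      refine ⟨pw T π (base.getD j (0, [])), ?_⟩
      rw [hWt, show evalWord P.val W = evalWord P.val (dw (base.getD j (0, []))) from
        mul_right_cancel (h1.trans (hdd.sq S).symm)]
      exact hdd
    | (n + 2, p, U), hc =>
      exfalso
      simp only [comboOK, Bool.and_eq_true, Bool.not_eq_true', List.all_eq_true] at hc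
      obtain ⟨⟨⟨hU, hp⟩, h2⟩, h3'⟩ := hc
      have hU' : ∀ l ∈ U, l < T.nl := fun l hl => Nat.le_of_ble_eq_true (hU l hl)
      have hp' : p < T.n := Nat.le_of_ble_eq_true hp
      have hV : ∀ l ∈ W ++ (U.reverse ++ (W ++ U)), l < T.nl := by
        intro l hl
        simp only [List.mem_append, List.mem_reverse] at hl
        rcases hl with hl | hl | hl | hl
        exacts [hW l hl, hU' l hl, hW l hl, hU' l hl]
      have hVe : evalWord P.val (W ++ (U.reverse ++ (W ++ U))) =
          t * ((evalWord P.val U)⁻¹ * t * ((evalWord P.val U)⁻¹)⁻¹) := by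
        rw [evalWord_append, evalWord_append, evalWord_append, evalWord_reverse, hWt, inv_inv]
        group
      have hrun : ∀ V : List ℕ, (∀ l ∈ V, l < T.nl) → evalWord P.val V = 1 → T.run V p = p := by
        intro V hVl h1
        have := R.hom_inv_apply hnd hVl ⟨p, hp'⟩
        rw [h1, map_one, inv_one] at this
        exact this.symm
      rcases ht3 (evalWord P.val U)⁻¹ with h | h
      · refine Nat.ne_of_beq_eq_false h2 (hrun _ ?_ ?_)
        · exact fun l hl => (List.mem_append.mp hl).elim (hV l) (hV l)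
        · rw [evalWord_append, hVe, ← pow_two, h]
      · refine Nat.ne_of_beq_eq_false h3' (hrun _ ?_ ?_)
        · exact fun l hl => (List.mem_append.mp hl).elim
            (fun h' => (List.mem_append.mp h').elim (hV l) (hV l)) (hV l)
        · rw [evalWord_append, evalWord_append, hVe, ← pow_two, ← pow_succ, h]
  obtain ⟨h, rfl, -⟩ := hd
  obtain ⟨q, k, hk, -⟩ := htD
  have e : φ (h * z * h⁻¹) = (φ h * g * k) * z * (φ h * g * k)⁻¹ := by
    rw [map_mul, map_mul, map_inv, show φ z = g * t * g⁻¹ by rw [ht]; group, hk]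
    group
  exact ⟨_, _, e, rfl⟩

/-- An automorphism sends the earlier generators to the prescribed transpositions. -/
def Keeps (ψ : MulAut P.Gp) (prev : List (ℕ × (ℕ × List ℕ))) : Prop :=
  ∀ e ∈ prev, ψ (P.val e.1) = evalWord P.val (dw e.2)

/-- One step of the normalisation. -/
theorem step (S : Setup R hnd z π)
    (hD : ∀ (φ : MulAut P.Gp) (d : P.Gp) (p : ℕ), DP R hnd z d p → ∃ q, DP R hnd z (φ d) q)
    {prev : List (ℕ × (ℕ × List ℕ))} {k : ℕ} {roots : List (ℕ × List ℕ)} {ws : List (List ℕ)}
    {rank : PTree} (hok : nodeOK T π prev k roots ws = true)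
    (hpts : ∀ p < T.n, nodePoint T π prev k roots ws rank p = true)
    (ψ : MulAut P.Gp) (hψ : Keeps ψ prev) :
    ∃ h : P.Gp, ∃ t ∈ roots, Keeps (MulAut.conj h * ψ) (prev ++ [(k, t)]) := by
  simp only [nodeOK, Bool.and_eq_true, List.all_eq_true, Bool.not_eq_true'] at hok
  obtain ⟨⟨⟨hk', hroots⟩, hprev⟩, hws⟩ := hok
  have hk : k < T.nl := Nat.le_of_ble_eq_true hk'
  suffices key : ∀ (m : ℕ) (ψ : MulAut P.Gp), Keeps ψ prev → ∀ p, DP R hnd z (ψ (P.val k)) p →
      rank.get 16 p ≤ m → ∃ h : P.Gp, ∃ t ∈ roots, Keeps (MulAut.conj h * ψ) (prev ++ [(k, t)]) by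
    obtain ⟨p, hp⟩ := hD ψ _ _ (S.gens k hk)
    exact key _ ψ hψ p hp le_rfl
  intro m
  induction m using Nat.strong_induction_on with
  | _ m ih =>
  intro ψ hψ p hp hm
  have hin : inS T π prev k p = true := by
    rw [inS, List.all_eq_true]
    intro e he
    obtain ⟨⟨he1, het⟩, hne⟩ := hprev e he
    have he1' : e.1 < T.nl := Nat.le_of_ble_eq_true he1
    have hde : DP R hnd z (ψ (P.val e.1)) (pw T π e.2) := hψ e he ▸ DP.word S het
    rw [Bool.and_eq_true, beq_iff_eq, Bool.eq_iff_iff]
    simp only [Nat.beq_eq, Bool.not_eq_true']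
    refine ⟨?_, ?_⟩
    · rw [hp.fix_iff S (okT_iff het).2.2, (S.gens _ he1').fix_iff S (W := [k]) (by simpa using hk),
        evalWord_singleton, ← hψ e he]
      constructor
      · intro hc
        exact ψ.injective (by rw [map_mul, map_mul]; exact hc.eq.symm)
      · intro hc
        exact (hc.map ψ).symm
    · by_contra hcon
      rw [Bool.not_eq_false, Nat.beq_eq] at hcon
      have := ψ.injective ((hp.elem_unique S (hcon ▸ hde)))
      have hpt := (S.gens k hk).point_unique S (this ▸ S.gens _ he1')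
      exact Nat.ne_of_beq_eq_false hne hpt.symm
  have h := hpts p hp.lt
  rw [nodePoint, hin, Bool.or_eq_true, Bool.or_eq_true] at h
  rcases h with (h | h) | h
  · simp at h
  · rw [List.any_eq_true] at h
    obtain ⟨t, ht, htp⟩ := h
    refine ⟨1, t, ht, ?_⟩
    rw [map_one, one_mul]
    intro e he
    rcases List.mem_append.mp he with he | he
    · exact hψ e he
    · rw [List.mem_singleton] at he
      subst he
      exact hp.elem_unique S (Nat.eq_of_beq_eq_true htp ▸ DP.word S (hroots t ht))
  · rw [List.any_eq_true] at h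
    obtain ⟨W, hW, hlt⟩ := h
    obtain ⟨hWl, hWfix⟩ := hws W hW
    have hW' : ∀ l ∈ W, l < T.nl := fun l hl => Nat.le_of_ble_eq_true (hWl l hl)
    set u := evalWord P.val W
    have hkeep : Keeps (MulAut.conj u⁻¹ * ψ) prev := by
      intro e he
      obtain ⟨⟨-, het⟩, -⟩ := hprev e he
      have hc := ((DP.word S het).fix_iff S hW').mp (Nat.eq_of_beq_eq_true (hWfix e he))
      rw [MulAut.mul_apply, hψ e he, MulAut.conj_apply, inv_inv, mul_assoc, hc.eq,
        inv_mul_cancel_left]
    have hp' : DP R hnd z ((MulAut.conj u⁻¹ * ψ) (P.val k)) (T.run W p) := by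
      rw [MulAut.mul_apply, MulAut.conj_apply, inv_inv]
      exact hp.run hW'
    obtain ⟨h', t, ht, hk2⟩ := ih (rank.get 16 (T.run W p))
      (lt_of_lt_of_le (Nat.le_of_ble_eq_true hlt) hm) _ hkeep _ hp' le_rfl
    refine ⟨h' * u⁻¹, t, ht, ?_⟩
    rw [map_mul, mul_assoc]
    exact hk2

/-- An automorphism keeping every generator is the identity. -/
theorem eq_one_of_keeps (ψ : MulAut P.Gp) {prev : List (ℕ × (ℕ × List ℕ))} (hψ : Keeps ψ prev)
    (hall : ∀ l < P.gens.length, (l, (l, [])) ∈ prev) : ψ = 1 := by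
  refine MulEquiv.ext fun g => ?_
  have hg : g ∈ Subgroup.closure (P.val '' Set.Iio P.gens.length) :=
    P.closure_val.symm ▸ Subgroup.mem_top g
  induction hg using Subgroup.closure_induction with
  | mem x hx =>
    obtain ⟨l, hl, rfl⟩ := hx
    have := hψ _ (hall l hl)
    rw [evalWord_dw] at this
    simpa [evalWord] using this
  | one => simp
  | mul a b _ _ ha hb => rw [map_mul, ha, hb]; rfl
  | inv a _ ha => rw [map_inv, ha]; rfl

end Cfsg.Agent.Recog71.FischerOut
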