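import Cfsg.Agent.SporB.Fi23.Class
import Cfsg.Agent.Recog71.FischerOutCore
import Cfsg.Agent.Recog71.Fi23Out.Node0
import Cfsg.Agent.Recog71.Fi23Out.Node1
import Cfsg.Agent.Recog71.Fi23Out.Node2
import Cfsg.Agent.Recog71.Fi23Out.Node3
import Cfsg.Agent.Recog71.Fi23Out.Node4
import Cfsg.Agent.Recog71.Fi23Out.Node5
import Cfsg.Agent.Recog71.Fi23Out.Node6
import Cfsg.Agent.Recog71.Fi23Out.Node7
import Cfsg.Agent.Recog71.Fi23Out.Node8
import Cfsg.Agent.Recog71.Fi23Out.Node9
import Cfsg.Agent.Recog71.Fi23Out.Node10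
import Cfsg.Agent.Recog71.Fi23Out.Node11
import Cfsg.Agent.Recog71.Fi23Out.Node12
import Cfsg.Agent.Recog71.Fi23Out.Node13
import Cfsg.Agent.Recog71.Fi23Out.Node14
import Cfsg.Agent.Recog71.Fi23Out.Node15
import Cfsg.Agent.Recog71.Fi23Out.Round0
import Cfsg.Agent.Recog71.Fi23Out.Round1
import Cfsg.Agent.Recog71.Fi23Out.Round2
import Cfsg.Agent.Recog71.Fi23Out.Round3
import Cfsg.Agent.Recog71.Fi23Out.Round4
import Cfsg.Agent.Recog71.Fi23Out.Code0
import Cfsg.Agent.Recog71.Fi23Out.Code1
import Cfsg.Agent.Recog71.Fi23Out.Code2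
import Cfsg.Agent.Recog71.Fi23Out.Code3
import Cfsg.Prelude.Def_KGroupFacts

/-!
The outer automorphism group of `Fi23` is trivial.
-/

set_option autoImplicit false
set_option maxRecDepth 100000

namespace Cfsg.Agent.Recog71.Fi23Out

open Cfsg.Agent.CosetEnum
open Cfsg.Agent.Recog71.FischerOut

theorem tbl_n : Fi23.Rep.tbl.n = 31671 := rfl

theorem tbl_nl : Fi23.Rep.tbl.nl = 10 := rfl

theorem dp_step {i j : ℕ} (hi : i < 10) (hj : j < 10)
    (hrel : [i, j, i, j, i, j] ∈ Fi23.pres.relWords)
    (hrun : Fi23.Rep.tbl.run [j, i] (pi.getD i 0) = pi.getD j 0)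
    (h : DP Fi23.rep Fi23.nodup Fi23.z (Fi23.pres.val i) (pi.getD i 0)) :
    DP Fi23.rep Fi23.nodup Fi23.z (Fi23.pres.val j) (pi.getD j 0) := by
  have hl : ∀ l ∈ [j, i], l < Fi23.Rep.tbl.nl := by
    intro l hl
    rw [tbl_nl]
    simp only [List.mem_cons, List.not_mem_nil, or_false] at hl
    rcases hl with rfl | rfl <;> assumption
  have h' := h.run hl
  rw [hrun] at h'
  have hb := Fi23.pres.rel_val _ hrel
  simp only [evalWord] at hb
  have e := Fi23.braid (val_sq i) (val_sq j) hb
  rw [show evalWord Fi23.pres.val [j, i] = Fi23.pres.val j * Fi23.pres.val i by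
    simp [evalWord]] at h'
  rw [mul_inv_rev, val_inv, val_inv] at e h'
  rw [e] at h'
  exact h'

theorem dp_gens : ∀ l < Fi23.Rep.tbl.nl,
    DP Fi23.rep Fi23.nodup Fi23.z (Fi23.pres.val l) (pi.getD l 0) := by
  have hz : DP Fi23.rep Fi23.nodup Fi23.z Fi23.z 0 := ⟨1, by simp, by rw [map_one]; rfl⟩
  have h1 := hz.run (W := Fi23.Rep.conjU) (by decide)
  rw [show Fi23.Rep.tbl.run Fi23.Rep.conjU 0 = pi.getD 1 0 by decide +kernel] at h1
  have e1 : (evalWord Fi23.pres.val Fi23.Rep.conjU)⁻¹ * Fi23.z *
      evalWord Fi23.pres.val Fi23.Rep.conjU = Fi23.pres.val 1 := by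
    rw [Fi23.z_conj, show Fi23.Rep.conjL = 1 from rfl]
    group
  rw [e1] at h1
  have h0 := dp_step (i := 1) (j := 0) (by omega) (by omega) (by decide +kernel) (by decide +kernel) h1
  have h2 := dp_step (i := 1) (j := 2) (by omega) (by omega) (by decide +kernel) (by decide +kernel) h1
  have h3 := dp_step (i := 2) (j := 3) (by omega) (by omega) (by decide +kernel) (by decide +kernel) h2
  have h4 := dp_step (i := 3) (j := 4) (by omega) (by omega) (by decide +kernel) (by decide +kernel) h3
  have h5 := dp_step (i := 4) (j := 5) (by omega) (by omega) (by decide +kernel) (by decide +kernel) h4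
  have h6 := dp_step (i := 5) (j := 6) (by omega) (by omega) (by decide +kernel) (by decide +kernel) h5
  have h7 := dp_step (i := 6) (j := 7) (by omega) (by omega) (by decide +kernel) (by decide +kernel) h6
  have h8 := dp_step (i := 3) (j := 8) (by omega) (by omega) (by decide +kernel) (by decide +kernel) h3
  have h9 := dp_step (i := 8) (j := 9) (by omega) (by omega) (by decide +kernel) (by decide +kernel) h8
  intro l hl
  rw [tbl_nl] at hl
  interval_cases l <;> assumption

theorem setup : Setup Fi23.rep Fi23.nodup Fi23.z pi where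
  cent := Fi23.centralizer_z.trans Fi23.H_stab.1
  descend := Fi23.Rep.descend
  sq := Fi23.z_sq
  gens := dp_gens
  center := by
    haveI := Fi23.simple
    rcases (inferInstance : (Subgroup.center Fi23.pres.Gp).Normal).eq_bot_or_eq_top with h | h
    · exact h
    exfalso
    letI : CommGroup Fi23.pres.Gp :=
      { (inferInstance : Group Fi23.pres.Gp) with
        mul_comm := fun a b => Subgroup.mem_center_iff.mp (h ▸ Subgroup.mem_top b) a }
    have hp := IsSimpleGroup.prime_card (α := Fi23.pres.Gp)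
    rw [Fi23.card_eq] at hp
    exact absurd hp (by norm_num)
  finite := Fi23.finite

theorem rounds_ok : RoundsOK Fi23.Rep.tbl pi base rounds :=
  ⟨roundOK0, round0, roundOK1, round1, roundOK2, round2, roundOK3, round3, roundOK4, round4,
    trivial⟩

theorem combo_length : (combos rounds).length = 2048 := by decide +kernel

theorem combo_code : ∀ W ∈ combos rounds, ∃ code, comboOK Fi23.Rep.tbl pi base W code = true := by
  intro W hW
  obtain ⟨c, hc, rfl⟩ := List.getElem_of_mem hW
  rw [← List.getD_eq_getElem (combos rounds) [] hc]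
  rw [combo_length] at hc
  rcases Nat.lt_or_ge c 128 with h | h
  · exact ⟨_, allRange_spec code0 c (by omega) (by omega)⟩
  rcases Nat.lt_or_ge c 256 with h | h
  · exact ⟨_, allRange_spec code1 c (by omega) (by omega)⟩
  rcases Nat.lt_or_ge c 384 with h | h
  · exact ⟨_, allRange_spec code2 c (by omega) (by omega)⟩
  rcases Nat.lt_or_ge c 512 with h | h
  · exact ⟨_, allRange_spec code3 c (by omega) (by omega)⟩
  rcases Nat.lt_or_ge c 640 with h | h
  · exact ⟨_, allRange_spec code4 c (by omega) (by omega)⟩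
  rcases Nat.lt_or_ge c 768 with h | h
  · exact ⟨_, allRange_spec code5 c (by omega) (by omega)⟩
  rcases Nat.lt_or_ge c 896 with h | h
  · exact ⟨_, allRange_spec code6 c (by omega) (by omega)⟩
  rcases Nat.lt_or_ge c 1024 with h | h
  · exact ⟨_, allRange_spec code7 c (by omega) (by omega)⟩
  rcases Nat.lt_or_ge c 1152 with h | h
  · exact ⟨_, allRange_spec code8 c (by omega) (by omega)⟩
  rcases Nat.lt_or_ge c 1280 with h | h
  · exact ⟨_, allRange_spec code9 c (by omega) (by omega)⟩
  rcases Nat.lt_or_ge c 1408 with h | h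
  · exact ⟨_, allRange_spec code10 c (by omega) (by omega)⟩
  rcases Nat.lt_or_ge c 1536 with h | h
  · exact ⟨_, allRange_spec code11 c (by omega) (by omega)⟩
  rcases Nat.lt_or_ge c 1664 with h | h
  · exact ⟨_, allRange_spec code12 c (by omega) (by omega)⟩
  rcases Nat.lt_or_ge c 1792 with h | h
  · exact ⟨_, allRange_spec code13 c (by omega) (by omega)⟩
  rcases Nat.lt_or_ge c 1920 with h | h
  · exact ⟨_, allRange_spec code14 c (by omega) (by omega)⟩
  exact ⟨_, allRange_spec code15 c (by omega) (by omega)⟩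

theorem preserved (φ : MulAut Fi23.pres.Gp) (d : Fi23.pres.Gp) (p : ℕ)
    (hd : DP Fi23.rep Fi23.nodup Fi23.z d p) : ∃ q, DP Fi23.rep Fi23.nodup Fi23.z (φ d) q :=
  class_preserved setup (by rw [tbl_n]; norm_num) Fi23.z_ne_one Fi23.conj_cases
    (base := base) (by decide +kernel) (by decide +kernel) rounds_ok
    (fun l hl => by
      rw [tbl_nl] at hl
      interval_cases l <;>
        first
        | exact Or.inl (by decide)
        | exact Or.inr (by decide))
    combo_code φ hd

theorem exists_conj (φ : MulAut Fi23.pres.Gp) : ∃ g, MulAut.conj g = φ := by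
  obtain ⟨h0, t0, ht0, k0⟩ := step setup preserved nodeOK0 node0 φ (fun e he => absurd he List.not_mem_nil)
  obtain rfl := List.mem_singleton.mp ht0
  obtain ⟨h1, t1, ht1, k1⟩ := step setup preserved nodeOK1 node1 _ k0
  obtain rfl := List.mem_singleton.mp ht1
  obtain ⟨h2, t2, ht2, k2⟩ := step setup preserved nodeOK2 node2 _ k1
  obtain rfl := List.mem_singleton.mp ht2
  obtain ⟨h3, t3, ht3, k3⟩ := step setup preserved nodeOK3 node3 _ k2
  obtain rfl := List.mem_singleton.mp ht3
  obtain ⟨h4, t4, ht4, k4⟩ := step setup preserved nodeOK4 node4 _ k3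
  simp only [roots4, List.mem_cons, List.not_mem_nil, or_false] at ht4
  rcases ht4 with rfl | rfl
  · obtain ⟨h5, t5, ht5, k5⟩ := step setup preserved nodeOK5 node5 _ k4
    obtain rfl := List.mem_singleton.mp ht5
    obtain ⟨h6, t6, ht6, k6⟩ := step setup preserved nodeOK6 node6 _ k5
    simp only [roots6, List.mem_cons, List.not_mem_nil, or_false] at ht6
    rcases ht6 with rfl | rfl
    · obtain ⟨h7, t7, ht7, k7⟩ := step setup preserved nodeOK7 node7 _ k6
      obtain rfl := List.mem_singleton.mp ht7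
      obtain ⟨h8, t8, ht8, k8⟩ := step setup preserved nodeOK8 node8 _ k7
      obtain rfl := List.mem_singleton.mp ht8
      obtain ⟨h9, t9, ht9, k9⟩ := step setup preserved nodeOK9 node9 _ k8
      obtain rfl := List.mem_singleton.mp ht9
      have e := eq_one_of_keeps _ k9 (by decide)
      refine ⟨(h9 * h8 * h7 * h6 * h5 * h4 * h3 * h2 * h1 * h0)⁻¹, ?_⟩
      rw [map_inv, inv_eq_iff_mul_eq_one]
      simpa only [map_mul, mul_assoc] using e
    · obtain ⟨h7, t7, ht7, k7⟩ := step setup preserved nodeOK10 node10 _ k6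
      obtain rfl := List.mem_singleton.mp ht7
      obtain ⟨h8, t8, ht8, -⟩ := step setup preserved nodeOK11 node11 _ k7
      exact absurd ht8 List.not_mem_nil
  · obtain ⟨h5, t5, ht5, k5⟩ := step setup preserved nodeOK12 node12 _ k4
    obtain rfl := List.mem_singleton.mp ht5
    obtain ⟨h6, t6, ht6, k6⟩ := step setup preserved nodeOK13 node13 _ k5
    obtain rfl := List.mem_singleton.mp ht6
    obtain ⟨h7, t7, ht7, k7⟩ := step setup preserved nodeOK14 node14 _ k6
    obtain rfl := List.mem_singleton.mp ht7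
    obtain ⟨h8, t8, ht8, -⟩ := step setup preserved nodeOK15 node15 _ k7
    exact absurd ht8 List.not_mem_nil

theorem card_out : Nat.card (Cfsg.Out Fi23.pres.Gp) = 1 := by
  haveI : Subsingleton (Cfsg.Out Fi23.pres.Gp) := by
    refine QuotientGroup.subsingleton_iff.mpr ?_
    rw [Subgroup.eq_top_iff']
    intro φ
    obtain ⟨g, hg⟩ := exists_conj φ
    exact ⟨g, hg⟩
  exact Nat.card_unique

end Cfsg.Agent.Recog71.Fi23Out
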