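import Cfsg.Agent.Recog71.J1Order
import Cfsg.Agent.Lib.SmallGroups.Local
import Cfsg.Agent.Lib.SmallGroups.Counting

set_option autoImplicit false
set_option maxRecDepth 10000

/-!
The simplicity of the first Janko group.
-/

namespace Cfsg.Agent.Recog71.J1

open Cfsg Subgroup MulAction

/-- No element of order `q` commutes with an element of order `p` if `p * q` is not an element order. -/
theorem not_commute_of_orders {G : Type*} [Group G] {x y : G} {p q : ℕ} (hp : p.Prime) (hq : q.Prime)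
    (hne : p ≠ q) (hx : orderOf x = q) (hy : orderOf y = p) (hno : ∀ g : G, orderOf g ≠ p * q) :
    ¬ Commute y x := fun h => hno (y * x) (by
      rw [h.orderOf_mul_eq_mul_orderOf_of_coprime
        (by rw [hx, hy]; exact (Nat.coprime_primes hp hq).mpr hne), hx, hy])

/-- An element of order `q` fixes no nontrivial element of a normal subgroup of order prime to `q`. -/
theorem modEq_one {G : Type*} [Group G] [Finite G] (N : Subgroup G) [N.Normal] {x : G} {q : ℕ}
    [Fact q.Prime] (hx : orderOf x = q) (h : ∀ y ∈ N, Commute y x → y = 1) :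
    Nat.card N ≡ 1 [MOD q] := by
  letI : MulAction G N := MulAction.compHom N (MulAut.conjNormal (H := N))
  have hmod := SmallGroups.card_fixedBy_modEq_card (q := q) (i := 1) (α := N) (x := x)
    (by rw [pow_one, ← hx, pow_orderOf_eq_one])
  have hone : Nat.card (fixedBy N x) = 1 := by
    rw [Nat.card_eq_one_iff_exists]
    refine ⟨⟨1, ?_⟩, fun a => Subtype.ext (Subtype.ext (h a.1.1 a.1.2 ?_))⟩
    · show MulAut.conjNormal x (1 : N) = 1
      exact map_one _
    · have e : x * (a.1.1 : G) * x⁻¹ = a.1.1 :=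
        (MulAut.conjNormal_apply x a.1).symm.trans
          (congrArg Subtype.val (a.2 : MulAut.conjNormal x a.1 = a.1))
      exact (mul_inv_eq_iff_eq_mul.mp e).symm
  rw [hone] at hmod
  exact hmod.symm

/-- A normal subgroup of order prime to `q` has no Sylow subgroup of prime order `p` if `q` does not
divide `p - 1` and no element has order `p * q`. -/
theorem not_dvd_of_no_orders {G : Type*} [Group G] [Finite G] (N : Subgroup G) [N.Normal] {x : G}
    {p q : ℕ} [Fact p.Prime] [Fact q.Prime] (hne : p ≠ q) (hx : orderOf x = q)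
    (hqN : ¬ q ∣ Nat.card N) (hp2 : ¬ p ^ 2 ∣ Nat.card N) (hq : ¬ q ∣ p - 1)
    (hno : ∀ g : G, orderOf g ≠ p * q) : ¬ p ∣ Nat.card N := by
  intro hdvd
  letI : MulAction G (Sylow p N) := MulAction.compHom (Sylow p N) (MulAut.conjNormal (H := N))
  have hmod := SmallGroups.card_fixedBy_modEq_card (q := q) (i := 1) (α := Sylow p N) (x := x)
    (by rw [pow_one, ← hx, pow_orderOf_eq_one])
  obtain ⟨⟨P, hP⟩⟩ : Nonempty (fixedBy (Sylow p N) x) := by
    by_contra h
    haveI := not_nonempty_iff.mp h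
    rw [Nat.card_of_isEmpty] at hmod
    obtain ⟨P₀⟩ : Nonempty (Sylow p N) := inferInstance
    exact hqN (((Nat.modEq_zero_iff_dvd).mp hmod.symm).trans (P₀.card_dvd_index.trans
      (Subgroup.index_dvd_card _)))
  have hPc : Nat.card (P : Subgroup N) = p := by
    obtain ⟨n, hn⟩ := P.2.exists_card_eq
    have h1 : n ≠ 0 := by
      rintro rfl
      rw [pow_zero] at hn
      exact P.not_dvd_index (by
        have e := (P : Subgroup N).card_mul_index
        rw [hn, one_mul] at e
        rwa [e])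
    have h2 : ¬ 2 ≤ n := fun h2 => hp2 ((pow_dvd_pow p h2).trans (hn ▸ card_subgroup_dvd_card _))
    rw [hn, show n = 1 by omega, pow_one]
  haveI : IsCyclic (P : Subgroup N) := isCyclic_of_prime_card hPc
  let φ : MulAut N := MulAut.conjNormal x
  have hmap : (P : Subgroup N).map φ.toMonoidHom = P :=
    congrArg (fun R : Sylow p N => (R : Subgroup N)) (hP : φ • P = P)
  obtain ⟨y, hy⟩ := exists_prime_orderOf_dvd_card' (G := (P : Subgroup N)) p (by rw [hPc])
  have hyG : orderOf ((y : N) : G) = p := by rw [Subgroup.orderOf_coe, Subgroup.orderOf_coe, hy]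
  have hgen : Subgroup.zpowers (y : N) = (P : Subgroup N) :=
    SmallGroups.zpowers_eq_of_card_prime hPc y.2 (fun e => by
      rw [← Subgroup.orderOf_coe, e, orderOf_one] at hy; exact (Fact.out : p.Prime).one_lt.ne hy)
  obtain ⟨k, hk⟩ : φ (y : N) ∈ Subgroup.zpowers (y : N) := by
    exact hgen.ge (hmap.le (Subgroup.mem_map_of_mem φ.toMonoidHom y.2))
  replace hk : (y : N) ^ k = φ (y : N) := hk
  have hiter : ∀ n : ℕ, (φ ^ n) (y : N) = (y : N) ^ (k ^ n) := by
    intro n
    induction n with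
    | zero => simp
    | succ n ih => rw [pow_succ', MulAut.mul_apply, ih, map_zpow, ← hk, ← zpow_mul, pow_succ']
  have hq1 : φ ^ q = 1 := by rw [← map_pow, ← hx, pow_orderOf_eq_one, map_one]
  have hkq : (y : N) ^ (k ^ q) = (y : N) ^ (1 : ℤ) := by rw [← hiter, hq1, zpow_one]; rfl
  rw [zpow_eq_zpow_iff_modEq, Subgroup.orderOf_coe, hy, ← ZMod.intCast_eq_intCast_iff] at hkq
  push_cast at hkq
  have hk1 : (k : ZMod p) = 1 := by
    have hne0 : (k : ZMod p) ≠ 0 := fun h0 => by
      rw [h0, zero_pow (Fact.out : q.Prime).ne_zero] at hkq; exact zero_ne_one hkq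
    rw [← orderOf_eq_one_iff]
    rcases (Nat.dvd_prime Fact.out).mp (orderOf_dvd_of_pow_eq_one hkq) with h | h
    · exact h
    · exact absurd (h ▸ ZMod.orderOf_dvd_card_sub_one hne0) hq
  have hfix : φ (y : N) = (y : N) := by
    rw [← hk]
    conv_rhs => rw [← zpow_one (y : N)]
    rw [zpow_eq_zpow_iff_modEq, Subgroup.orderOf_coe, hy, ← ZMod.intCast_eq_intCast_iff]
    simpa using hk1
  have hcomm := congrArg Subtype.val hfix
  rw [MulAut.conjNormal_apply, mul_inv_eq_iff_eq_mul] at hcomm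
  exact not_commute_of_orders Fact.out Fact.out hne hx hyG hno hcomm.symm

theorem orderOf_ne {n : ℕ} (hn : n ∉ omega) (g : Spor.J1) : orderOf g ≠ n :=
  fun h => hn (h ▸ orderOf_mem g)

theorem eq_one_of_commute {N : Subgroup Spor.J1} {q : ℕ} (hq : q.Prime)
    (hqN : ¬ q ∣ Nat.card N) (hom : ∀ m ∈ omega, q ∣ m → m = q) {x : Spor.J1} (hx : orderOf x = q)
    {y : Spor.J1} (hy : y ∈ N) (hc : Commute y x) : y = 1 := by
  have hcop : Nat.Coprime (orderOf y) q := by
    rw [Nat.coprime_comm, hq.coprime_iff_not_dvd]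
    exact fun h => hqN (h.trans (orderOf_dvd_natCard N hy))
  have h := hc.orderOf_mul_eq_mul_orderOf_of_coprime (hx ▸ hcop)
  rw [hx] at h
  have := hom _ (orderOf_mem (y * x)) (h ▸ Dvd.intro_left _ rfl)
  rw [h] at this
  exact orderOf_eq_one_iff.mp ((Nat.mul_eq_right hq.ne_zero).mp this)

theorem eq_bot_of_not_dvd (N : Subgroup Spor.J1) [N.Normal] (h11 : ¬ 11 ∣ Nat.card N) : N = ⊥ := by
  haveI : Fact (Nat.Prime 11) := ⟨by norm_num⟩
  haveI : Fact (Nat.Prime 19) := ⟨by norm_num⟩
  haveI : Fact (Nat.Prime 7) := ⟨by norm_num⟩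
  obtain ⟨x, hx⟩ := exists_orderOf (n := 11) (by decide)
  obtain ⟨z, hz⟩ := exists_orderOf (n := 19) (by decide)
  have hdvd : Nat.card N ∣ 175560 := card_J1 ▸ card_subgroup_dvd_card N
  have hsq : ∀ p : ℕ, ¬ p ^ 2 ∣ 175560 → ¬ p ^ 2 ∣ Nat.card N := fun p hp h => hp (h.trans hdvd)
  have h19 : ¬ 19 ∣ Nat.card N :=
    not_dvd_of_no_orders N (by norm_num) hx h11 (hsq 19 (by norm_num)) (by norm_num)
      (orderOf_ne (by decide))
  have h7 : ¬ 7 ∣ Nat.card N :=
    not_dvd_of_no_orders N (by norm_num) hz h19 (hsq 7 (by norm_num)) (by norm_num)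
      (orderOf_ne (by decide))
  have m11 : Nat.card N ≡ 1 [MOD 11] :=
    modEq_one N hx fun y hy hc => eq_one_of_commute (by norm_num) h11 (by decide) hx hy hc
  have m19 : Nat.card N ≡ 1 [MOD 19] :=
    modEq_one N hz fun y hy hc => eq_one_of_commute (by norm_num) h19 (by decide) hz hy hc
  have c11 : Nat.Coprime (Nat.card N) 11 :=
    ((Nat.Prime.coprime_iff_not_dvd (by norm_num)).mpr h11).symm
  have c19 : Nat.Coprime (Nat.card N) 19 :=
    ((Nat.Prime.coprime_iff_not_dvd (by norm_num)).mpr h19).symm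
  have c7 : Nat.Coprime (Nat.card N) 7 :=
    ((Nat.Prime.coprime_iff_not_dvd (by norm_num)).mpr h7).symm
  have h120 : Nat.card N ∣ 120 :=
    ((c11.mul_right c19).mul_right c7).dvd_of_dvd_mul_left (by
      rw [show 11 * 19 * 7 * 120 = 175560 by norm_num]; exact hdvd)
  have hpos : 0 < Nat.card N := Nat.card_pos
  have hle : Nat.card N ≤ 120 := Nat.le_of_dvd (by norm_num) h120
  have h209 : Nat.card N ≡ 1 [MOD 11 * 19] :=
    (Nat.modEq_and_modEq_iff_modEq_mul (by norm_num)).mp ⟨m11, m19⟩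
  have h1 : Nat.card N = 1 := Nat.ModEq.eq_of_lt_of_lt h209 (by omega) (by norm_num)
  exact Subgroup.card_eq_one.mp h1

theorem gen_pow_valid : npowM (Gn 0) 7 = idm ∧ npowM (Gn 1) 5 = idm ∧
    npowM (word [0, 1, 1]) 11 = idm ∧ toMat (word [0, 1, 1]) ≠ 1 := by
  decide +kernel

theorem eq_top_of_dvd (N : Subgroup Spor.J1) [N.Normal] (h11 : 11 ∣ Nat.card N) : N = ⊤ := by
  haveI : Fact (Nat.Prime 11) := ⟨by norm_num⟩
  let x : Spor.J1 := ⟨Spor.jankoX, Subgroup.subset_closure (Or.inl rfl)⟩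
  let y : Spor.J1 := ⟨Spor.jankoY, Subgroup.subset_closure (Or.inr rfl)⟩
  have hgx : good (Gn 0) = true := gen_valid.1 ⟨0, by norm_num⟩
  have hgy : good (Gn 1) = true := gen_valid.1 ⟨1, by norm_num⟩
  have hmx : mat x = toMat (Gn 0) := gen_valid.2.1.symm
  have hmy : mat y = toMat (Gn 1) := gen_valid.2.2.1.symm
  have hx7 : x ^ 7 = 1 := mat_injective (by
    show mat (x ^ 7 : Spor.J1) = mat (1 : Spor.J1)
    rw [mat_pow, hmx, ← (toMat_npowM hgx 7).2, gen_pow_valid.1, toMat_idm, mat_one])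
  have hy5 : y ^ 5 = 1 := mat_injective (by
    show mat (y ^ 5 : Spor.J1) = mat (1 : Spor.J1)
    rw [mat_pow, hmy, ← (toMat_npowM hgy 5).2, gen_pow_valid.2.1, toMat_idm, mat_one])
  have hw : good (word [0, 1, 1]) = true ∧
      mat (x * (y * y) : Spor.J1) = toMat (word [0, 1, 1]) := by
    simp only [word, force_eq]
    refine ⟨good_mul hgx (good_mul hgy (good_mul hgy good_idm)), ?_⟩
    rw [mat_mul, mat_mul, hmx, hmy, toMat_mul hgx (good_mul hgy (good_mul hgy good_idm)),
      toMat_mul hgy (good_mul hgy good_idm), toMat_mul hgy good_idm, toMat_idm, mul_one]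
  set e : Spor.J1 := x * (y * y) with he
  have he11 : orderOf e = 11 := by
    refine orderOf_eq_prime (mat_injective ?_) fun h => gen_pow_valid.2.2.2 ?_
    · show mat (e ^ 11 : Spor.J1) = mat (1 : Spor.J1)
      rw [mat_pow, hw.2, ← (toMat_npowM hw.1 11).2, gen_pow_valid.2.2.1, toMat_idm, mat_one]
    · rw [← hw.2, h, mat_one]
  have heN : e ∈ N := by
    obtain ⟨u, hu⟩ := exists_prime_orderOf_dvd_card' (G := N) 11 h11
    have hc : ∀ P : Sylow 11 Spor.J1, Nat.card (P : Subgroup Spor.J1) = 11 := fun P => by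
      rw [P.card_eq_multiplicity, card_J1]
      rw [show (175560 : ℕ).factorization 11 = 1 by
        rw [Nat.factorization_def _ (by norm_num : (Nat.Prime 11)),
          show (175560 : ℕ) = 11 ^ 1 * 15960 by norm_num,
          padicValNat.mul (by norm_num) (by norm_num), padicValNat.prime_pow,
          padicValNat.eq_zero_of_not_dvd (by norm_num : ¬ 11 ∣ 15960)]]
      norm_num
    have hu' : orderOf (u : Spor.J1) = 11 := by rw [Subgroup.orderOf_coe, hu]
    obtain ⟨P, hP⟩ := SmallGroups.exists_mem_sylow hu'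
    obtain ⟨Q, hQ⟩ := SmallGroups.exists_mem_sylow he11
    obtain ⟨g, hg⟩ := MulAction.exists_smul_eq Spor.J1 P Q
    have hPN : (P : Subgroup Spor.J1) ≤ N := by
      rw [← SmallGroups.zpowers_eq_of_card_prime (hc P) hP (fun h => by
        rw [h, orderOf_one] at hu'; norm_num at hu')]
      exact Subgroup.zpowers_le.mpr u.2
    have h : e ∈ ((g • P : Sylow 11 Spor.J1) : Subgroup Spor.J1) := by rw [hg]; exact hQ
    rw [Sylow.coe_subgroup_smul] at h
    obtain ⟨v, hv, hve⟩ := h
    rw [← hve]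
    exact Subgroup.Normal.conj_mem ‹_› v (hPN hv) g
  let π := QuotientGroup.mk' N
  have h1 : π x * (π y * π y) = 1 := by
    rw [← map_mul, ← map_mul]
    exact (QuotientGroup.eq_one_iff e).mpr heN
  have px : π x = (π y ^ 2)⁻¹ := by rw [sq]; exact eq_inv_of_mul_eq_one_left h1
  have hx1 : π x = 1 := by
    have a : π x ^ 7 = 1 := by rw [← map_pow, hx7, map_one]
    have b : π x ^ 5 = 1 := by
      rw [px, inv_pow, ← pow_mul, mul_comm, pow_mul, ← map_pow, hy5, map_one, one_pow, inv_one]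
    have h := pow_gcd_eq_one.mpr ⟨a, b⟩
    simpa using h
  have hy1 : π y = 1 := by
    have a : π y ^ 2 = 1 := by rw [← inv_eq_one, ← px, hx1]
    have b : π y ^ 5 = 1 := by rw [← map_pow, hy5, map_one]
    have h := pow_gcd_eq_one.mpr ⟨a, b⟩
    simpa using h
  replace hx1 : x ∈ N := (QuotientGroup.eq_one_iff x).mp hx1
  replace hy1 : y ∈ N := (QuotientGroup.eq_one_iff y).mp hy1
  rw [eq_top_iff]
  rintro ⟨g, hg⟩ -
  have key : ∀ g ∈ Spor.J1, ∀ hg : g ∈ Spor.J1, (⟨g, hg⟩ : Spor.J1) ∈ N := by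
    intro g hg
    induction hg using Subgroup.closure_induction with
    | mem a ha =>
      intro _
      rcases ha with rfl | rfl
      exacts [hx1, hy1]
    | one => exact fun _ => N.one_mem
    | mul a b ha hb iha ihb => exact fun _ => N.mul_mem (iha ha) (ihb hb)
    | inv a ha iha => exact fun _ => N.inv_mem (iha ha)
  exact key g hg hg

/-- The first Janko group is simple. -/
theorem isSimpleGroup_J1 : IsSimpleGroup Spor.J1 := by
  haveI : Nontrivial Spor.J1 := Finite.one_lt_card_iff_nontrivial.mp (by rw [card_J1]; norm_num)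
  refine ⟨fun N hN => ?_⟩
  by_cases h : 11 ∣ Nat.card N
  · exact Or.inr (eq_top_of_dvd N h)
  · exact Or.inl (eq_bot_of_not_dvd N h)

end Cfsg.Agent.Recog71.J1
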