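import Mathlib
import Cfsg.Prelude.Def_DegreeGraph
import Cfsg.Agent.Lib.SmallGroups.Counting
import Cfsg.Agent.Lib.BlocksCore.DefectZero
import Cfsg.Agent.Lib.CharCore.Linear
import Cfsg.Agent.Lib.CharCore.Complete
import Cfsg.Agent.Blocks88.Basic
import Cfsg.Agent.S0494

set_option autoImplicit false

/-!
Groups of order sixty.
-/

namespace Cfsg.Agent.Recog71.OrderSixty

open Subgroup

universe u

theorem perm_reps : ∀ g : Equiv.Perm (Fin 5), Equiv.Perm.sign g = 1 → g = 1 ∨
    ∃ h : Equiv.Perm (Fin 5), Equiv.Perm.sign h = 1 ∧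
      (h * g = Equiv.swap 0 1 * Equiv.swap 2 3 * h ∨ h * g = Equiv.swap 0 1 * Equiv.swap 1 2 * h ∨
        h * g = finRotate 5 * h ∨ h * g = finRotate 5 * finRotate 5 * h) := by
  decide +kernel

theorem card_conjClasses_le : Nat.card (ConjClasses (alternatingGroup (Fin 5))) ≤ 5 := by
  classical
  let r : Fin 5 → Equiv.Perm (Fin 5) :=
    ![1, Equiv.swap 0 1 * Equiv.swap 2 3, Equiv.swap 0 1 * Equiv.swap 1 2, finRotate 5,
      finRotate 5 * finRotate 5]
  let f : Fin 5 → ConjClasses (alternatingGroup (Fin 5)) := fun i =>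
    if h : r i ∈ alternatingGroup (Fin 5) then ConjClasses.mk ⟨r i, h⟩ else ConjClasses.mk 1
  suffices hs : Function.Surjective f by
    simpa using Nat.card_le_card_of_surjective f hs
  intro c
  obtain ⟨⟨g, hg⟩, rfl⟩ := ConjClasses.mk_surjective c
  rcases perm_reps g (Equiv.Perm.mem_alternatingGroup.mp hg) with h1 | ⟨h, hh, he⟩
  · refine ⟨0, ?_⟩
    subst h1
    simp [f, r]
  · obtain ⟨i, hi⟩ : ∃ i, h * g = r i * h := by
      rcases he with e | e | e | e
      exacts [⟨1, e⟩, ⟨2, e⟩, ⟨3, e⟩, ⟨4, e⟩]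
    have hri : r i ∈ alternatingGroup (Fin 5) := by
      have e : r i = h * g * h⁻¹ := by rw [hi, mul_inv_cancel_right]
      rw [e]
      exact mul_mem (mul_mem hh hg) (inv_mem (show h ∈ alternatingGroup (Fin 5) from hh))
    refine ⟨i, ?_⟩
    simp only [f, dif_pos hri]
    rw [ConjClasses.mk_eq_mk_iff_isConj, isConj_comm, isConj_iff]
    refine ⟨⟨h, hh⟩, Subtype.ext ?_⟩
    show h * g * h⁻¹ = r i
    rw [hi, mul_inv_cancel_right]

/-- The alternating group of degree five has an irreducible character of degree divisible by 5. -/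
theorem five_mem_degreePrimes : 5 ∈ Cfsg.degreePrimes (alternatingGroup (Fin 5)) := by
  classical
  refine ⟨Nat.prime_five, ?_⟩
  by_contra hno
  let d : Cfsg.IrrCharacter (alternatingGroup (Fin 5)) → ℕ := fun χ => Cfsg.charDegree (χ : alternatingGroup (Fin 5) → ℂ)
  have hcard : Nat.card (alternatingGroup (Fin 5)) = 60 := by
    rw [nat_card_alternatingGroup, Nat.card_eq_fintype_card, Fintype.card_fin]; rfl
  have h5 : ∀ χ, ¬ 5 ∣ d χ := fun χ h => hno ⟨d χ, ⟨χ, rfl⟩, h⟩
  have hcast : ∀ χ, ((d χ : ℕ) : ℂ) = (χ : alternatingGroup (Fin 5) → ℂ) 1 := fun χ => (BlocksCore.irr_one_eq χ).symm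
  have hsum : ∑ χ, d χ ^ 2 = 60 := by
    have h := CharCore.sum_degree_sq (G := alternatingGroup (Fin 5))
    simp only [← hcast] at h
    rw [hcard] at h
    exact_mod_cast h
  have hmem : ∀ χ ∈ Finset.univ, d χ ∈ ({1, 2, 3, 4, 6} : Finset ℕ) := by
    intro χ _
    have hdvd : d χ ∣ 60 := hcard ▸ BlocksCore.charDegree_dvd_card χ
    have hle : d χ ^ 2 ≤ 60 := hsum ▸ Finset.single_le_sum (f := fun χ => d χ ^ 2)
      (fun _ _ => Nat.zero_le _) (Finset.mem_univ χ)
    have h8 : d χ < 8 := by nlinarith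
    have := h5 χ
    interval_cases d χ <;> simp_all
  have hperf : (commutator (alternatingGroup (Fin 5))).index = 1 := by
    haveI := alternatingGroup.isSimpleGroup_five
    rw [Subgroup.index_eq_one]
    refine ((inferInstance : (commutator (alternatingGroup (Fin 5))).Normal).eq_bot_or_eq_top
      ).resolve_left fun hbot => ?_
    rw [commutator_def, Subgroup.commutator_eq_bot_iff_le_centralizer, Subgroup.coe_top] at hbot
    have := Subgroup.mem_centralizer_iff.mp
      (hbot (Subgroup.mem_top (⟨Equiv.swap 0 1 * Equiv.swap 2 3, by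
        simp [Equiv.Perm.mem_alternatingGroup]⟩ : alternatingGroup (Fin 5))))
      ⟨Equiv.swap 0 1 * Equiv.swap 1 2, by simp [Equiv.Perm.mem_alternatingGroup]⟩ trivial
    have h2 := congrArg (fun z : alternatingGroup (Fin 5) => (z : Equiv.Perm (Fin 5)) 1) this
    simp [Equiv.Perm.mul_apply, Equiv.swap_apply_def] at h2
  have h1 : (Finset.univ.filter fun χ => d χ = 1).card = 1 := by
    have h := CharCore.card_linearCharacters (G := alternatingGroup (Fin 5))
    rw [hperf, Nat.card_eq_fintype_card, Fintype.card_subtype] at h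
    refine Eq.trans ?_ h
    congr 1
    ext χ
    simp [← hcast]
  have hn : Fintype.card (Cfsg.IrrCharacter (alternatingGroup (Fin 5))) ≤ 5 := by
    rw [← Nat.card_eq_fintype_card, CharCore.card_irr]; exact card_conjClasses_le
  have hc := Finset.card_eq_sum_card_fiberwise hmem
  rw [← Finset.sum_fiberwise_of_maps_to hmem] at hsum
  rw [Finset.sum_congr rfl (g := fun k => (Finset.univ.filter fun χ => d χ = k).card * k ^ 2)
    (fun k _ => by
      rw [Finset.sum_congr rfl (g := fun _ => k ^ 2)
        (fun χ hχ => by rw [(Finset.mem_filter.mp hχ).2]), Finset.sum_const, smul_eq_mul])] at hsum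
  simp at hsum hc
  omega

variable {G : Type u} [Group G] [Finite G]

/-- Groups of order 30 have a normal Sylow 5-subgroup. -/
theorem unique_five_of_thirty (h : Nat.card G = 30) [Fact (Nat.Prime 5)] :
    Nat.card (Sylow 5 G) = 1 := by
  classical
  haveI : Fact (Nat.Prime 3) := ⟨Nat.prime_three⟩
  have h5 := SmallGroups.card_sylow_mem_list (p := 5) (a := 1) (m := 6) (by rw [h]; norm_num) (by norm_num)
  have h3 := SmallGroups.card_sylow_mem_list (p := 3) (a := 1) (m := 10) (by rw [h]; norm_num) (by norm_num)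
  rw [show (6 : ℕ).divisors.filter (fun d => d % 5 = 1) = {1, 6} by decide] at h5
  rw [show (10 : ℕ).divisors.filter (fun d => d % 3 = 1) = {1, 10} by decide] at h3
  simp only [Finset.mem_insert, Finset.mem_singleton] at h5 h3
  rcases h5 with h5 | h5
  · exact h5
  exfalso
  have hP5 : ∀ P : Sylow 5 G, Nat.card (P : Subgroup G) = 5 := fun P =>
    SmallGroups.card_sylow_eq (a := 1) (m := 6) (by rw [h]; norm_num) (by norm_num) P
  have hP3 : ∀ P : Sylow 3 G, Nat.card (P : Subgroup G) = 3 := fun P =>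
    SmallGroups.card_sylow_eq (a := 1) (m := 10) (by rw [h]; norm_num) (by norm_num) P
  rcases h3 with h3 | h3
  · obtain ⟨P⟩ : Nonempty (Sylow 5 G) := inferInstance
    obtain ⟨Q⟩ : Nonempty (Sylow 3 G) := inferInstance
    haveI : Subsingleton (Sylow 3 G) := (Nat.card_eq_one_iff_unique.mp h3).1
    haveI hQn : (Q : Subgroup G).Normal := Sylow.normal_of_subsingleton Q
    have hQ := hP3 Q
    haveI : IsCyclic (Q : Subgroup G) := isCyclic_of_prime_card hQ
    have haut : Nat.card (MulAut (Q : Subgroup G)) = 2 := by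
      rw [IsCyclic.card_mulAut, hQ]; rfl
    have hle : (P : Subgroup G) ≤ centralizer ((Q : Subgroup G) : Set G) := by
      intro x hx
      have h1 : MulAut.conjNormal (H := (Q : Subgroup G)) x = 1 := by
        rw [← orderOf_eq_one_iff]
        have hb : orderOf (MulAut.conjNormal (H := (Q : Subgroup G)) x) ∣ 2 :=
          (orderOf_dvd_natCard (MulAut.conjNormal (H := (Q : Subgroup G)) x)).trans haut.dvd
        refine Nat.eq_one_of_dvd_coprimes (by norm_num : Nat.Coprime 5 2) ?_ hb
        refine dvd_trans (orderOf_map_dvd _ x) ?_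
        rw [← Subgroup.orderOf_mk x hx]
        exact (_root_.orderOf_dvd_natCard _).trans (hP5 P).dvd
      rw [mem_centralizer_iff]
      intro q hq
      have h2 := congrArg Subtype.val (DFunLike.congr_fun h1 ⟨q, hq⟩)
      rw [MulAut.conjNormal_apply, MulAut.one_apply] at h2
      exact (mul_inv_eq_iff_eq_mul.mp h2).symm
    have hQN : (Q : Subgroup G) ≤ normalizer ((P : Subgroup G) : Set G) := by
      intro q hq
      rw [Subgroup.mem_normalizer_iff]
      intro x
      constructor
      · intro hx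
        rw [mem_centralizer_iff.mp (hle hx) q hq, mul_inv_cancel_right]; exact hx
      · intro hx
        have := mem_centralizer_iff.mp (hle hx) q hq
        -- `q` commutes with `q x q⁻¹`
        have e : q * x * q⁻¹ = x :=
          mul_left_cancel (this.trans (by group))
        rwa [e] at hx
    have hc := SmallGroups.card_normalizer_mul P
    rw [h5, h] at hc
    have := Subgroup.card_dvd_of_le hQN
    rw [hQ] at this
    have : Nat.card (normalizer ((P : Subgroup G) : Set G)) = 5 := by omega
    omega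
  · have e5 := SmallGroups.card_orderOf_eq hP5
    have e3 := SmallGroups.card_orderOf_eq hP3
    have hd : Nat.card {g : G // orderOf g = 5} + Nat.card {g : G // orderOf g = 3} ≤ Nat.card G := by
      rw [← Nat.card_sum]
      refine Nat.card_le_card_of_injective (Sum.elim Subtype.val Subtype.val) ?_
      rintro (⟨a, ha⟩ | ⟨a, ha⟩) (⟨b, hb⟩ | ⟨b, hb⟩) e <;> simp at e <;> subst e <;>
        first | rfl | (rw [ha] at hb; norm_num at hb)
    rw [e5, e3, h5, h3, h] at hd
    omega

theorem unique_five (h5 : 5 ∣ Nat.card G) (hle : Nat.card G ∣ 60) (hne : Nat.card G ≠ 60)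
    [Fact (Nat.Prime 5)] : Nat.card (Sylow 5 G) = 1 := by
  obtain ⟨m, hm⟩ := h5
  have hm12 : m ∣ 12 := Nat.dvd_of_mul_dvd_mul_left (by norm_num : 0 < 5) (hm ▸ hle)
  have hm12' := Nat.le_of_dvd (by norm_num) hm12
  by_cases h30 : Nat.card G = 30
  · exact unique_five_of_thirty h30
  have hmne : m ≠ 12 ∧ m ≠ 6 := ⟨fun e => hne (by rw [hm, e]), fun e => h30 (by rw [hm, e])⟩
  obtain ⟨hd, hmod⟩ := SmallGroups.card_sylow_mem (p := 5) (a := 1) (m := m)
    (by rw [hm, pow_one]) (by
      intro h
      have := h.trans hm12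
      norm_num at this)
  have hle' := Nat.le_of_dvd (Nat.pos_of_dvd_of_pos hm12 (by norm_num)) hd
  interval_cases m <;> first | omega | (norm_num at hm12)

/-- A normal subgroup containing a Sylow 5-subgroup forces it to be normal. -/
theorem normal_five_of_le (h : Nat.card G = 60) [Fact (Nat.Prime 5)] (P : Sylow 5 G) (M : Subgroup G)
    [M.Normal] (hM : M ≠ ⊤) (hPM : (P : Subgroup G) ≤ M) : (P : Subgroup G).Normal := by
  have hP : Nat.card (P : Subgroup G) = 5 :=
    SmallGroups.card_sylow_eq (a := 1) (m := 12) (by rw [h]; norm_num) (by norm_num) P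
  have hone : Nat.card (Sylow 5 M) = 1 := by
    refine unique_five (hP ▸ Subgroup.card_dvd_of_le hPM) (h ▸ card_subgroup_dvd_card M) fun e => ?_
    exact hM (Subgroup.eq_top_of_card_eq M (e.trans h.symm))
  haveI : Subsingleton (Sylow 5 M) := (Nat.card_eq_one_iff_unique.mp hone).1
  refine ⟨fun x hx g => ?_⟩
  have h1 : g • P = P := by
    have e : (g • P).subtype (hle_of M g P hPM) = P.subtype hPM := Subsingleton.elim _ _
    exact Sylow.subtype_injective e
  have : g * x * g⁻¹ ∈ ((g • P : Sylow 5 G) : Subgroup G) := by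
    rw [Sylow.coe_subgroup_smul]
    exact ⟨x, hx, rfl⟩
  rwa [h1] at this
where
  hle_of (M : Subgroup G) [M.Normal] (g : G) (P : Sylow 5 G) (hPM : (P : Subgroup G) ≤ M) :
      ((g • P : Sylow 5 G) : Subgroup G) ≤ M := by
    rw [Sylow.coe_subgroup_smul]
    rintro _ ⟨x, hx, rfl⟩
    exact Subgroup.Normal.conj_mem ‹_› x (hPM hx) g

/-- A group of order 60 without normal Sylow 5-subgroup is simple. -/
theorem isSimpleGroup (h : Nat.card G = 60) [Fact (Nat.Prime 5)]
    (hno : ∀ P : Sylow 5 G, ¬ (P : Subgroup G).Normal) : IsSimpleGroup G := by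
  classical
  haveI : Nontrivial G := Finite.one_lt_card_iff_nontrivial.mp (by omega)
  refine ⟨fun N hN => ?_⟩
  by_contra hcon
  push Not at hcon
  obtain ⟨hb, ht⟩ := hcon
  obtain ⟨P⟩ : Nonempty (Sylow 5 G) := inferInstance
  have hP : Nat.card (P : Subgroup G) = 5 :=
    SmallGroups.card_sylow_eq (a := 1) (m := 12) (by rw [h]; norm_num) (by norm_num) P
  have h5N : ¬ 5 ∣ Nat.card N := by
    intro hd
    obtain ⟨x, hx⟩ := exists_prime_orderOf_dvd_card' 5 hd
    obtain ⟨Q, hxQ⟩ := SmallGroups.exists_mem_sylow (p := 5) (y := (x : G))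
      (by rw [Subgroup.orderOf_coe]; exact hx)
    refine hno Q (normal_five_of_le h Q N ht ?_)
    have hQ : Nat.card (Q : Subgroup G) = 5 :=
      SmallGroups.card_sylow_eq (a := 1) (m := 12) (by rw [h]; norm_num) (by norm_num) Q
    rw [← SmallGroups.zpowers_eq_of_card_prime hQ hxQ (fun e => by
      rw [← Subgroup.orderOf_coe, e, orderOf_one] at hx; norm_num at hx)]
    exact zpowers_le.mpr x.2
  have hcop : Nat.Coprime (Nat.card (P : Subgroup G)) (Nat.card N) := by
    rw [hP]; exact (Nat.Prime.coprime_iff_not_dvd Nat.prime_five).mpr h5N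
  have hinf : N ⊓ (P : Subgroup G) = ⊥ := by
    rw [inf_comm]; exact Subgroup.inf_eq_bot_of_coprime hcop
  have hM : N ⊔ (P : Subgroup G) = ⊤ := by
    by_contra hM
    haveI : (N ⊔ (P : Subgroup G)).Normal := by
      have hPq : ((P : Subgroup G).map (QuotientGroup.mk' N)).Normal := by
        have hdvd : Nat.card ((P : Subgroup G).map (QuotientGroup.mk' N)) ∣ 5 :=
          (Subgroup.card_map_dvd _ _).trans hP.dvd
        let S := P.mapSurjective (QuotientGroup.mk'_surjective N)
        have hN1 : 1 < Nat.card N := (Subgroup.one_lt_card_iff_ne_bot N).mpr hb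
        have hq : Nat.card (G ⧸ N) * Nat.card N = 60 := by
          rw [← Subgroup.card_eq_card_quotient_mul_card_subgroup, h]
        have hone : Nat.card (Sylow 5 (G ⧸ N)) = 1 := by
          refine unique_five ?_ ⟨_, hq.symm⟩ fun e => ?_
          · refine (Nat.Coprime.dvd_of_dvd_mul_right ?_ (by rw [hq]; norm_num : 5 ∣ Nat.card (G ⧸ N) * Nat.card N))
            exact hP ▸ hcop
          · rw [e] at hq; omega
        haveI : Subsingleton (Sylow 5 (G ⧸ N)) := (Nat.card_eq_one_iff_unique.mp hone).1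
        exact Sylow.normal_of_subsingleton S
      have e : ((P : Subgroup G).map (QuotientGroup.mk' N)).comap (QuotientGroup.mk' N) =
          N ⊔ (P : Subgroup G) := by
        rw [Subgroup.comap_map_eq, QuotientGroup.ker_mk', sup_comm]
      rw [← e]
      exact hPq.comap _
    exact hno P (normal_five_of_le h P _ hM le_sup_right)
  -- now N has order 12
  have hN12 : Nat.card N = 12 := by
    have hc : IsComplement' N (P : Subgroup G) := by
      refine Subgroup.isComplement'_of_disjoint_and_mul_eq_univ (disjoint_iff.mpr hinf) ?_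
      rw [← Subgroup.normal_mul N (P : Subgroup G), hM, Subgroup.coe_top]
    have := hc.card_mul
    rw [hP, h] at this
    omega
  haveI : Fact (Nat.Prime 3) := ⟨Nat.prime_three⟩
  have hP5 : IsPGroup 5 (P : Subgroup G) := P.2
  -- P normalises a Sylow 3-subgroup of N
  have h3 := SmallGroups.card_sylow_mem_list (G := N) (p := 3) (a := 1) (m := 4)
    (by rw [hN12]; norm_num) (by norm_num)
  rw [show (4 : ℕ).divisors.filter (fun d => d % 3 = 1) = {1, 4} by decide] at h3
  simp only [Finset.mem_insert, Finset.mem_singleton] at h3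
  obtain ⟨Q⟩ : Nonempty (Sylow 3 N) := inferInstance
  have hQ : Nat.card (Q : Subgroup N) = 3 :=
    SmallGroups.card_sylow_eq (a := 1) (m := 4) (by rw [hN12]; norm_num) (by norm_num) Q
  obtain ⟨x, hxP, hx1⟩ : ∃ x ∈ (P : Subgroup G), orderOf x = 5 := by
    obtain ⟨x, hx⟩ := exists_prime_orderOf_dvd_card' (G := (P : Subgroup G)) 5 (by rw [hP])
    exact ⟨x, x.2, by rw [Subgroup.orderOf_coe]; exact hx⟩
  let φ : MulAut N := MulAut.conjNormal x
  have hφ : φ ^ 5 = 1 := by
    rw [← map_pow, ← hx1, pow_orderOf_eq_one, map_one]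
  -- the permutation of Sylow subgroups
  let π : Equiv.Perm (Sylow 3 N) := MulAction.toPerm φ
  have hπ : π = 1 := by
    have h1 : π ^ 5 = 1 := by
      show (MulAction.toPermHom (MulAut N) (Sylow 3 N) φ) ^ 5 = 1
      rw [← map_pow, hφ, map_one]
    have h2 : orderOf π ∣ 5 := orderOf_dvd_of_pow_eq_one h1
    have h4 : orderOf π ∣ (Nat.card (Sylow 3 N)).factorial := by
      rw [← Nat.card_perm]; exact orderOf_dvd_natCard _
    rw [← orderOf_eq_one_iff]
    refine Nat.eq_one_of_dvd_coprimes ?_ h2 h4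
    rcases h3 with e | e <;> rw [e] <;> decide
  have hQx : φ • Q = Q := congrArg (fun e : Equiv.Perm (Sylow 3 N) => e Q) hπ
  haveI : IsCyclic (Q : Subgroup N) := isCyclic_of_prime_card hQ
  have hmap : (Q : Subgroup N).map φ.toMonoidHom = Q := congrArg (fun R : Sylow 3 N => (R : Subgroup N)) hQx
  let ψ : MulAut (Q : Subgroup N) :=
    (φ.subgroupMap (Q : Subgroup N)).trans (MulEquiv.subgroupCongr hmap)
  have hψφ : ∀ (k : ℕ) (q : (Q : Subgroup N)), ((ψ ^ k) q : N) = (φ ^ k) q := by
    intro k
    induction k with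
    | zero => intro q; rfl
    | succ k ih =>
      intro q
      rw [pow_succ', pow_succ', MulAut.mul_apply, MulAut.mul_apply]
      show φ ((ψ ^ k) q : N) = _
      rw [ih]
  have hψ : ψ = 1 := by
    rw [← orderOf_eq_one_iff]
    refine Nat.eq_one_of_dvd_coprimes (by norm_num : Nat.Coprime 5 2)
      (orderOf_dvd_of_pow_eq_one ?_) ?_
    · refine MulEquiv.ext fun q => Subtype.ext ?_
      rw [hψφ, hφ]; rfl
    · have : Nat.card (MulAut (Q : Subgroup N)) = 2 := by rw [IsCyclic.card_mulAut, hQ]; rfl
      exact this ▸ orderOf_dvd_natCard _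
  obtain ⟨q, hq⟩ := exists_prime_orderOf_dvd_card' (G := (Q : Subgroup N)) 3 (by rw [hQ])
  have hcomm : x * ((q : N) : G) * x⁻¹ = ((q : N) : G) := by
    have h1 : ((ψ q : (Q : Subgroup N)) : N) = q := by rw [hψ]; rfl
    have h2 := congrArg Subtype.val h1
    exact h2
  -- so 3 divides the normaliser of P
  have hqn : ((q : N) : G) ∈ normalizer ((P : Subgroup G) : Set G) := by
    have hz : (P : Subgroup G) = zpowers x := (SmallGroups.zpowers_eq_of_card_prime hP hxP
      (fun e => by rw [e, orderOf_one] at hx1; norm_num at hx1)).symm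
    have hcm : Commute x ((q : N) : G) := by
      rw [mul_inv_eq_iff_eq_mul] at hcomm; exact hcomm
    refine Subgroup.centralizer_le_normalizer _ ?_
    rw [hz, Subgroup.mem_centralizer_iff]
    rintro _ ⟨k, rfl⟩
    exact (hcm.zpow_left k).eq
  have hn := SmallGroups.card_normalizer_mul P
  have hs := SmallGroups.card_sylow_mem_list (G := G) (p := 5) (a := 1) (m := 12)
    (by rw [h]; norm_num) (by norm_num)
  rw [show (12 : ℕ).divisors.filter (fun d => d % 5 = 1) = {1, 6} by decide] at hs
  simp only [Finset.mem_insert, Finset.mem_singleton] at hs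
  have hd : 3 ∣ Nat.card (normalizer ((P : Subgroup G) : Set G)) := by
    have := orderOf_dvd_natCard (⟨_, hqn⟩ : normalizer ((P : Subgroup G) : Set G))
    rwa [Subgroup.orderOf_mk, Subgroup.orderOf_coe, Subgroup.orderOf_coe, hq] at this
  rcases hs with hs | hs
  · haveI : Subsingleton (Sylow 5 G) := (Nat.card_eq_one_iff_unique.mp hs).1
    exact hno P (Sylow.normal_of_subsingleton P)
  · rw [hs, h] at hn
    omega

/-- The recognition of the alternating group of degree five. -/
theorem main (hcard : Nat.card G = 60)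
    (hd : Cfsg.degreePrimes G = Cfsg.degreePrimes (alternatingGroup (Fin 5))) :
    Nonempty (G ≃* alternatingGroup (Fin 5)) := by
  classical
  haveI : Fact (Nat.Prime 5) := ⟨Nat.prime_five⟩
  haveI : IsSimpleGroup G := by
    refine isSimpleGroup hcard fun P hP => ?_
    haveI := Fintype.ofFinite G
    have h5 : 5 ∈ Cfsg.degreePrimes G := hd.symm ▸ five_mem_degreePrimes
    obtain ⟨-, -, ⟨χ, rfl⟩, hdvd⟩ := h5
    have hc : Nat.card (P : Subgroup G) = 5 :=
      SmallGroups.card_sylow_eq (a := 1) (m := 12) (by rw [hcard]; norm_num) (by norm_num) P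
    haveI := hP
    haveI : IsCyclic (P : Subgroup G) := isCyclic_of_prime_card hc
    obtain ⟨d, hd1, hd2⟩ := Blocks88.charDegree_dvd_index χ (P : Subgroup G) fun a ha b hb =>
      congrArg Subtype.val ((IsCyclic.commGroup (α := (P : Subgroup G))).mul_comm ⟨a, ha⟩ ⟨b, hb⟩)
    have hidx := (P : Subgroup G).card_mul_index
    rw [hc, hcard] at hidx
    have : (P : Subgroup G).index = 12 := by omega
    rw [BlocksCore.irr_one_eq] at hd1
    have e : Cfsg.charDegree (χ : G → ℂ) = d := by exact_mod_cast hd1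
    rw [e] at hdvd
    exact absurd (this ▸ hdvd.trans hd2) (by norm_num)
  exact S0494.result hcard

end Cfsg.Agent.Recog71.OrderSixty
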