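import Cfsg.Agent.Lib.CosetEnum.BaseStab

/-!
Elements of a presented permutation group pinned down by the colours of pairs of points.

The colour of a pair is the orbit label of the second point after the first has been taken to the
base point. An element preserves colours, so its images of points are limited by colour patterns.
-/

set_option autoImplicit false

namespace Cfsg.Agent.Recog71.Colour

open Cfsg.Agent.CosetEnum

variable {α : Type} [DecidableEq α] {P : InvPres α} {T : Tbl}

/-- The right action of an element on the numbers of the points. -/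
noncomputable def ap (R : P.Rep T) (hnd : P.gens.Nodup) (g : P.Gp) (p : ℕ) : ℕ :=
  if h : p < T.n then (((R.hom hnd g)⁻¹ ⟨p, h⟩ : Fin T.n) : ℕ) else p

variable {R : P.Rep T} {hnd : P.gens.Nodup}

theorem ap_lt (g : P.Gp) {p : ℕ} (hp : p < T.n) : ap R hnd g p < T.n := by
  rw [ap, dif_pos hp]
  exact Fin.isLt _

theorem ap_mul (g h : P.Gp) {p : ℕ} (hp : p < T.n) :
    ap R hnd (g * h) p = ap R hnd h (ap R hnd g p) := by
  conv_rhs => rw [ap, dif_pos (ap_lt (R := R) (hnd := hnd) g hp)]
  rw [ap, dif_pos hp, map_mul, mul_inv_rev, Equiv.Perm.mul_apply]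
  congr 2
  apply Fin.ext
  simp [ap, dif_pos hp]

theorem ap_one {p : ℕ} (hp : p < T.n) : ap R hnd 1 p = p := by
  rw [ap, dif_pos hp, map_one, inv_one]
  rfl

theorem ap_inv_apply (g : P.Gp) {p : ℕ} (hp : p < T.n) :
    ap R hnd g⁻¹ (ap R hnd g p) = p := by
  rw [← ap_mul g g⁻¹ hp, mul_inv_cancel, ap_one hp]

theorem ap_word {W : List ℕ} (hW : ∀ l ∈ W, l < T.nl) {p : ℕ} (hp : p < T.n) :
    ap R hnd (evalWord P.val W) p = T.run W p := by
  rw [ap, dif_pos hp]
  exact R.hom_inv_apply hnd hW ⟨p, hp⟩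

theorem ap_base {g : P.Gp} : g ∈ R.stab hnd ↔ ap R hnd g 0 = 0 := by
  rw [R.mem_stab, ap, dif_pos R.ok.pos]
  constructor
  · intro h
    rw [show (R.hom hnd g)⁻¹ ⟨0, R.ok.pos⟩ = (⟨0, R.ok.pos⟩ : Fin T.n) from
      Equiv.Perm.inv_eq_iff_eq.mpr h.symm]
  · intro h
    have h' : (R.hom hnd g)⁻¹ R.base = R.base := Fin.ext h
    exact (Equiv.Perm.inv_eq_iff_eq.mp h').symm

theorem run_append' : ∀ (U V : List ℕ) (p : ℕ), T.run (U ++ V) p = T.run V (T.run U p)
  | [], _, _ => rfl
  | l :: U, V, p => by rw [List.cons_append, Tbl.run_cons, Tbl.run_cons, run_append' U V]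

theorem run_lt (R : P.Rep T) {W : List ℕ} (hW : ∀ l ∈ W, l < T.nl) (hnd : P.gens.Nodup) {p : ℕ}
    (hp : p < T.n) : T.run W p < T.n := by
  rw [← ap_word (R := R) (hnd := hnd) hW hp]
  exact ap_lt _ hp

/-- Two elements agreeing on the base of the levels are equal. -/
theorem eq_of_base [Finite P.Gp] {S : Slp} (hS : ∀ i < T.n, S.checkPoint T i = true)
    {Ls : List Level} (hL : checkLevels S T [] Ls = true)
    (hN : Nat.card P.Gp = (Ls.map Level.size).prod) (hinj : Function.Injective (R.hom hnd))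
    {g h : P.Gp} (hg : ∀ L ∈ Ls, ap R hnd g L.b = ap R hnd h L.b) : g = h := by
  have e : g * h⁻¹ = 1 := by
    refine R.eq_one_of_base hnd hS hL hN hinj fun L hL' i hi => ?_
    have hp : L.b < T.n := hi ▸ i.2
    have h1 : ap R hnd (g * h⁻¹) L.b = L.b := by
      rw [ap_mul _ _ hp, hg L hL', ap_inv_apply _ hp]
    rw [ap, dif_pos hp] at h1
    have h2 : (R.hom hnd (g * h⁻¹))⁻¹ i = i := by
      rw [show i = (⟨L.b, hp⟩ : Fin T.n) from Fin.ext hi]
      exact Fin.ext h1
    exact (Equiv.Perm.inv_eq_iff_eq.mp h2).symm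
  exact eq_of_mul_inv_eq_one e

/-- The label of a point after the first one has been taken to the base point. -/
noncomputable def colGo (T : Tbl) (par : PTree) (lab : ℕ → ℕ) : ℕ → ℕ → ℕ → ℕ
  | 0, _, q => lab q
  | f + 1, p, q =>
    bif Nat.beq p 0 then lab q
    else forceNat (T.at' p (par.get 16 p)) fun p' =>
      forceNat (T.at' q (par.get 16 p)) fun q' => colGo T par lab f p' q'

/-- The word taking a point to the base point. -/
noncomputable def pathWord (T : Tbl) (par : PTree) : ℕ → ℕ → List ℕ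
  | 0, _ => []
  | f + 1, p => bif Nat.beq p 0 then [] else par.get 16 p :: pathWord T par f (T.at' p (par.get 16 p))

/-- The path reaches the base point. -/
noncomputable def reach (T : Tbl) (par : PTree) : ℕ → ℕ → Bool
  | 0, p => Nat.beq p 0
  | f + 1, p => bif Nat.beq p 0 then true
    else Nat.blt (par.get 16 p) T.nl && forceNat (T.at' p (par.get 16 p)) (reach T par f)

theorem colGo_eq (par : PTree) (lab : ℕ → ℕ) : ∀ (f p q : ℕ),
    colGo T par lab f p q = lab (T.run (pathWord T par f p) q)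
  | 0, _, _ => rfl
  | f + 1, p, q => by
    rw [colGo, pathWord]
    cases Nat.beq p 0
    · rw [cond_false, cond_false, forceNat_eq, forceNat_eq, colGo_eq, Tbl.run_cons]
    · rfl

theorem reach_spec (par : PTree) : ∀ (f p : ℕ), reach T par f p = true →
    (∀ l ∈ pathWord T par f p, l < T.nl) ∧ T.run (pathWord T par f p) p = 0
  | 0, p, h => ⟨by simp [pathWord], by simpa [pathWord, reach] using h⟩
  | f + 1, p, h => by
    rw [reach] at h
    rw [pathWord]
    cases hb : Nat.beq p 0
    · rw [hb, cond_false, Bool.and_eq_true, forceNat_eq] at h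
      obtain ⟨h1, h2⟩ := reach_spec par f _ h.2
      rw [cond_false, Tbl.run_cons]
      refine ⟨fun l hl => ?_, h2⟩
      rcases List.mem_cons.mp hl with rfl | hl
      exacts [Nat.le_of_ble_eq_true h.1, h1 l hl]
    · simpa using Nat.eq_of_beq_eq_true hb

/-- The data of a colouring. -/
structure Colouring (R : P.Rep T) (hnd : P.gens.Nodup) (c : ℕ → ℕ → ℕ) : Prop where
  inv : ∀ (g : P.Gp) (p q : ℕ), p < T.n → q < T.n → c (ap R hnd g p) (ap R hnd g q) = c p q

theorem lab_stab {ws : List (List ℕ)} (hws : ws.all (fun W => W.all fun l => Nat.blt l T.nl) = true)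
    (hst : R.stab hnd = Subgroup.closure {g | ∃ W ∈ ws, evalWord P.val W = g}) {lab : ℕ → ℕ}
    (hlab : allRange (fun i => ws.all fun W => Nat.beq (lab (T.run W i)) (lab i)) 0 T.n = true)
    {g : P.Gp} (hg : g ∈ R.stab hnd) : ∀ p < T.n, lab (ap R hnd g p) = lab p := by
  rw [hst] at hg
  induction hg using Subgroup.closure_induction with
  | mem x hx =>
    obtain ⟨W, hW, rfl⟩ := hx
    intro p hp
    have h1 := allRange_spec hlab p (Nat.zero_le _) (by omega)
    rw [List.all_eq_true] at hws h1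
    have hW' : ∀ l ∈ W, l < T.nl := fun l hl =>
      Nat.le_of_ble_eq_true (List.all_eq_true.mp (hws W hW) l hl)
    rw [ap_word hW' hp]
    exact Nat.eq_of_beq_eq_true (h1 W hW)
  | one => intro p hp; rw [ap_one hp]
  | mul a b _ _ ha hb =>
    intro p hp
    rw [ap_mul a b hp, hb _ (ap_lt a hp), ha p hp]
  | inv a _ ha =>
    intro p hp
    have hq := ap_lt (R := R) (hnd := hnd) a⁻¹ hp
    have := ha _ hq
    rw [← ap_mul a⁻¹ a hp, inv_mul_cancel, ap_one hp] at this
    exact this.symm

/-- The colours of the labels are invariant. -/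
theorem colouring {ws : List (List ℕ)} (hws : ws.all (fun W => W.all fun l => Nat.blt l T.nl) = true)
    (hst : R.stab hnd = Subgroup.closure {g | ∃ W ∈ ws, evalWord P.val W = g}) {lab : ℕ → ℕ}
    (hlab : allRange (fun i => ws.all fun W => Nat.beq (lab (T.run W i)) (lab i)) 0 T.n = true)
    {par : PTree} {f : ℕ} (hreach : allRange (reach T par f) 0 T.n = true) :
    Colouring R hnd (colGo T par lab f) where
  inv g p q hp hq := by
    have hp' : ap R hnd g p < T.n := ap_lt g hp
    obtain ⟨h1, h2⟩ := reach_spec par f p (allRange_spec hreach p (Nat.zero_le _) (by omega))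
    obtain ⟨h3, h4⟩ := reach_spec par f _ (allRange_spec hreach _ (Nat.zero_le _)
      (show ap R hnd g p < 0 + T.n by omega))
    rw [colGo_eq, colGo_eq]
    set U := pathWord T par f p
    set V := pathWord T par f (ap R hnd g p)
    set k := (evalWord P.val U)⁻¹ * g * evalWord P.val V with hk
    have key : ∀ r < T.n, ap R hnd k (T.run U r) = T.run V (ap R hnd g r) := by
      intro r hr
      rw [← ap_word (R := R) (hnd := hnd) h1 hr, ← ap_mul _ _ hr,
        ← ap_word (R := R) (hnd := hnd) h3 (ap_lt g hr), ← ap_mul _ _ hr, hk]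
      congr 1
      group
    have hstab : k ∈ R.stab hnd := by
      rw [ap_base, ← h2, key p hp, h4, h2]
    rw [← key q hq, lab_stab hws hst hlab hstab _ (run_lt R h1 hnd hq)]

/-- A point may be the image of `r` given the known images and the commuting words. -/
noncomputable def matches' (T : Tbl) (c : ℕ → ℕ → ℕ) (pairs : List (ℕ × ℕ)) (cw : List (List ℕ))
    (r q : ℕ) : Bool :=
  (pairs.all fun e => Nat.beq (c e.1 r) (c e.2 q)) &&
    cw.all fun W => Nat.beq (c (T.run W r) r) (c (T.run W q) q)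

/-- The known images after a new one. -/
noncomputable def ext (T : Tbl) (pairs : List (ℕ × ℕ)) (cw : List (List ℕ)) (r q : ℕ) :
    List (ℕ × ℕ) :=
  (r, q) :: cw.map (fun W => (T.run W r, T.run W q)) ++ pairs

/-- The known images after some forced ones. -/
noncomputable def extAll (T : Tbl) (cw : List (List ℕ)) :
    List (ℕ × ℕ) → List (ℕ × ℕ) → List (ℕ × ℕ)
  | pairs, [] => pairs
  | pairs, (r, q) :: L => extAll T cw (ext T pairs cw r q) L

/-- The images in the list are forced. -/
noncomputable def detOK (T : Tbl) (c : ℕ → ℕ → ℕ) (cw : List (List ℕ)) :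
    List (ℕ × ℕ) → List (ℕ × ℕ) → Bool
  | _, [] => true
  | pairs, (r, q) :: L =>
    Nat.blt r T.n && allRange (fun i => !(matches' T c pairs cw r i) || Nat.beq i q) 0 T.n &&
      detOK T c cw (ext T pairs cw r q) L

/-- The element has the known images. -/
def Agrees (R : P.Rep T) (hnd : P.gens.Nodup) (y : P.Gp) (pairs : List (ℕ × ℕ)) : Prop :=
  ∀ e ∈ pairs, e.1 < T.n ∧ ap R hnd y e.1 = e.2

/-- The element commutes with the words. -/
def Comm (P : InvPres α) (T : Tbl) (y : P.Gp) (cw : List (List ℕ)) : Prop :=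
  ∀ W ∈ cw, (∀ l ∈ W, l < T.nl) ∧ Commute y (evalWord P.val W)

theorem agrees_nil (y : P.Gp) : Agrees R hnd y [] := fun _ he => absurd he List.not_mem_nil

theorem Comm.run {y : P.Gp} {cw : List (List ℕ)} (hy : Comm P T y cw) {W : List ℕ} (hW : W ∈ cw)
    {p : ℕ} (hp : p < T.n) : ap R hnd y (T.run W p) = T.run W (ap R hnd y p) := by
  obtain ⟨h1, h2⟩ := hy W hW
  rw [← ap_word (R := R) (hnd := hnd) h1 hp, ← ap_word (R := R) (hnd := hnd) h1 (ap_lt y hp),
    ← ap_mul _ _ hp, ← ap_mul _ _ hp, h2.eq]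

theorem Agrees.ext {y : P.Gp} {pairs : List (ℕ × ℕ)} {cw : List (List ℕ)} (ha : Agrees R hnd y pairs)
    (hy : Comm P T y cw) {r q : ℕ} (hr : r < T.n) (hq : ap R hnd y r = q) :
    Agrees R hnd y (Colour.ext T pairs cw r q) := by
  subst hq
  intro e he
  rw [Colour.ext, List.cons_append, List.mem_cons, List.mem_append, List.mem_map] at he
  rcases he with rfl | ⟨W, hW, rfl⟩ | he
  · exact ⟨hr, rfl⟩
  · exact ⟨run_lt R (hy W hW).1 hnd hr, hy.run hW hr⟩
  · exact ha e he

theorem matches_of {c : ℕ → ℕ → ℕ} (C : Colouring R hnd c) {y : P.Gp} {pairs : List (ℕ × ℕ)}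
    {cw : List (List ℕ)} (ha : Agrees R hnd y pairs) (hy : Comm P T y cw) {r : ℕ} (hr : r < T.n) :
    matches' T c pairs cw r (ap R hnd y r) = true := by
  rw [matches', Bool.and_eq_true, List.all_eq_true, List.all_eq_true]
  constructor
  · intro e he
    obtain ⟨h1, h2⟩ := ha e he
    rw [Nat.beq_eq, ← h2, C.inv y _ _ h1 hr]
  · intro W hW
    rw [Nat.beq_eq, ← hy.run hW hr, C.inv y _ _ (run_lt R (hy W hW).1 hnd hr) hr]

/-- The image lies among the listed candidates. -/
theorem image_mem {c : ℕ → ℕ → ℕ} (C : Colouring R hnd c) {y : P.Gp} {pairs : List (ℕ × ℕ)}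
    {cw : List (List ℕ)} (ha : Agrees R hnd y pairs) (hy : Comm P T y cw) {r : ℕ} (hr : r < T.n)
    {cands : List ℕ}
    (h : allRange (fun q => !(matches' T c pairs cw r q) || cands.any (Nat.beq q)) 0 T.n = true) :
    ap R hnd y r ∈ cands := by
  have h' := allRange_spec h _ (Nat.zero_le _) (show ap R hnd y r < 0 + T.n by
    have := ap_lt (R := R) (hnd := hnd) y hr; omega)
  rw [matches_of C ha hy hr] at h'
  simp only [Bool.not_true, Bool.false_or, List.any_eq_true, Nat.beq_eq] at h'
  obtain ⟨x, hx, rfl⟩ := h'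
  exact hx

theorem det_sound {c : ℕ → ℕ → ℕ} (C : Colouring R hnd c) {y : P.Gp} {cw : List (List ℕ)}
    (hy : Comm P T y cw) : ∀ (L pairs : List (ℕ × ℕ)), detOK T c cw pairs L = true →
      Agrees R hnd y pairs → Agrees R hnd y (extAll T cw pairs L)
  | [], _, _, ha => ha
  | (r, q) :: L, pairs, h, ha => by
    simp only [detOK, Bool.and_eq_true] at h
    obtain ⟨⟨hr, hq⟩, hL⟩ := h
    have hr' : r < T.n := Nat.le_of_ble_eq_true hr
    have h' := allRange_spec hq _ (Nat.zero_le _) (show ap R hnd y r < 0 + T.n by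
      have := ap_lt (R := R) (hnd := hnd) y hr'; omega)
    rw [matches_of C ha hy hr'] at h'
    simp only [Bool.not_true, Bool.false_or, Nat.beq_eq] at h'
    exact det_sound C hy L _ hL (ha.ext hy hr' h')

/-- The check that words serve as the representatives of a round. -/
noncomputable def roundOK (T : Tbl) (c : ℕ → ℕ → ℕ) (pairs : List (ℕ × ℕ)) (cw es : List (List ℕ))
    (r t : ℕ) : Bool :=
  Nat.blt r T.n && Nat.blt t T.n && es.all (fun e => e.all (fun l => Nat.blt l T.nl) &&
      pairs.all fun p => Nat.blt p.2 T.n && Nat.beq (T.run e p.2) p.2) &&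
    allRange (fun q => !(matches' T c pairs cw r q) || es.any fun e => Nat.beq (T.run e t) q) 0 T.n

/-- One round: dividing by a representative fixes a further image. -/
theorem round {c : ℕ → ℕ → ℕ} (C : Colouring R hnd c) {y : P.Gp} {pairs : List (ℕ × ℕ)}
    {cw es : List (List ℕ)} (ha : Agrees R hnd y pairs) (hy : Comm P T y cw) {r t : ℕ}
    (hok : roundOK T c pairs cw es r t = true)
    (hes : ∀ e ∈ es, ∀ W ∈ cw, Commute (evalWord P.val e) (evalWord P.val W)) :
    ∃ e ∈ es, (∀ l ∈ e, l < T.nl) ∧ Comm P T (y * (evalWord P.val e)⁻¹) cw ∧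
      Agrees R hnd (y * (evalWord P.val e)⁻¹) (Colour.ext T pairs cw r t) := by
  simp only [roundOK, Bool.and_eq_true] at hok
  obtain ⟨⟨⟨hr, ht⟩, hfix⟩, hq⟩ := hok
  have hr' : r < T.n := Nat.le_of_ble_eq_true hr
  have ht' : t < T.n := Nat.le_of_ble_eq_true ht
  have h' := allRange_spec hq _ (Nat.zero_le _) (show ap R hnd y r < 0 + T.n by
    have := ap_lt (R := R) (hnd := hnd) y hr'; omega)
  rw [matches_of C ha hy hr'] at h'
  simp only [Bool.not_true, Bool.false_or, List.any_eq_true, Nat.beq_eq] at h'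
  obtain ⟨e, he, heq⟩ := h'
  have hfe := List.all_eq_true.mp hfix e he
  simp only [Bool.and_eq_true, List.all_eq_true] at hfe
  have hel : ∀ l ∈ e, l < T.nl := fun l hl => Nat.le_of_ble_eq_true (hfe.1 l hl)
  have hy' : Comm P T (y * (evalWord P.val e)⁻¹) cw := fun W hW =>
    ⟨(hy W hW).1, (hy W hW).2.mul_left (hes e he W hW).inv_left⟩
  have hback : ∀ p q : ℕ, p < T.n → q < T.n → ap R hnd y p = T.run e q →
      ap R hnd (y * (evalWord P.val e)⁻¹) p = q := by
    intro p q hp hq' h
    rw [ap_mul _ _ hp, h, ← ap_word (R := R) (hnd := hnd) hel hq', ap_inv_apply _ hq']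
  refine ⟨e, he, hel, hy', Agrees.ext (fun p hp => ?_) hy' hr' (hback r t hr' ht' heq.symm)⟩
  obtain ⟨h1, h2⟩ := ha p hp
  have h3 := hfe.2 p hp
  exact ⟨h1, hback _ _ h1 (Nat.le_of_ble_eq_true h3.1)
    (h2.trans (Nat.eq_of_beq_eq_true h3.2).symm)⟩

end Cfsg.Agent.Recog71.Colour
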