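import Mathlib
import Cfsg.Prelude.Def_Solvable
import Cfsg.Agent.Lib.Coprime.Action
import Cfsg.Agent.Lib.Frobenius.Nilpotent

set_option autoImplicit false

/-!
A Frobenius group acting on a normal subgroup of coprime kernel order.
-/

namespace Cfsg.Agent.Recog71.CoprimeFrobenius

universe u

open scoped commutatorElement

/-- If the partial norm of `y` vanishes then a fixed-point-free normalised subgroup of
invertible order acts trivially. -/
theorem acts_trivially {V A : Type*} [CommGroup V] [Finite V] [Group A] (ψ : A →* MulAut V)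
    (F : Subgroup A) [Fintype F] (y : A) (h : ℕ) (hh : 0 < h)
    (hnorm : ∀ f ∈ F, y * f * y⁻¹ ∈ F)
    (hfpf : ∀ i, 0 < i → i < h → ∀ f ∈ F, Commute f (y ^ i) → f = 1)
    (hcop : (Nat.card F).Coprime (Nat.card V))
    (hT : ∀ v, ∏ i ∈ Finset.range h, (ψ (y ^ i)) v = 1) : ∀ f ∈ F, ∀ v, ψ f v = v := by
  classical
  have hnorm' : ∀ i : ℕ, ∀ f ∈ F, y ^ i * f * (y ^ i)⁻¹ ∈ F := by
    intro i
    induction i with
    | zero => intro f hf; simpa using hf
    | succ i ih =>
      intro f hf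
      have := hnorm _ (ih f hf)
      rw [pow_succ']
      simpa [mul_assoc] using this
  let P : V → V := fun v => ∏ f : F, ψ f v
  have key : ∀ v, v ^ Nat.card F = P v := by
    intro v
    have h1 : ∏ i ∈ Finset.range h, ∏ f : F, ψ ((f : A)⁻¹ * y ^ i * f) v = 1 := by
      rw [Finset.prod_comm]
      refine Finset.prod_eq_one fun f _ => ?_
      simp only [map_mul, MulAut.mul_apply]
      rw [← map_prod, hT, map_one]
    have h2 : ∀ i ∈ Finset.range h, i ≠ 0 →
        ∏ f : F, ψ ((f : A)⁻¹ * y ^ i * f) v = P (ψ (y ^ i) v) := by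
      intro i hi hi0
      let c : F → F := fun f => ⟨(f : A)⁻¹ * (y ^ i * f * (y ^ i)⁻¹),
        mul_mem (inv_mem f.2) (hnorm' i f f.2)⟩
      have hinj : Function.Injective c := by
        intro f g hfg
        have e : (f : A)⁻¹ * (y ^ i * f * (y ^ i)⁻¹) = (g : A)⁻¹ * (y ^ i * g * (y ^ i)⁻¹) :=
          congrArg Subtype.val hfg
        have e' : (g : A) * (f : A)⁻¹ * y ^ i = y ^ i * ((g : A) * (f : A)⁻¹) := by
          calc (g : A) * (f : A)⁻¹ * y ^ i
              = g * ((f : A)⁻¹ * (y ^ i * f * (y ^ i)⁻¹)) * (y ^ i) * (f : A)⁻¹ := by group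
            _ = y ^ i * ((g : A) * (f : A)⁻¹) := by rw [e]; group
        have := hfpf i (Nat.pos_of_ne_zero hi0) (Finset.mem_range.mp hi) _
          (mul_mem g.2 (inv_mem f.2)) e'
        exact Subtype.ext (mul_inv_eq_one.mp this).symm
      refine Fintype.prod_bijective c hinj.bijective_of_finite _ _ fun f => ?_
      rw [← MulAut.mul_apply, ← map_mul]
      have e : (f : A)⁻¹ * y ^ i * f = (c f : A) * y ^ i := by simp [c, mul_assoc]
      rw [e]
    rw [Finset.prod_eq_mul_prod_sdiff_singleton_of_mem (Finset.mem_range.mpr hh)] at h1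
    rw [Finset.prod_congr (s₁ := Finset.range h \ {0}) rfl (g := fun i => P (ψ (y ^ i) v))
      (fun i hi => by
        simp only [Finset.mem_sdiff, Finset.mem_singleton] at hi
        exact h2 i hi.1 hi.2)] at h1
    have h3 : ∏ i ∈ Finset.range h, P (ψ (y ^ i) v) = 1 := by
      simp only [P]
      rw [Finset.prod_comm]
      refine Finset.prod_eq_one fun f _ => ?_
      rw [← map_prod, hT, map_one]
    rw [Finset.prod_eq_mul_prod_sdiff_singleton_of_mem (Finset.mem_range.mpr hh)] at h3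
    have h4 : ∏ f : F, ψ ((f : A)⁻¹ * y ^ 0 * f) v = v ^ Nat.card F := by
      simp [Nat.card_eq_fintype_card]
    rw [h4] at h1
    simp only [pow_zero, map_one, MulAut.one_apply] at h3
    exact mul_right_cancel (h1.trans h3.symm)
  intro f hf v
  have h5 : P (ψ f v) = P v :=
    Fintype.prod_bijective (fun g : F => g * (⟨f, hf⟩ : F)) (Group.mulRight_bijective _) _ _
      fun g => by simp [MulAut.mul_apply]
  rw [← key, ← key] at h5
  exact (powCoprime hcop.symm).injective h5

theorem exists_orderOf_eq_mul {G : Type*} [Group G] [Finite G] (N : Subgroup G) [N.Normal]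
    (w : G) (h : ℕ) (hh : orderOf (w : G ⧸ N) = h) (hw : w ^ h ≠ 1) :
    ∃ p : ℕ, p.Prime ∧ p ∣ Nat.card N ∧ ∃ g : G, orderOf g = p * h := by
  have hdvd : h ∣ orderOf w := hh ▸ orderOf_map_dvd (QuotientGroup.mk' N) w
  obtain ⟨k, hk⟩ := hdvd
  have hh0 : 0 < h := hh ▸ orderOf_pos _
  have hmem : w ^ h ∈ N := by
    rw [← QuotientGroup.eq_one_iff, QuotientGroup.mk_pow, ← hh, pow_orderOf_eq_one]
  have hk1 : k ≠ 1 := fun e => hw (by
    have := pow_orderOf_eq_one w
    rwa [hk, e, mul_one] at this)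
  obtain ⟨p, hp, hpk⟩ := Nat.exists_prime_and_dvd hk1
  have hord : orderOf (w ^ h) = k := by
    rw [orderOf_pow, hk, Nat.gcd_eq_right (dvd_mul_right h k), Nat.mul_div_cancel_left k hh0]
  refine ⟨p, hp, hpk.trans (hord ▸ Subgroup.orderOf_mk _ hmem ▸ orderOf_dvd_natCard _),
    w ^ (orderOf w / (p * h)), ?_⟩
  refine orderOf_pow_orderOf_div (orderOf_pos w).ne' ?_
  rw [hk, mul_comm p h]
  exact mul_dvd_mul_left h hpk

theorem main {G : Type u} [Group G] [Finite G] (N : Subgroup G) [N.Normal]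
    (Fb Hb : Subgroup (G ⧸ N)) [Fb.Normal] (hHb : Cfsg.IsFrobeniusComplement Hb)
    (hker : Cfsg.frobeniusKernel Hb = (Fb : Set (G ⧸ N))) (hcyc : IsCyclic Hb)
    (hcop : (Nat.card Fb).Coprime (Nat.card N))
    (hnot : ¬ Fb ≤ (Subgroup.centralizer (N : Set G)).map (QuotientGroup.mk' N)) :
    ∃ p : ℕ, p.Prime ∧ p ∣ Nat.card N ∧ ∃ g : G, orderOf g = p * Nat.card Hb := by
  classical
  by_contra hcon
  -- the kernel is nilpotent
  obtain ⟨N₁, hN₁, -, hnil⟩ := Frobenius.frobeniusKernel_isNilpotent hHb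
  obtain rfl : Fb = N₁ := SetLike.coe_injective (hker.symm.trans hN₁.symm)
  -- a complement
  let π := QuotientGroup.mk' N
  let K := Fb.comap π
  have hNK : N ≤ K := fun x hx => by
    show π x ∈ Fb
    rw [show π x = 1 from (QuotientGroup.eq_one_iff x).mpr hx]; exact one_mem _
  let πK : K →* Fb := (π.comp K.subtype).codRestrict Fb fun x => x.2
  have hπKs : Function.Surjective πK := by
    rintro ⟨z, hz⟩
    obtain ⟨x, rfl⟩ := QuotientGroup.mk'_surjective N z
    exact ⟨⟨x, hz⟩, rfl⟩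
  have hπKk : πK.ker = N.subgroupOf K := by
    ext x
    rw [MonoidHom.mem_ker, Subgroup.mem_subgroupOf, Subtype.ext_iff]
    exact QuotientGroup.eq_one_iff _
  have hidx : (N.subgroupOf K).index = Nat.card Fb := by
    rw [← hπKk, Subgroup.index_ker, MonoidHom.range_eq_top.mpr hπKs, Subgroup.card_top]
  have hcN : Nat.card (N.subgroupOf K) = Nat.card N :=
    Nat.card_congr (Subgroup.subgroupOfEquivOfLe hNK).toEquiv
  obtain ⟨C, hC⟩ := Subgroup.exists_left_complement'_of_coprime (N := N.subgroupOf K)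
    (by rw [hidx, hcN]; exact hcop.symm)
  let F₀ : Subgroup G := C.map K.subtype
  have hcF : Nat.card F₀ = Nat.card Fb := by
    rw [Subgroup.card_map_of_injective K.subtype_injective, ← hC.index_eq_card, hidx]
  have hF₀K : F₀ ≤ K := Subgroup.map_subtype_le C
  have hinter : ∀ x ∈ F₀, x ∈ N → x = 1 := by
    rintro _ ⟨x, hx, rfl⟩ hxN
    have : x ∈ N.subgroupOf K ⊓ C := ⟨hxN, hx⟩
    rw [inf_comm, hC.disjoint.eq_bot, Subgroup.mem_bot] at this
    simp [this]
  have hsurjF : ∀ x ∈ K, ∃ f ∈ F₀, f⁻¹ * x ∈ N := by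
    intro x hx
    obtain ⟨⟨c, n⟩, hcn⟩ := hC.2 ⟨x, hx⟩
    refine ⟨(c : K), ⟨c, c.2, rfl⟩, ?_⟩
    have : (x : G) = ((c : K) : G) * ((n : K) : G) := congrArg Subtype.val hcn.symm
    rw [this, inv_mul_cancel_left]
    exact n.2
  haveI hFsolv : Group.IsSolvable F₀ := by
    haveI : Group.IsSolvable Fb := Coprime.isSolvable_of_isNilpotent' hnil
    refine Group.isSolvable_of_isSolvable_injective
      (f := (π.comp F₀.subtype).codRestrict Fb fun x => hF₀K x.2) ?_
    rw [injective_iff_map_eq_one]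
    intro x hx
    exact Subtype.ext (hinter x x.2 ((QuotientGroup.eq_one_iff _).mp (congrArg Subtype.val hx)))
  have hcop₀ : (Nat.card F₀).Coprime (Nat.card N) := hcF ▸ hcop
  have hF₀N : F₀ ≤ Subgroup.normalizer (N : Set G) := by
    rw [Subgroup.normalizer_eq_top]; exact le_top
  -- a Sylow subgroup of `N` not centralised
  obtain ⟨p, hp, P, hP, hPc⟩ : ∃ p : ℕ, ∃ _ : Fact p.Prime, ∃ P : Sylow p N,
      F₀ ≤ Subgroup.normalizer ((P : Subgroup N).map N.subtype : Set G) ∧
      ¬ (P : Subgroup N).map N.subtype ≤ Subgroup.centralizer (F₀ : Set G) := by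
    by_contra hall
    push Not at hall
    apply hnot
    intro z hz
    obtain ⟨x, rfl⟩ := QuotientGroup.mk'_surjective N z
    obtain ⟨f, hf, hfx⟩ := hsurjF x hz
    refine ⟨f, ?_, ((QuotientGroup.eq).mpr hfx)⟩
    let CN := (Subgroup.centralizer (F₀ : Set G)).subgroupOf N
    have htop : CN = ⊤ := by
      refine Subgroup.eq_top_of_le_card _ (Nat.le_of_dvd Nat.card_pos ?_)
      rw [Nat.dvd_iff_prime_pow_dvd_dvd]
      intro q k hq hqk
      haveI := Fact.mk hq
      obtain ⟨Q, hQ⟩ := Coprime.exists_invariant_sylow F₀ N hF₀N hcop₀ (Or.inl hFsolv) q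
      have hle : (Q : Subgroup N) ≤ CN := fun a ha => hall q ⟨hq⟩ Q hQ ⟨a, ha, rfl⟩
      refine dvd_trans ?_ (Subgroup.card_dvd_of_le hle)
      rw [Q.card_eq_multiplicity]
      exact pow_dvd_pow q ((Nat.Prime.pow_dvd_iff_le_factorization hq Nat.card_pos.ne').mp hqk)
    rw [SetLike.mem_coe, Subgroup.mem_centralizer_iff]
    intro n hn
    have : (⟨n, hn⟩ : N) ∈ CN := htop ▸ Subgroup.mem_top _
    exact (Subgroup.mem_centralizer_iff.mp this f hf).symm
  haveI := hp
  set X := Subgroup.normalizer ((P : Subgroup N).map N.subtype : Set G) with hX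
  -- the generator of the complement
  obtain ⟨⟨z, hz⟩, hzgen⟩ := hcyc.exists_generator
  have hzord : orderOf z = Nat.card Hb := by
    rw [← Subgroup.orderOf_mk z hz]; exact orderOf_eq_card_of_forall_mem_zpowers hzgen
  obtain ⟨g, rfl⟩ := QuotientGroup.mk'_surjective N z
  obtain ⟨x, hx, hxg⟩ : ∃ x ∈ X, π x = π g := by
    have h1 : g ∈ X ⊔ N := by rw [hX, Sylow.normalizer_sup_eq_top P]; trivial
    rw [← SetLike.mem_coe, Subgroup.coe_mul_of_left_le_normalizer_right X N
      (by rw [Subgroup.normalizer_eq_top]; exact le_top)] at h1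
    obtain ⟨x, hx, n, hn, rfl⟩ := h1
    exact ⟨x, hx, by simp [π, (QuotientGroup.eq_one_iff n).mpr hn]⟩
  have hXN : X ≤ Subgroup.normalizer ((N ⊓ X : Subgroup G) : Set G) := by
    refine Coprime.le_normalizer_inf ?_ Subgroup.le_normalizer
    rw [Subgroup.normalizer_eq_top]; exact le_top
  let c : G →* G := (MulAut.conj x).toMonoidHom
  let eC : F₀ ≃* F₀.map c := F₀.equivMapOfInjective c (MulAut.conj x).injective
  obtain ⟨n, hn, hnx⟩ := Coprime.exists_conj_le (N ⊓ X) (F₀.map c) F₀
    (by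
      rintro _ ⟨f, hf, rfl⟩
      exact hXN (mul_mem (mul_mem hx (hP hf)) (inv_mem hx)))
    (fun f hf => hXN (hP hf))
    (by
      rintro _ ⟨f, hf, rfl⟩
      have hk : x * f * x⁻¹ ∈ K := by
        show π (x * f * x⁻¹) ∈ Fb
        rw [map_mul, map_mul, map_inv]
        exact Subgroup.Normal.conj_mem inferInstance _ (hF₀K hf) _
      obtain ⟨f', hf', hn'⟩ := hsurjF _ hk
      have : f'⁻¹ * (x * f * x⁻¹) ∈ N ⊓ X :=
        ⟨hn', X.mul_mem (X.inv_mem (hP hf')) (X.mul_mem (X.mul_mem hx (hP hf)) (X.inv_mem hx))⟩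
      have h2 := (N ⊓ X ⊔ F₀).mul_mem (Subgroup.mem_sup_right hf') (Subgroup.mem_sup_left this)
      rw [mul_inv_cancel_left] at h2
      exact h2)
    (by
      rw [Nat.card_congr eC.toEquiv.symm]
      exact hcop₀.coprime_dvd_right (Subgroup.card_dvd_of_le inf_le_left))
    (hcop₀.coprime_dvd_right (Subgroup.card_dvd_of_le inf_le_left))
    (Or.inl (Group.isSolvable_of_surjective (f := eC.toMonoidHom) eC.surjective))
  set y := n * x with hy
  have hyX : y ∈ X := mul_mem hn.2 hx
  have hyπ : π y = π g := by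
    rw [map_mul, hxg, show π n = 1 from (QuotientGroup.eq_one_iff n).mpr hn.1, one_mul]
  have hyF : ∀ f ∈ F₀, y * f * y⁻¹ ∈ F₀ := by
    intro f hf
    have := hnx (x * f * x⁻¹) ⟨f, hf, rfl⟩
    simpa [hy, mul_assoc] using this
  set h := Nat.card Hb with hhdef
  have hlift : ∀ w : G, π w = π g → w ^ h = 1 := by
    intro w hw
    by_contra hne
    exact hcon (exists_orderOf_eq_mul N w h (by rw [show (w : G ⧸ N) = π g from hw]; exact hzord) hne)
  have hfpf : ∀ i, 0 < i → i < h → ∀ f ∈ F₀, Commute f (y ^ i) → f = 1 := by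
    intro i hi hih f hf hcomm
    refine hinter f hf ((QuotientGroup.eq_one_iff f).mp ?_)
    have hfk : π f ∈ Cfsg.frobeniusKernel Hb := hker.symm ▸ hF₀K hf
    refine Frobenius.eq_one_of_mem_frobeniusKernel_of_mem hfk
      (Frobenius.mem_of_commute hHb (x := π (y ^ i)) ?_ ?_ ?_)
    · rw [map_pow, hyπ]
      exact pow_ne_one_of_lt_orderOf hi.ne' (hzord.symm ▸ hih)
    · rw [map_pow, hyπ]; exact pow_mem hz i
    · exact ((hcomm.map π).symm).eq
  -- a minimal non-centralised invariant subgroup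
  obtain ⟨R, -, ⟨hRP, hRF, hRy, hRc⟩, hRmin⟩ := exists_minimal_le_of_wellFoundedLT
    (fun R : Subgroup G => R ≤ (P : Subgroup N).map N.subtype ∧
      F₀ ≤ Subgroup.normalizer (R : Set G) ∧ y ∈ Subgroup.normalizer (R : Set G) ∧
      ¬ R ≤ Subgroup.centralizer (F₀ : Set G))
    ((P : Subgroup N).map N.subtype) ⟨le_rfl, hP, hyX, hPc⟩
  have hPpg : IsPGroup p ((P : Subgroup N).map N.subtype) := P.2.map _
  have hRN : R ≤ N := hRP.trans (Subgroup.map_subtype_le _)
  haveI hRnil : Group.IsNilpotent R := (hPpg.to_le hRP).isNilpotent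
  haveI : Group.IsSolvable R := Coprime.isSolvable_of_isNilpotent' hRnil
  have hRne : R ≠ ⊥ := fun e => hRc (e ▸ bot_le)
  have hRlt : ⁅R, R⁆ < R := by
    haveI : Nontrivial R := (Subgroup.nontrivial_iff_ne_bot R).mpr hRne
    have h1 := (Subgroup.map_lt_map_iff_of_injective R.subtype_injective).mpr
      (Group.IsSolvable.commutator_lt_top_of_nontrivial (G := R))
    rwa [Subgroup.map_subtype_commutator, ← MonoidHom.range_eq_map, Subgroup.range_subtype] at h1
  have hR'c : ⁅R, R⁆ ≤ Subgroup.centralizer (F₀ : Set G) := by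
    by_contra hc
    have hnormR : ∀ a ∈ Subgroup.normalizer (R : Set G),
        a ∈ Subgroup.normalizer ((⁅R, R⁆ : Subgroup G) : Set G) := by
      intro a ha
      rw [Subgroup.mem_normalizer_iff_map_conj_eq] at ha ⊢
      rw [Subgroup.map_commutator, ha]
    exact hRlt.not_ge (hRmin ⟨hRlt.le.trans hRP, fun f hf => hnormR f (hRF hf), hnormR y hRy, hc⟩
      hRlt.le)
  let A := Subgroup.normalizer (R : Set G)
  let conjA : A →* MulAut R := Subgroup.normalizerMonoidHom R
  let ψ : A →* MulAut (Abelianization R) :=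
    MonoidHom.mk' (fun a => (conjA a).abelianizationCongr) fun a b => by
      apply MulEquiv.ext
      intro v
      obtain ⟨r, rfl⟩ : ∃ r, Abelianization.of r = v := QuotientGroup.mk_surjective v
      simp
  haveI : Fintype (F₀.subgroupOf A) := Fintype.ofFinite _
  have hconj : ∀ (a : A) (r : R), ((conjA a r : R) : G) = a * r * (a : G)⁻¹ := fun a r => rfl
  have htriv := acts_trivially ψ (F₀.subgroupOf A) ⟨y, hRy⟩ h Nat.card_pos
    (fun f hf => hyF f hf)
    (fun i hi hih f hf hcomm => Subtype.ext (hfpf i hi hih f hf (hcomm.map A.subtype)))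
    (by
      rw [Nat.card_congr (Subgroup.subgroupOfEquivOfLe hRF).toEquiv]
      refine (hcop₀.coprime_dvd_right ?_)
      exact (Subgroup.card_quotient_dvd_card _).trans (Subgroup.card_dvd_of_le hRN))
    (by
      intro v
      obtain ⟨r, rfl⟩ : ∃ r, Abelianization.of r = v := QuotientGroup.mk_surjective v
      have hind : ∀ m : ℕ, ∃ s : R, ((r : G) * y) ^ m = (s : G) * y ^ m ∧
          Abelianization.of s =
            ∏ i ∈ Finset.range m, ψ ((⟨y, hRy⟩ : A) ^ i) (Abelianization.of r) := by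
        intro m
        induction m with
        | zero => exact ⟨1, by simp, by simp⟩
        | succ m ih =>
          obtain ⟨s, hs, hs'⟩ := ih
          refine ⟨s * conjA ((⟨y, hRy⟩ : A) ^ m) r, ?_, ?_⟩
          · rw [pow_succ, hs, Subgroup.coe_mul, hconj, SubgroupClass.coe_pow, pow_succ]
            group
          · rw [map_mul, hs', Finset.prod_range_succ]
            rfl
      obtain ⟨s, hs, hs'⟩ := hind h
      have h1 := hlift ((r : G) * y) (by
        rw [map_mul, hyπ, show π (r : G) = 1 from (QuotientGroup.eq_one_iff _).mpr (hRN r.2),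
          one_mul])
      rw [hs, hlift y hyπ, mul_one] at h1
      rw [show s = 1 from Subtype.ext h1, map_one] at hs'
      exact hs'.symm)
  apply hRc
  intro r hr
  rw [Subgroup.mem_centralizer_iff]
  intro f hf
  have hmem : f * r * f⁻¹ * r⁻¹ ∈ ⁅R, R⁆ := by
    have h1 : Abelianization.of (conjA ⟨f, hRF hf⟩ ⟨r, hr⟩) = Abelianization.of (⟨r, hr⟩ : R) :=
      htriv ⟨f, hRF hf⟩ hf (Abelianization.of (⟨r, hr⟩ : R))
    rw [← mul_inv_eq_one, ← map_inv, ← map_mul, ← MonoidHom.mem_ker, Abelianization.ker_of] at h1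
    rw [← Subgroup.map_subtype_commutator]
    exact ⟨_, h1, rfl⟩
  set d := f * r * f⁻¹ * r⁻¹ with hd
  have hdf : f * d = d * f := Subgroup.mem_centralizer_iff.mp (hR'c hmem) f hf
  have hpow : ∀ m : ℕ, f ^ m * r * (f ^ m)⁻¹ = d ^ m * r := by
    intro m
    induction m with
    | zero => simp
    | succ m ih =>
      calc f ^ (m + 1) * r * (f ^ (m + 1))⁻¹ = f * (f ^ m * r * (f ^ m)⁻¹) * f⁻¹ := by
            rw [pow_succ']; group
        _ = f * (d ^ m * r) * f⁻¹ := by rw [ih]
        _ = d ^ m * (f * r * f⁻¹) := by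
            rw [← mul_assoc f, (show Commute f d from hdf).pow_right m |>.eq]; group
        _ = d ^ (m + 1) * r := by rw [hd, pow_succ]; group
  have hd1 : d = 1 := by
    have h1 := hpow (orderOf f)
    rw [pow_orderOf_eq_one, one_mul, inv_one, mul_one, eq_comm, mul_eq_right] at h1
    have h2 : orderOf d ∣ orderOf f := orderOf_dvd_of_pow_eq_one h1
    have h3 : orderOf d ∣ Nat.card N := by
      have hdN : d ∈ N := hRN (hRlt.le hmem)
      rw [← Subgroup.orderOf_mk d hdN]; exact orderOf_dvd_natCard _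
    have h4 : orderOf f ∣ Nat.card F₀ := by
      rw [← Subgroup.orderOf_mk f hf]; exact orderOf_dvd_natCard _
    exact orderOf_eq_one_iff.mp
      (Nat.eq_one_of_dvd_coprimes hcop₀ (h2.trans h4) h3)
  rw [hd, mul_inv_eq_one, mul_inv_eq_iff_eq_mul] at hd1
  exact hd1

end Cfsg.Agent.Recog71.CoprimeFrobenius
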