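import Mathlib

set_option autoImplicit false

/-!
Products of Frobenius groups with prime element orders, and their sections.
-/

namespace Cfsg.Agent.Recog71.CriticalFrobenius

open Subgroup

/-- The multiplicative order of `r` modulo `q`. -/
noncomputable def expo (r q : ℕ) : ℕ := orderOf (r : ZMod q)

theorem expo_spec {r q : ℕ} (hr : r.Prime) (hq : q.Prime) (hne : r ≠ q) :
    0 < expo r q ∧ q ∣ r ^ expo r q - 1 ∧ ∀ k, q ∣ r ^ k - 1 → expo r q ∣ k := by
  haveI := Fact.mk hq
  have h0 : (r : ZMod q) ≠ 0 := by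
    rw [Ne, ZMod.natCast_eq_zero_iff]
    exact fun h => hne ((Nat.prime_dvd_prime_iff_eq hq hr).mp h).symm
  have key : ∀ k, q ∣ r ^ k - 1 ↔ (r : ZMod q) ^ k = 1 := by
    intro k
    have h1 : 1 ≤ r ^ k := Nat.one_le_pow _ _ hr.pos
    rw [← Nat.modEq_iff_dvd' h1, ← ZMod.natCast_eq_natCast_iff]
    push_cast
    exact eq_comm
  refine ⟨(isOfFinOrder_iff_pow_eq_one.mpr
    ⟨q - 1, Nat.sub_pos_of_lt hq.one_lt, ZMod.pow_card_sub_one_eq_one h0⟩).orderOf_pos,
    (key _).mpr (pow_orderOf_eq_one _), fun k hk => orderOf_dvd_of_pow_eq_one ((key k).mp hk)⟩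

/-- A Frobenius group whose non-trivial elements have prime order `r` or `q`. -/
theorem exists_frobenius {r q : ℕ} (hr : r.Prime) (hq : q.Prime) (hne : r ≠ q) :
    ∃ (F : Type) (_ : Group F) (_ : Finite F), Nat.card F = r ^ expo r q * q ∧
      (∀ x : F, x ^ r = 1 ∨ x ^ q = 1) ∧
      (∀ x y : F, x ^ r = 1 → y ^ r = 1 → x * y = y * x) ∧
      ∃ x y : F, x ^ q = 1 ∧ y ^ q = 1 ∧ x * y ≠ y * x := by
  classical
  haveI := Fact.mk hr
  haveI := Fact.mk hq
  obtain ⟨hm0, hmq, -⟩ := expo_spec hr hq hne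
  let K := GaloisField r (expo r q)
  haveI : Fintype K := Fintype.ofFinite K
  have hK : Nat.card K = r ^ expo r q := GaloisField.card r _ hm0.ne'
  have hu : q ∣ Nat.card Kˣ := by rw [Nat.card_units, hK]; exact hmq
  obtain ⟨u, hu⟩ := exists_prime_orderOf_dvd_card' q hu
  let A := Subgroup.zpowers u
  let φ : A →* MulAut (Multiplicative K) :=
    MonoidHom.mk' (fun a => AddEquiv.toMultiplicative (DistribMulAction.toAddEquiv K (a : Kˣ)))
      fun a b => MulEquiv.ext fun v => congrArg Multiplicative.ofAdd (mul_smul (a : Kˣ) b v.toAdd)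
  let F := Multiplicative K ⋊[φ] A
  have hA : Nat.card A = q := by rw [Nat.card_zpowers, hu]
  have hAq : ∀ a : A, a ^ q = 1 := fun a => by
    have := pow_card_eq_one' (x := a)
    rwa [hA] at this
  have hKr : ∀ v : Multiplicative K, v ^ r = 1 := by
    intro v
    refine congrArg Multiplicative.ofAdd (?_ : r • v.toAdd = 0)
    rw [nsmul_eq_mul, CharP.cast_eq_zero, zero_mul]
  have hinl : ∀ x : F, x ^ r = 1 → x.right = 1 := by
    intro x hx
    have h1 : x.right ^ r = 1 := by
      rw [← SemidirectProduct.rightHom_eq_right (φ := φ), ← map_pow, hx, map_one]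
    rw [← orderOf_eq_one_iff]
    exact Nat.eq_one_of_dvd_coprimes ((Nat.coprime_primes hr hq).mpr hne)
      (orderOf_dvd_of_pow_eq_one h1) (orderOf_dvd_of_pow_eq_one (hAq _))
  have hpow : ∀ (x : F) (n : ℕ),
      (x ^ n).left.toAdd = (∑ i ∈ Finset.range n, (((x.right : Kˣ) : K)) ^ i) * x.left.toAdd ∧
      (x ^ n).right = x.right ^ n := by
    intro x n
    induction n with
    | zero => simp
    | succ n ih =>
      refine ⟨?_, by rw [pow_succ, SemidirectProduct.mul_right, ih.2, pow_succ]⟩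
      rw [pow_succ, SemidirectProduct.mul_left, toAdd_mul, ih.1, ih.2, Finset.sum_range_succ,
        add_mul]
      congr 1
  refine ⟨F, inferInstance, Finite.of_equiv _ SemidirectProduct.equivProd.symm, ?_, ?_, ?_, ?_⟩
  · rw [SemidirectProduct.card, Nat.card_congr Multiplicative.toAdd, hK, hA]
  · intro x
    by_cases hx : x.right = 1
    · left
      have : x = SemidirectProduct.inl x.left := SemidirectProduct.ext rfl hx
      rw [this, ← map_pow, hKr, map_one]
    · right
      obtain ⟨h1, h2⟩ := hpow x q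
      refine SemidirectProduct.ext (Multiplicative.toAdd.injective ?_) (h2.trans (hAq _))
      rw [h1]
      have hne1 : (((x.right : Kˣ) : K)) ≠ 1 := fun e => hx (Subtype.ext (Units.ext e))
      have hpow1 : (((x.right : Kˣ) : K)) ^ q = 1 := by
        have := congrArg (fun a : A => (((a : Kˣ)) : K)) (hAq x.right)
        simpa using this
      have := geom_sum_mul (((x.right : Kˣ) : K)) q
      rw [hpow1, sub_self, mul_eq_zero, sub_eq_zero] at this
      rw [this.resolve_right hne1, zero_mul]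
      rfl
  · intro x y hx hy
    have ex : x = SemidirectProduct.inl x.left := SemidirectProduct.ext rfl (hinl x hx)
    have ey : y = SemidirectProduct.inl y.left := SemidirectProduct.ext rfl (hinl y hy)
    rw [ex, ey, ← map_mul, ← map_mul, mul_comm]
  · let a : A := ⟨u, mem_zpowers u⟩
    let v : F := SemidirectProduct.inl (Multiplicative.ofAdd (1 : K))
    let x : F := SemidirectProduct.inr a
    have hxq : x ^ q = 1 := by rw [← map_pow, hAq, map_one]
    refine ⟨x, v * x * v⁻¹, hxq, by rw [conj_pow, hxq, mul_one, mul_inv_cancel], fun e => ?_⟩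
    have hu1 : (u : K) ≠ 1 := by
      intro e'
      rw [show u = 1 from Units.ext e', orderOf_one] at hu
      exact hq.ne_one hu.symm
    have hm : ∀ z w : F,
        (z * w).left.toAdd = z.left.toAdd + ((z.right : Kˣ) : K) * w.left.toAdd := fun z w => rfl
    have hy : (v * x * v⁻¹).left.toAdd = 1 - (u : K) := by
      have hv : v⁻¹ = SemidirectProduct.inl (Multiplicative.ofAdd (-1 : K)) := by
        rw [← map_inv]; rfl
      rw [hv, hm, hm]
      show ((1 : K) + ((1 : A) : Kˣ) * (0 : K)) + ((((1 : A) * a : A) : Kˣ) : K) * (-1) = _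
      simp [a, sub_eq_add_neg]
      exact mul_neg_one (u : K)
    have hyr : (v * x * v⁻¹).right = a := by
      show (1 : A) * a * (1 : A)⁻¹ = a
      simp
    have h : (x * (v * x * v⁻¹)).left.toAdd = (v * x * v⁻¹ * x).left.toAdd :=
      congrArg (fun z : F => z.left.toAdd) e
    rw [hm x, hm (v * x * v⁻¹) x, hy, hyr] at h
    have hx0 : x.left.toAdd = 0 := rfl
    have hxr : x.right = a := rfl
    rw [hx0, zero_add, mul_zero, add_zero] at h
    have h' : (u : K) * (1 - (u : K)) = 1 - (u : K) := h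
    rcases mul_left_eq_self₀.mp h' with h'' | h''
    · exact hu1 h''
    · exact hu1 (sub_eq_zero.mp h'').symm

variable {ι : Type} [Fintype ι]

/-- The set of square-free numbers with at most one prime from each pair. -/
def orders (p : ι → Fin 2 → ℕ) : Set ℕ :=
  {m | ∃ c : ι → ℕ, (∀ j, c j = 1 ∨ c j = p j 0 ∨ c j = p j 1) ∧ m = ∏ j, c j}

variable {p : ι → Fin 2 → ℕ} (hp : ∀ j i, (p j i).Prime)
  (hinj : ∀ j i j' i', p j i = p j' i' → j = j' ∧ i = i')

include hp hinj

theorem mem_orders_of_prime (j : ι) (i : Fin 2) : p j i ∈ orders p := by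
  classical
  refine ⟨Function.update (fun _ => 1) j (p j i), fun k => ?_, ?_⟩
  · rcases eq_or_ne k j with rfl | hk
    · rw [Function.update_self]
      fin_cases i
      · exact Or.inr (Or.inl rfl)
      · exact Or.inr (Or.inr rfl)
    · exact Or.inl (Function.update_of_ne hk _ _)
  · rw [Finset.prod_update_of_mem (Finset.mem_univ j)]; simp

theorem factor_of_dvd {c : ι → ℕ} (hc : ∀ j, c j = 1 ∨ c j = p j 0 ∨ c j = p j 1) {j : ι}
    {i : Fin 2} (h : p j i ∣ ∏ k, c k) : c j = p j i := by
  obtain ⟨k, -, hk⟩ := (hp j i).prime.exists_mem_finset_dvd h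
  rcases hc k with e | e | e <;> rw [e] at hk
  · exact absurd (Nat.dvd_one.mp hk) (hp j i).ne_one
  · obtain ⟨rfl, rfl⟩ := hinj _ _ _ _ ((Nat.prime_dvd_prime_iff_eq (hp j i) (hp k 0)).mp hk)
    exact e
  · obtain ⟨rfl, rfl⟩ := hinj _ _ _ _ ((Nat.prime_dvd_prime_iff_eq (hp j i) (hp k 1)).mp hk)
    exact e

theorem mul_notMem_orders (j : ι) {i i' : Fin 2} (hne : i ≠ i') : p j i * p j i' ∉ orders p := by
  rintro ⟨c, hc, e⟩
  have h1 := factor_of_dvd hp hinj hc (j := j) (i := i) (e ▸ dvd_mul_right _ _)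
  have h2 := factor_of_dvd hp hinj hc (j := j) (i := i') (e ▸ dvd_mul_left _ _)
  exact hne (hinj _ _ _ _ (h1.symm.trans h2)).2

theorem not_pow_two_dvd (j : ι) (i : Fin 2) {m : ℕ} (hm : m ∈ orders p) :
    ¬ p j i ^ 2 ∣ m := by
  classical
  obtain ⟨c, hc, rfl⟩ := hm
  intro h
  have h1 := factor_of_dvd hp hinj hc ((dvd_pow_self _ two_ne_zero).trans h)
  rw [← Finset.mul_prod_erase _ _ (Finset.mem_univ j), h1, sq] at h
  obtain ⟨k, hk, hkd⟩ := (hp j i).prime.exists_mem_finset_dvd
    (Nat.dvd_of_mul_dvd_mul_left (hp j i).pos h)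
  rw [Finset.mem_erase] at hk
  rcases hc k with e | e | e <;> rw [e] at hkd
  · exact (hp j i).ne_one (Nat.dvd_one.mp hkd)
  · exact hk.1 (hinj _ _ _ _ ((Nat.prime_dvd_prime_iff_eq (hp j i) (hp k 0)).mp hkd)).1.symm
  · exact hk.1 (hinj _ _ _ _ ((Nat.prime_dvd_prime_iff_eq (hp j i) (hp k 1)).mp hkd)).1.symm

/-- The section step: in a group with these element orders and a commutative normal
set of `r`-elements, `q` divides `r ^ k - 1`. -/
theorem dvd_pow_sub_one {G : Type} [Group G] [Finite G] (hG : Set.range (orderOf : G → ℕ) = orders p)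
    (j : ι) {i i' : Fin 2} (hne : i ≠ i')
    (hcomm : ∀ x y : G, x ^ p j i = 1 → y ^ p j i = 1 → x * y = y * x)
    (H : Subgroup G) (N : Subgroup H) [N.Normal]
    (hHN : Set.range (orderOf : (H ⧸ N) → ℕ) = orders p) :
    p j i' ∣ p j i ^ (Nat.card (H ⧸ N)).factorization (p j i) - 1 := by
  classical
  set r := p j i with hr
  set q := p j i' with hq
  haveI := Fact.mk (hp j i)
  haveI := Fact.mk (hp j i')
  haveI : Fact r.Prime := ⟨hp j i⟩
  haveI : Fact q.Prime := ⟨hp j i'⟩
  -- the `r`-elements of `G` have order dividing `r`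
  have hexp : ∀ x : G, (∃ k, x ^ r ^ k = 1) → x ^ r = 1 := by
    rintro x ⟨k, hk⟩
    obtain ⟨l, -, hl⟩ := (Nat.dvd_prime_pow (hp j i)).mp (orderOf_dvd_of_pow_eq_one hk)
    have hl1 : l ≤ 1 := by
      by_contra h
      refine not_pow_two_dvd hp hinj j i (hG ▸ ⟨x, rfl⟩ : orderOf x ∈ orders p) ?_
      rw [hl]
      exact pow_dvd_pow _ (by omega)
    exact orderOf_dvd_iff_pow_eq_one.mp (hl ▸ (pow_dvd_pow r hl1).trans (pow_one r).dvd)
  let V : Subgroup H :=
    { carrier := {x | (x : G) ^ r = 1}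
      one_mem' := one_pow _
      mul_mem' := fun {a b} ha hb => by
        show ((a : G) * b) ^ r = 1
        rw [(show Commute (a : G) b from hcomm _ _ ha hb).mul_pow, ha, hb, one_mul]
      inv_mem' := fun {a} ha => by
        show ((a : G)⁻¹) ^ r = 1
        rw [inv_pow, ha, inv_one] }
  obtain ⟨P⟩ : Nonempty (Sylow r H) := inferInstance
  have hPV : (P : Subgroup H) = V := by
    refine (P.3 (Q := V) (fun x => ⟨1, Subtype.ext (Subtype.ext ?_)⟩) ?_).symm
    · simp only [pow_one, SubmonoidClass.coe_pow, OneMemClass.coe_one]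
      exact x.2
    · intro x hx
      obtain ⟨k, hk⟩ := P.2 ⟨x, hx⟩
      exact hexp _ ⟨k, congrArg (fun z : (P : Subgroup H) => ((z : H) : G)) hk⟩
  haveI hPn : (P : Subgroup H).Normal := by
    refine ⟨fun x hx g => ?_⟩
    rw [hPV] at hx ⊢
    show ((g : G) * x * (g : G)⁻¹) ^ r = 1
    rw [conj_pow, show (x : G) ^ r = 1 from hx, mul_one, mul_inv_cancel]
  let R := P.mapSurjective (QuotientGroup.mk'_surjective N)
  haveI hRn : (R : Subgroup (H ⧸ N)).Normal := hPn.map _ (QuotientGroup.mk'_surjective N)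
  have hRcard : Nat.card (R : Subgroup (H ⧸ N)) = r ^ (Nat.card (H ⧸ N)).factorization r :=
    R.card_eq_multiplicity
  obtain ⟨x, hx⟩ : q ∈ Set.range (orderOf : (H ⧸ N) → ℕ) := hHN ▸ mem_orders_of_prime hp hinj j i'
  let ψ : zpowers x →* MulAut (R : Subgroup (H ⧸ N)) :=
    MulAut.conjNormal.comp (zpowers x).subtype
  letI : MulAction (zpowers x) (R : Subgroup (H ⧸ N)) :=
    MulAction.compHom (R : Subgroup (H ⧸ N)) ψ
  have hZ : IsPGroup q (zpowers x) := IsPGroup.of_card (n := 1) (by rw [Nat.card_zpowers, hx, pow_one])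
  have hfix : Nat.card (MulAction.fixedPoints (zpowers x) (R : Subgroup (H ⧸ N))) = 1 := by
    rw [Nat.card_eq_one_iff_unique]
    refine ⟨⟨fun a b => ?_⟩, ⟨⟨1, fun z => map_one (ψ z)⟩⟩⟩
    suffices h : ∀ a : MulAction.fixedPoints (zpowers x) (R : Subgroup (H ⧸ N)), a.1 = 1 from
      Subtype.ext ((h a).trans (h b).symm)
    rintro ⟨⟨v, hv⟩, hvf⟩
    by_contra hv1
    have hv1' : v ≠ 1 := fun e => hv1 (Subtype.ext e)
    have hc : x * v = v * x := by
      have := congrArg Subtype.val (hvf ⟨x, mem_zpowers x⟩)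
      have h2 : x * v * x⁻¹ = v := this
      exact mul_inv_eq_iff_eq_mul.mp h2
    obtain ⟨k, hk⟩ := R.2 ⟨v, hv⟩
    have hkv : v ^ r ^ k = 1 := congrArg Subtype.val hk
    obtain ⟨l, -, hl⟩ := (Nat.dvd_prime_pow (hp j i)).mp (orderOf_dvd_of_pow_eq_one hkv)
    have hl1 : l = 1 := by
      have : l ≤ 1 := by
        by_contra h
        refine not_pow_two_dvd hp hinj j i (hHN ▸ ⟨v, rfl⟩ : orderOf v ∈ orders p) ?_
        rw [hl]
        exact pow_dvd_pow _ (by omega)
      rcases Nat.eq_zero_or_pos l with h0 | h0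
      · rw [h0, pow_zero, orderOf_eq_one_iff] at hl; exact absurd hl hv1'
      · omega
    rw [hl1, pow_one] at hl
    refine mul_notMem_orders hp hinj j hne.symm (hHN ▸ ⟨x * v, ?_⟩)
    rw [(show Commute x v from hc).orderOf_mul_eq_mul_orderOf_of_coprime (by
      rw [hx, hl]
      exact (Nat.coprime_primes (hp j i') (hp j i)).mpr
        fun e => hne.symm (hinj _ _ _ _ e).2), hx, hl]
  have := hZ.card_modEq_card_fixedPoints (R : Subgroup (H ⧸ N))
  rw [hfix, hRcard] at this
  exact (Nat.modEq_iff_dvd' (Nat.one_le_pow _ _ (hp j i).pos)).mp this.symm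

/-- Pairwise non-isomorphic critical groups. -/
theorem main :
    ∃ (G : (ι → Fin 2) → Type) (_ : ∀ a, Group (G a)) (_ : ∀ a, Fintype (G a)),
      (∀ a b, a ≠ b → ¬ Nonempty (G a ≃* G b)) ∧
      ∀ a, Set.range (orderOf : G a → ℕ) = orders p ∧
        ∀ (H : Subgroup (G a)) (N : Subgroup ↥H) [N.Normal], (H ≠ ⊤ ∨ N ≠ ⊥) →
          Set.range (orderOf : (↥H ⧸ N) → ℕ) ≠ orders p := by
  classical
  have hne : ∀ (j : ι) (i : Fin 2), p j i ≠ p j (i + 1) := by
    intro j i e
    have := (hinj _ _ _ _ e).2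
    revert this; fin_cases i <;> decide
  choose F hFg hFf hFcard hFdich hFcomm hFnc using fun (j : ι) (i : Fin 2) =>
    exists_frobenius (hp j i) (hp j (i + 1)) (hne j i)
  let G : (ι → Fin 2) → Type := fun a => ∀ j, F j (a j)
  letI hG : ∀ a, Group (G a) := fun a => Pi.group
  haveI hGf : ∀ a, Finite (G a) := fun a => Pi.finite
  have hFord : ∀ (j : ι) (i : Fin 2) (x : F j i),
      orderOf x = 1 ∨ orderOf x = p j i ∨ orderOf x = p j (i + 1) := by
    intro j i x
    rcases hFdich j i x with h | h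
    · rcases (Nat.dvd_prime (hp j i)).mp (orderOf_dvd_of_pow_eq_one h) with e | e
      · exact Or.inl e
      · exact Or.inr (Or.inl e)
    · rcases (Nat.dvd_prime (hp j (i + 1))).mp (orderOf_dvd_of_pow_eq_one h) with e | e
      · exact Or.inl e
      · exact Or.inr (Or.inr e)
  have hFord' : ∀ (j : ι) (i : Fin 2) (x : F j i),
      orderOf x = 1 ∨ orderOf x = p j 0 ∨ orderOf x = p j 1 := by
    intro j i x
    have he : (i = 0 ∧ i + 1 = 1) ∨ (i = 1 ∧ i + 1 = 0) := by fin_cases i <;> simp
    rcases hFord j i x with h | h | h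
    · exact Or.inl h
    · rcases he with ⟨e, -⟩ | ⟨e, -⟩
      exacts [Or.inr (Or.inl (h.trans (congrArg (p j) e))),
        Or.inr (Or.inr (h.trans (congrArg (p j) e)))]
    · rcases he with ⟨-, e⟩ | ⟨-, e⟩
      exacts [Or.inr (Or.inr (h.trans (congrArg (p j) e))),
        Or.inr (Or.inl (h.trans (congrArg (p j) e)))]
  have hcop : ∀ (a : ι → Fin 2) (g : G a) (j k : ι), j ≠ k →
      (orderOf (g j)).Coprime (orderOf (g k)) := by
    intro a g j k hjk
    obtain ⟨i, hi⟩ | h1 := (show (∃ i, orderOf (g j) = p j i) ∨ orderOf (g j) = 1 by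
      rcases hFord' j _ (g j) with h | h | h
      exacts [Or.inr h, Or.inl ⟨0, h⟩, Or.inl ⟨1, h⟩])
    · obtain ⟨i', hi'⟩ | h2 := (show (∃ i, orderOf (g k) = p k i) ∨ orderOf (g k) = 1 by
        rcases hFord' k _ (g k) with h | h | h
        exacts [Or.inr h, Or.inl ⟨0, h⟩, Or.inl ⟨1, h⟩])
      · rw [hi, hi']
        exact (Nat.coprime_primes (hp j i) (hp k i')).mpr fun e => hjk (hinj _ _ _ _ e).1
      · rw [h2]; exact Nat.coprime_one_right _
    · rw [h1]; exact Nat.coprime_one_left _
  have hord : ∀ (a : ι → Fin 2) (g : G a), orderOf g = ∏ j, orderOf (g j) := by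
    intro a g
    refine Nat.dvd_antisymm ?_ ?_
    · refine orderOf_dvd_of_pow_eq_one (funext fun j => ?_)
      exact orderOf_dvd_iff_pow_eq_one.mp (Finset.dvd_prod_of_mem _ (Finset.mem_univ j))
    · exact Fintype.prod_dvd_of_isRelPrime (fun j k hjk => Nat.coprime_iff_isRelPrime.mp (hcop a g j k hjk))
        (fun j => orderOf_map_dvd (Pi.evalMonoidHom (fun j => F j (a j)) j) g)
  have hrange : ∀ a, Set.range (orderOf : G a → ℕ) = orders p := by
    intro a
    ext m
    constructor
    · rintro ⟨g, rfl⟩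
      exact ⟨fun j => orderOf (g j), fun j => hFord' j _ (g j), hord a g⟩
    · rintro ⟨c, hc, rfl⟩
      have : ∀ j, ∃ x : F j (a j), orderOf x = c j := by
        intro j
        rcases hc j with e | e | e
        · exact ⟨1, by rw [orderOf_one, e]⟩
        all_goals
          rw [e]
          haveI := Fact.mk (hp j 0)
          haveI := Fact.mk (hp j 1)
          refine exists_prime_orderOf_dvd_card' _ ?_
          rw [hFcard]
          have hpos := (expo_spec (hp j (a j)) (hp j (a j + 1)) (hne j (a j))).1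
          generalize a j = i at hpos ⊢
          fin_cases i
          all_goals first
            | exact dvd_mul_left _ _
            | exact dvd_mul_of_dvd_left (dvd_pow_self _ hpos.ne') _
      choose x hx using this
      exact ⟨x, by rw [hord]; exact Finset.prod_congr rfl fun j _ => hx j⟩
  have hcomm : ∀ (a : ι → Fin 2) (j : ι) (x y : G a), x ^ p j (a j) = 1 → y ^ p j (a j) = 1 →
      x * y = y * x := by
    intro a j x y hx hy
    funext k
    by_cases hk : k = j
    · subst hk
      exact hFcomm k (a k) (x k) (y k) (congrFun hx k) (congrFun hy k)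
    · have : x k = 1 := by
        rw [← orderOf_eq_one_iff]
        rcases (Nat.dvd_prime (hp j (a j))).mp (orderOf_dvd_of_pow_eq_one (congrFun hx k)) with e | e
        · exact e
        · rcases hFord' k _ (x k) with h | h | h
          · exact h
          · exact absurd (hinj _ _ _ _ (h.symm.trans e)).1 hk
          · exact absurd (hinj _ _ _ _ (h.symm.trans e)).1 hk
      rw [Pi.mul_apply, Pi.mul_apply, this, one_mul, mul_one]
  refine ⟨G, hG, fun a => Fintype.ofFinite _, ?_, fun a => ⟨hrange a, ?_⟩⟩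
  · rintro a b hab ⟨e⟩
    obtain ⟨j, hj⟩ := Function.ne_iff.mp hab
    have hbj : b j + 1 = a j := by
      revert hj
      generalize a j = i; generalize b j = i'
      fin_cases i <;> fin_cases i' <;> simp
    obtain ⟨x, y, hx, hy, hxy⟩ := hFnc j (b j)
    rw [hbj] at hx hy
    apply hxy
    have := hcomm a j (e.symm (Pi.mulSingle j x)) (e.symm (Pi.mulSingle j y))
      (by rw [← map_pow, ← Pi.mulSingle_pow, hx, Pi.mulSingle_one, map_one])
      (by rw [← map_pow, ← Pi.mulSingle_pow, hy, Pi.mulSingle_one, map_one])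
    rw [← map_mul, ← map_mul, e.symm.injective.eq_iff, ← Pi.mulSingle_mul, ← Pi.mulSingle_mul] at this
    exact Pi.mulSingle_injective j this
  · intro H N _ hproper hHN
    have hlt : Nat.card (H ⧸ N) < Nat.card (G a) := by
      have h1 := Subgroup.card_eq_card_quotient_mul_card_subgroup N
      have h2 := Subgroup.card_eq_card_quotient_mul_card_subgroup H
      have h3 : 1 ≤ Nat.card N := Nat.card_pos
      have h4 : 1 ≤ Nat.card (G a ⧸ H) := Nat.card_pos
      have h5 : 0 < Nat.card (H ⧸ N) := Nat.card_pos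
      rcases hproper with h | h
      · have : 1 < Nat.card (G a ⧸ H) := by
          rw [← Subgroup.index_eq_card]; exact Subgroup.one_lt_index_of_ne_top h
        nlinarith
      · have : 1 < Nat.card N := (Subgroup.one_lt_card_iff_ne_bot N).mpr h
        nlinarith
    have hdvdG : Nat.card (H ⧸ N) ∣ Nat.card (G a) :=
      (Subgroup.card_quotient_dvd_card N).trans (Subgroup.card_subgroup_dvd_card H)
    have hprime : ∀ (j : ι) (i : Fin 2), p j i ∣ Nat.card (H ⧸ N) := by
      intro j i
      obtain ⟨x, hx⟩ : p j i ∈ Set.range (orderOf : (H ⧸ N) → ℕ) :=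
        hHN ▸ mem_orders_of_prime hp hinj j i
      exact hx ▸ orderOf_dvd_natCard x
    obtain ⟨j, hj⟩ : ∃ j, ¬ p j (a j) ^ expo (p j (a j)) (p j (a j + 1)) ∣ Nat.card (H ⧸ N) := by
      by_contra hall
      push Not at hall
      have hdiv : Nat.card (G a) ∣ Nat.card (H ⧸ N) := by
        rw [Nat.card_pi]
        simp only [hFcard]
        refine Fintype.prod_dvd_of_isRelPrime (fun j k hjk => Nat.coprime_iff_isRelPrime.mp ?_) fun j => ?_
        · refine Nat.Coprime.mul_left (Nat.Coprime.mul_right ?_ ?_) (Nat.Coprime.mul_right ?_ ?_)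
          all_goals
            first
              | (refine Nat.Coprime.pow _ _ ?_
                 exact (Nat.coprime_primes (hp _ _) (hp _ _)).mpr fun e => hjk (hinj _ _ _ _ e).1)
              | (refine Nat.Coprime.pow_left _ ?_
                 exact (Nat.coprime_primes (hp _ _) (hp _ _)).mpr fun e => hjk (hinj _ _ _ _ e).1)
              | (refine Nat.Coprime.pow_right _ ?_
                 exact (Nat.coprime_primes (hp _ _) (hp _ _)).mpr fun e => hjk (hinj _ _ _ _ e).1)
              | exact (Nat.coprime_primes (hp _ _) (hp _ _)).mpr fun e => hjk (hinj _ _ _ _ e).1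
        · exact Nat.Coprime.mul_dvd_of_dvd_of_dvd
            (((Nat.coprime_primes (hp _ _) (hp _ _)).mpr (hne j (a j))).pow_left _)
            (hall j) (hprime j _)
      exact absurd (Nat.le_of_dvd Nat.card_pos hdiv) (not_le.mpr hlt)
    have hne' : a j ≠ a j + 1 := fun e => hne j (a j) (congrArg (p j) e)
    have hd := dvd_pow_sub_one hp hinj (hrange a) j hne' (hcomm a j) H N hHN
    obtain ⟨-, -, hmin⟩ := expo_spec (hp j (a j)) (hp j (a j + 1)) (hne j (a j))
    have hk0 : 0 < (Nat.card (H ⧸ N)).factorization (p j (a j)) :=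
      (hp j (a j)).factorization_pos_of_dvd Nat.card_pos.ne' (hprime j _)
    refine hj ((pow_dvd_pow _ (Nat.le_of_dvd hk0 (hmin _ hd))).trans (Nat.ordProj_dvd _ _))

end Cfsg.Agent.Recog71.CriticalFrobenius
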