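import Cfsg.Agent.Recog71.CriticalSixField
import Cfsg.Agent.Lib.SmallGroups.Local
import Cfsg.Agent.Lib.SmallGroups.Counting

set_option autoImplicit false

/-!
Extensions of elementary abelian 2-groups by the alternating group of degree five with element
orders at most five.
-/

namespace Cfsg.Agent.Recog71.CriticalSix

open Subgroup Matrix FPFStructure
open scoped MatrixGroups

universe u

variable {G : Type u} [Group G] [Finite G]

/-- The hypotheses. -/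
structure Setup (N : Subgroup G) : Prop where
  normal : N.Normal
  sq : ∀ n ∈ N, n * n = 1
  comm : ∀ n ∈ N, ∀ n' ∈ N, n * n' = n' * n
  fixed : ∀ g : G, (g ^ 3 = 1 ∨ g ^ 5 = 1) → g ≠ 1 → ∀ n ∈ N, Commute n g → n = 1
  ne_bot : N ≠ ⊥

variable {N : Subgroup G}

theorem Setup.pow_eq_one (h : Setup N) {g : G} {p : ℕ} (hp : p = 3 ∨ p = 5) (hg : g ^ p ∈ N)
    (hgN : g ∉ N) : g ^ p = 1 := by
  have hcp : Commute (g ^ p) g := Commute.pow_self g p
  have hsq : g ^ (2 * p) = 1 := by rw [mul_comm, pow_mul, pow_two, h.sq _ hg]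
  have hne : g ^ 2 ≠ 1 := by
    intro e
    have hm : g ^ p = g := by
      rcases hp with rfl | rfl
      · rw [show 3 = 2 + 1 by norm_num, pow_succ, e, one_mul]
      · rw [show 5 = 2 * 2 + 1 by norm_num, pow_succ, pow_mul, e, one_pow, one_mul]
    exact hgN (hm ▸ hg)
  refine h.fixed (g ^ 2) ?_ hne _ hg (hcp.pow_right 2)
  rcases hp with rfl | rfl
  · left; rw [← pow_mul]; exact hsq
  · right; rw [← pow_mul]; exact hsq

theorem Setup.mul_conj (h : Setup N) {g : G} (hg : g ^ 3 = 1) (hg1 : g ≠ 1) {n : G} (hn : n ∈ N) :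
    n * (g * n * g⁻¹) * (g ^ 2 * n * (g ^ 2)⁻¹) = 1 := by
  haveI := h.normal
  set a := g * n * g⁻¹
  set b := g ^ 2 * n * (g ^ 2)⁻¹
  have ha : a ∈ N := Subgroup.Normal.conj_mem ‹_› n hn g
  have hb : b ∈ N := Subgroup.Normal.conj_mem ‹_› n hn (g ^ 2)
  refine h.fixed g (Or.inl hg) hg1 _ (mul_mem (mul_mem hn ha) hb) ?_
  have hb' : g * b * g⁻¹ = n := by
    rw [show g * b * g⁻¹ = g ^ 3 * n * (g ^ 3)⁻¹ by simp only [b, pow_succ, pow_zero, one_mul]; group,
      hg, one_mul, inv_one, mul_one]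
  have e : g * (n * a * b) * g⁻¹ = n * a * b := by
    rw [show g * (n * a * b) * g⁻¹ = a * (g * a * g⁻¹) * (g * b * g⁻¹) by simp only [a]; group, hb',
      show g * a * g⁻¹ = b by simp only [a, b, pow_two]; group, h.comm _ (mul_mem ha hb) n hn]
    simp only [a, mul_assoc]
  exact (mul_inv_eq_iff_eq_mul.mp e).symm

/-- A lift of an involution inverting a given element of order three. -/
theorem Setup.exists_inverting (h : Setup N) {r g : G} (hr : r ^ 3 = 1) (hr1 : r ≠ 1)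
    (hg : g * g ∈ N) (hgr : (g * r * g⁻¹) * r ∈ N) :
    ∃ t, t * t = 1 ∧ g⁻¹ * t ∈ N ∧ t * r * t⁻¹ = r⁻¹ := by
  haveI := h.normal
  have hi : r⁻¹ ^ 3 = 1 := by rw [inv_pow, hr, inv_one]
  have hi1 : r⁻¹ ≠ 1 := inv_ne_one.mpr hr1
  let φ : N → N := fun m => ⟨m * (r⁻¹ * m⁻¹ * r⁻¹⁻¹), mul_mem m.2
    (Subgroup.Normal.conj_mem ‹_› _ (inv_mem m.2) _)⟩
  have hinj : Function.Injective φ := by
    rintro ⟨a, ha⟩ ⟨b, hb⟩ e
    have e' : a * (r⁻¹ * a⁻¹ * r⁻¹⁻¹) = b * (r⁻¹ * b⁻¹ * r⁻¹⁻¹) := congrArg Subtype.val e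
    have hfix : b⁻¹ * a = 1 := by
      refine h.fixed r⁻¹ (Or.inl hi) hi1 _ (mul_mem (inv_mem hb) ha) ?_
      show b⁻¹ * a * r⁻¹ = r⁻¹ * (b⁻¹ * a)
      calc b⁻¹ * a * r⁻¹ = b⁻¹ * (a * (r⁻¹ * a⁻¹ * r⁻¹⁻¹)) * r⁻¹ * a := by group
        _ = b⁻¹ * (b * (r⁻¹ * b⁻¹ * r⁻¹⁻¹)) * r⁻¹ * a := by rw [e']
        _ = r⁻¹ * (b⁻¹ * a) := by group
    exact Subtype.ext (inv_mul_eq_one.mp hfix).symm
  obtain ⟨⟨m, hm⟩, hme⟩ := (Finite.injective_iff_surjective.mp hinj) ⟨_, hgr⟩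
  have hme' : m * (r⁻¹ * m⁻¹ * r⁻¹⁻¹) = g * r * g⁻¹ * r := congrArg Subtype.val hme
  have hconj : (m⁻¹ * g) * r * (m⁻¹ * g)⁻¹ = r⁻¹ := by
    calc (m⁻¹ * g) * r * (m⁻¹ * g)⁻¹ = m⁻¹ * (g * r * g⁻¹ * r) * r⁻¹ * m := by group
      _ = m⁻¹ * (m * (r⁻¹ * m⁻¹ * r⁻¹⁻¹)) * r⁻¹ * m := by rw [hme']
      _ = r⁻¹ := by group
  refine ⟨m⁻¹ * g, ?_, by
    simpa [mul_assoc] using Subgroup.Normal.conj_mem ‹_› _ (inv_mem hm) g⁻¹, hconj⟩
  have htt : m⁻¹ * g * (m⁻¹ * g) ∈ N := by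
    rw [show m⁻¹ * g * (m⁻¹ * g) = m⁻¹ * (g * m⁻¹ * g⁻¹) * (g * g) by group]
    exact mul_mem (mul_mem (inv_mem hm) (Subgroup.Normal.conj_mem ‹_› _ (inv_mem hm) g)) hg
  refine h.fixed r (Or.inl hr) hr1 _ htt ?_
  set t := m⁻¹ * g
  have h2 : t * t * r * (t * t)⁻¹ = r := by
    rw [show t * t * r * (t * t)⁻¹ = t * (t * r * t⁻¹) * t⁻¹ by group, hconj,
      show t * r⁻¹ * t⁻¹ = (t * r * t⁻¹)⁻¹ by group, hconj, inv_inv]
  exact mul_inv_eq_iff_eq_mul.mp h2

theorem alt_witness : ∃ r : alternatingGroup (Fin 5), r ≠ 1 ∧ r * r * r = 1 ∧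
    Pres.x5 * Pres.y5 * r * (Pres.x5 * Pres.y5)⁻¹ * r = 1 := by
  decide +kernel

theorem alt_facts : Pres.x5 ≠ 1 ∧ Pres.y5 ≠ 1 ∧ Pres.x5 * Pres.y5 ≠ 1 := by
  decide +kernel

/-- A complement as an image of `SL₂(4)`. -/
theorem Setup.exists_hom (h : Setup N) [N.Normal] (e : G ⧸ N ≃* alternatingGroup (Fin 5)) :
    ∃ σ : SL(2, K4) →* G, ∀ g, σ g ∈ N → g = 1 := by
  have ker : ∀ g : G, e g = 1 ↔ g ∈ N := fun g => by
    rw [map_eq_one_iff e e.injective]; exact QuotientGroup.eq_one_iff g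
  have emul : ∀ a b : G, e ((a * b : G) : G ⧸ N) = e a * e b := fun a b => by
    rw [QuotientGroup.mk_mul, map_mul]
  have einv : ∀ a : G, e ((a⁻¹ : G) : G ⧸ N) = (e a)⁻¹ := fun a => by
    rw [QuotientGroup.mk_inv, map_inv]
  have hx3 : Pres.x5 * Pres.x5 * Pres.x5 = 1 := Pres.rels5.cube
  obtain ⟨rb, hrb, hrb3, hinv⟩ := alt_witness
  obtain ⟨r, hr⟩ := QuotientGroup.mk_surjective (e.symm rb)
  obtain ⟨g, hg⟩ := QuotientGroup.mk_surjective (e.symm (Pres.x5 * Pres.y5))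
  obtain ⟨x, hx⟩ := QuotientGroup.mk_surjective (e.symm Pres.x5)
  replace hr : e r = rb := by rw [hr, e.apply_symm_apply]
  replace hg : e g = Pres.x5 * Pres.y5 := by rw [hg, e.apply_symm_apply]
  replace hx : e x = Pres.x5 := by rw [hx, e.apply_symm_apply]
  have hrN : r ∉ N := fun hm => hrb (hr ▸ (ker r).mpr hm)
  have hr3 : r ^ 3 = 1 := h.pow_eq_one (Or.inl rfl) ((ker _).mp (by
    rw [pow_succ, pow_succ, pow_one, emul, emul, hr, hrb3])) hrN
  obtain ⟨t, htt, hgt, -⟩ := h.exists_inverting hr3 (fun e1 => hrN (e1 ▸ one_mem N))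
    ((ker _).mp (by rw [emul, hg]; exact Pres.rels5.sq))
    ((ker _).mp (by rw [emul, emul, emul, einv, hr, hg]; exact hinv))
  have het : e t = Pres.x5 * Pres.y5 := by
    have h1 := (ker _).mpr hgt
    rw [emul, einv, hg, inv_mul_eq_one] at h1
    exact h1.symm
  set y := x⁻¹ * t with hy
  have hey : e y = Pres.y5 := by rw [hy, emul, einv, hx, het, inv_mul_cancel_left]
  have hxN : x ∉ N := fun hm => alt_facts.1 (hx ▸ (ker x).mpr hm)
  have hyN : y ∉ N := fun hm => alt_facts.2.1 (hey ▸ (ker y).mpr hm)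
  have hx3' : x ^ 3 = 1 := h.pow_eq_one (Or.inl rfl) ((ker _).mp (by
    rw [pow_succ, pow_succ, pow_one, emul, emul, hx, hx3])) hxN
  have hy5 : y ^ 5 = 1 := h.pow_eq_one (Or.inr rfl) ((ker _).mp (by
    rw [pow_succ, pow_succ, pow_succ, pow_succ, pow_one, emul, emul, emul, emul, hey]
    exact Pres.rels5.five)) hyN
  let px : SL(2, K4) × G := (genX, x)
  let py : SL(2, K4) × G := (genY, y)
  let D : Subgroup (SL(2, K4) × G) := closure {px, py}
  let dx : D := ⟨px, subset_closure (by simp)⟩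
  let dy : D := ⟨py, subset_closure (by simp)⟩
  have hrels : Pres.Rels dx dy (1 : D) 1 := by
    refine ⟨?_, ?_, by simp, by simp, ?_, one_pow _⟩
    · exact Subtype.ext (Prod.ext gen_rels.cube (by
        show x * x * x = 1
        rw [← hx3']; simp only [pow_succ, pow_zero, one_mul]))
    · exact Subtype.ext (Prod.ext gen_rels.five (by
        show y * y * y * y * y = 1
        rw [← hy5]; simp only [pow_succ, pow_zero, one_mul]))
    · exact Subtype.ext (Prod.ext gen_rels.sq (by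
        show x * y * (x * y) = 1
        rw [hy, mul_inv_cancel_left, htt]))
  have hgen : closure ({dx, dy} : Set D) = ⊤ := by
    refine Subgroup.map_injective D.subtype_injective ?_
    rw [MonoidHom.map_closure, ← MonoidHom.range_eq_map, Subgroup.range_subtype]
    simp [D, dx, dy, Set.image_insert_eq]
  let φ : D →* SL(2, K4) := (MonoidHom.fst _ _).comp D.subtype
  have hφ : Function.Surjective φ := by
    rw [← MonoidHom.range_eq_top, eq_top_iff, ← gen_top, closure_le]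
    rintro _ (rfl | rfl)
    exacts [⟨dx, rfl⟩, ⟨dy, rfl⟩]
  haveI := Pres.finite one_pos hrels hgen
  have hle : Nat.card D ≤ 60 := Pres.card_le one_pos hrels hgen
  have hbij : Function.Bijective φ := (Nat.bijective_iff_surjective_and_card φ).2
    ⟨hφ, le_antisymm (card_sl ▸ hle) (Nat.card_le_card_of_surjective φ hφ)⟩
  let ψ := MulEquiv.ofBijective φ hbij
  let σ : SL(2, K4) →* G := ((MonoidHom.snd _ _).comp D.subtype).comp ψ.symm.toMonoidHom
  have hσX : σ genX = x := by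
    show (ψ.symm genX).1.2 = x
    rw [show genX = ψ dx from rfl, MulEquiv.symm_apply_apply]
  have hσY : σ genY = y := by
    show (ψ.symm genY).1.2 = y
    rw [show genY = ψ dy from rfl, MulEquiv.symm_apply_apply]
  let χ : SL(2, K4) →* alternatingGroup (Fin 5) :=
    (e.toMonoidHom.comp (QuotientGroup.mk' N)).comp σ
  have hχ : Function.Surjective χ := by
    rw [← MonoidHom.range_eq_top, eq_top_iff, ← Pres.gen5, closure_le]
    rintro _ (rfl | rfl)
    · exact ⟨genX, (congrArg (fun g : G => e (g : G ⧸ N)) hσX).trans hx⟩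
    · exact ⟨genY, (congrArg (fun g : G => e (g : G ⧸ N)) hσY).trans hey⟩
  have hχi : Function.Injective χ := ((Nat.bijective_iff_surjective_and_card χ).2
    ⟨hχ, by rw [card_sl, Pres.card_alt5]⟩).1
  refine ⟨σ, fun g hm => hχi ?_⟩
  rw [map_one]
  exact (ker _).mpr hm

end Cfsg.Agent.Recog71.CriticalSix
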