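import Cfsg.Agent.Recog71.CriticalSix

set_option autoImplicit false
set_option maxRecDepth 10000

/-!
The natural module inside an extension with element orders at most five, and the affine group.
-/

namespace Cfsg.Agent.Recog71.CriticalSix

open Subgroup Matrix
open scoped MatrixGroups

universe u

theorem pow_three_down : ∀ c : K4, c ≠ 0 → ∀ g : SL(2, K4),
    g 0 0 = 0 → g 1 0 = c → g 0 1 * c = 1 → g 1 1 = 1 → g ^ 3 = 1 ∧ g ≠ 1 ∧
      (g ^ 2 : SL(2, K4)).1 *ᵥ ![1, 0] = ![1, c] := by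
  decide +kernel

theorem diag_step : ∀ d : K4, d ≠ 0 → d ≠ 1 → ∃ g : SL(2, K4), g ^ 3 = 1 ∧ g ≠ 1 ∧
    g.1 *ᵥ ![1, 0] = ![d, 0] ∧ (g ^ 2 : SL(2, K4)).1 *ᵥ ![1, 0] = ![d + 1, 0] := by
  decide +kernel

theorem down_exists : ∀ c : K4, c ≠ 0 → ∃ g : SL(2, K4),
    g 0 0 = 0 ∧ g 1 0 = c ∧ g 0 1 * c = 1 ∧ g 1 1 = 1 := by
  decide +kernel

variable {G : Type u} [Group G] [Finite G] {N : Subgroup G}

/-- An element of the target of a hom into an elementary abelian 2-group fixed by a Sylow 2-subgroup. -/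
theorem Setup.exists_fixed (h : Setup N) (σ : SL(2, K4) →* G) :
    ∃ v ∈ N, v ≠ 1 ∧ ∀ t, σ (up t) * v * (σ (up t))⁻¹ = v := by
  haveI := h.normal
  haveI : Fact (Nat.Prime 2) := ⟨Nat.prime_two⟩
  let U : Subgroup G :=
    { carrier := {x | ∃ t, σ (up t) = x}
      one_mem' := ⟨0, by rw [show up 0 = 1 by decide +kernel, map_one]⟩
      mul_mem' := by
        rintro _ _ ⟨s, rfl⟩ ⟨t, rfl⟩
        exact ⟨s + t, by rw [← map_mul, up_mul]⟩
      inv_mem' := by
        rintro _ ⟨s, rfl⟩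
        refine ⟨s, (inv_eq_of_mul_eq_one_left ?_).symm⟩
        rw [← map_mul, up_mul, G24.K4.add_self, show up 0 = 1 by decide +kernel, map_one] }
  letI : MulAction U N := MulAction.compHom N ((MulAut.conjNormal (H := N)).comp U.subtype)
  have hU : IsPGroup 2 U := by
    rintro ⟨x, t, rfl⟩
    refine ⟨1, Subtype.ext ?_⟩
    show σ (up t) ^ 2 = 1
    rw [pow_two, ← map_mul, up_mul, G24.K4.add_self, show up 0 = 1 by decide +kernel, map_one]
  have hN : IsPGroup 2 N := fun n => ⟨1, Subtype.ext (by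
    show (n : G) ^ 2 = 1
    rw [pow_two]; exact h.sq _ n.2)⟩
  have hdvd : 2 ∣ Nat.card N := by
    obtain ⟨k, hk⟩ := hN.exists_card_eq
    rcases k with _ | k
    · exact absurd (Subgroup.card_eq_one.mp (hk.trans (pow_zero 2))) h.ne_bot
    · rw [hk]; exact dvd_pow_self 2 (Nat.succ_ne_zero k)
  have h1 : (1 : N) ∈ MulAction.fixedPoints U N := fun u =>
    Subtype.ext (by
      show ((MulAut.conjNormal (u : G) (1 : N) : N) : G) = 1
      simp)
  obtain ⟨v, hv, hv1⟩ := hU.exists_fixed_point_of_prime_dvd_card_of_fixed_point N hdvd h1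
  refine ⟨v, v.2, fun e => hv1 (Subtype.ext e.symm), fun t => ?_⟩
  have hv' := congrArg Subtype.val (hv ⟨σ (up t), t, rfl⟩ : _ • v = v)
  exact (MulAut.conjNormal_apply (σ (up t)) v).symm.trans hv'

theorem eq_mulVec (g : SL(2, K4)) : g.1 *ᵥ ![1, 0] = ![g 0 0, g 1 0] := by
  funext i; fin_cases i <;> simp [Matrix.mulVec, dotProduct, Fin.sum_univ_two]

/-- The natural module inside `N`. -/
theorem Setup.exists_module (h : Setup N) (σ : SL(2, K4) →* G) (hσ : Function.Injective σ) :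
    ∃ f : (Fin 2 → K4) → G, (∀ w, f w ∈ N) ∧ (∀ w w', f (w + w') = f w * f w') ∧
      (∀ g w, f (g.1 *ᵥ w) = σ g * f w * (σ g)⁻¹) ∧ ∀ w, f w = 1 → w = 0 := by
  classical
  haveI := h.normal
  obtain ⟨v, hv, hv1, hfix⟩ := h.exists_fixed σ
  have hsurj : ∀ w : Fin 2 → K4, w ≠ 0 → ∃ g : SL(2, K4), g.1 *ᵥ ![1, 0] = w := by
    intro w hw
    obtain ⟨g, ha, hb⟩ := trans_one 1 one_ne_zero (w 0) (w 1) (by
      by_contra hc
      push Not at hc
      exact hw (funext fun i => by fin_cases i <;> simp [hc.1, hc.2]))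
    exact ⟨g, by rw [eq_mulVec, ha, hb]; funext i; fin_cases i <;> rfl⟩
  choose rep hrep using hsurj
  let f : (Fin 2 → K4) → G := fun w => if hw : w = 0 then 1 else σ (rep w hw) * v * (σ (rep w hw))⁻¹
  have hf0 : f 0 = 1 := dif_pos rfl
  have hforb : ∀ g : SL(2, K4), f (g.1 *ᵥ ![1, 0]) = σ g * v * (σ g)⁻¹ := by
    intro g
    have hne : g.1 *ᵥ ![1, 0] ≠ 0 := by
      intro e
      have h0 : g 0 0 = 0 ∧ g 1 0 = 0 := by
        rw [eq_mulVec] at e
        exact ⟨congrFun e 0, congrFun e 1⟩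
      have := g.det_coe
      rw [Matrix.det_fin_two, h0.1, h0.2] at this
      simp at this
    simp only [f, dif_neg hne]
    set r := rep _ hne with hr
    have hrg : (r⁻¹ * g).1 *ᵥ ![1, 0] = ![1, 0] := by
      rw [Matrix.SpecialLinearGroup.coe_mul, ← Matrix.mulVec_mulVec, ← hrep _ hne, ← hr,
        Matrix.mulVec_mulVec, ← Matrix.SpecialLinearGroup.coe_mul, inv_mul_cancel,
        Matrix.SpecialLinearGroup.coe_one, Matrix.one_mulVec]
    rw [eq_mulVec] at hrg
    have hup := up_of_fix _ (congrFun hrg 0) (congrFun hrg 1)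
    have hk := hfix ((r⁻¹ * g).1 0 1)
    rw [← hup, map_mul, map_inv] at hk
    calc σ r * v * (σ r)⁻¹ = σ r * ((σ r)⁻¹ * σ g * v * ((σ r)⁻¹ * σ g)⁻¹) * (σ r)⁻¹ := by rw [hk]
      _ = σ g * v * (σ g)⁻¹ := by group
  have hfN : ∀ w, f w ∈ N := fun w => by
    by_cases hw : w = 0
    · simp only [f, dif_pos hw]; exact one_mem N
    · simp only [f, dif_neg hw]; exact Subgroup.Normal.conj_mem ‹_› v hv _
  have hfeq : ∀ g w, f (g.1 *ᵥ w) = σ g * f w * (σ g)⁻¹ := by
    intro g w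
    by_cases hw : w = 0
    · subst hw; rw [Matrix.mulVec_zero, hf0, mul_one, mul_inv_cancel]
    · rw [← hrep w hw, hforb, Matrix.mulVec_mulVec, ← Matrix.SpecialLinearGroup.coe_mul, hforb,
        map_mul]
      group
  have hf1 : ∀ w, f w = 1 → w = 0 := by
    intro w e
    by_contra hw
    simp only [f, dif_neg hw] at e
    exact hv1 (conj_eq_one_iff.mp e)
  have hinv : ∀ a, (f a)⁻¹ = f a := fun a => inv_eq_of_mul_eq_one_left (h.sq _ (hfN a))
  have hv' : f ![1, 0] = v := by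
    have := hforb 1
    rwa [Matrix.SpecialLinearGroup.coe_one, Matrix.one_mulVec, map_one, inv_one, one_mul, mul_one]
      at this
  -- addition to the first basis vector
  have hbase : ∀ w : Fin 2 → K4, f (![1, 0] + w) = f ![1, 0] * f w := by
    intro w
    by_cases hw : w = 0
    · subst hw; rw [add_zero, hf0, mul_one]
    by_cases hwe : w = ![1, 0]
    · subst hwe
      rw [show (![1, 0] : Fin 2 → K4) + ![1, 0] = 0 from funext fun i => G24.K4.add_self _, hf0,
        h.sq _ (hfN _)]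
    -- an element of order three sends the vectors around
    obtain ⟨g, hg3, hg1, ha, hb⟩ : ∃ g : SL(2, K4), g ^ 3 = 1 ∧ g ≠ 1 ∧
        g.1 *ᵥ ![1, 0] = w ∧ (g ^ 2 : SL(2, K4)).1 *ᵥ ![1, 0] = ![1, 0] + w := by
      by_cases hw1 : w 1 = 0
      · have hd0 : w 0 ≠ 0 := fun e => hw (funext fun i => by fin_cases i <;> simp [e, hw1])
        have hd1 : w 0 ≠ 1 := fun e => hwe (funext fun i => by fin_cases i <;> simp [e, hw1])
        obtain ⟨g, h3, h1, p, q⟩ := diag_step (w 0) hd0 hd1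
        refine ⟨g, h3, h1, ?_, ?_⟩
        · rw [p]; funext i; fin_cases i <;> simp [hw1]
        · rw [q]; funext i; fin_cases i <;> simp [hw1, add_comm]
      · -- conjugate by a unitriangular element
        obtain ⟨k, k00, k10, k01, k11⟩ := down_exists (w 1) hw1
        obtain ⟨h3, h1, hq⟩ := pow_three_down (w 1) hw1 k k00 k10 k01 k11
        let t := w 0 * (w 1)⁻¹
        have hup1 : ∀ t : K4, (up t).1 *ᵥ ![1, 0] = ![1, 0] := fun t => by
          funext i; fin_cases i <;> simp [up]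
        have hconj : ∀ x : SL(2, K4), ((up t * x * (up t)⁻¹) : SL(2, K4)).1 *ᵥ ![1, 0] =
            (up t).1 *ᵥ (x.1 *ᵥ ![1, 0]) := fun x => by
          have hi : ((up t)⁻¹ : SL(2, K4)).1 *ᵥ ![1, 0] = ![1, 0] := by
            rw [inv_eq_of_mul_eq_one_left (show up t * up t = 1 by
              rw [up_mul, G24.K4.add_self]; decide +kernel)]
            exact hup1 t
          rw [Matrix.SpecialLinearGroup.coe_mul, Matrix.SpecialLinearGroup.coe_mul,
            ← Matrix.mulVec_mulVec, hi, ← Matrix.mulVec_mulVec]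
        refine ⟨up t * k * (up t)⁻¹, ?_, ?_, ?_, ?_⟩
        · rw [conj_pow, h3, mul_one, mul_inv_cancel]
        · exact fun e => h1 (conj_eq_one_iff.mp e)
        · rw [hconj, eq_mulVec, k00, k10]
          funext i; fin_cases i <;> simp [up, t] <;> field_simp
        · rw [conj_pow, hconj, hq]
          funext i; fin_cases i <;> simp [up, t] <;> field_simp
    have hσ3 : σ g ^ 3 = 1 := by rw [← map_pow, hg3, map_one]
    have hσ1 : σ g ≠ 1 := fun e => hg1 (hσ (e.trans (map_one σ).symm))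
    have key := h.mul_conj hσ3 hσ1 hv
    rw [← map_pow, ← hforb g, ← hforb (g ^ 2), ha, hb, ← hv'] at key
    have := eq_inv_of_mul_eq_one_right key
    rw [this, _root_.mul_inv_rev, hinv, hinv, h.comm _ (hfN w) _ (hfN _)]
  refine ⟨f, hfN, fun a b => ?_, hfeq, hf1⟩
  by_cases ha : a = 0
  · subst ha; rw [zero_add, hf0, one_mul]
  · set r := rep a ha with hr
    have hb' : b = r.1 *ᵥ ((r⁻¹ : SL(2, K4)).1 *ᵥ b) := by
      rw [Matrix.mulVec_mulVec, ← Matrix.SpecialLinearGroup.coe_mul, mul_inv_cancel,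
        Matrix.SpecialLinearGroup.coe_one, Matrix.one_mulVec]
    calc f (a + b) = f (r.1 *ᵥ (![1, 0] + (r⁻¹ : SL(2, K4)).1 *ᵥ b)) := by
          rw [Matrix.mulVec_add, ← hb', hr, hrep a ha]
      _ = f a * f b := by
        rw [hfeq, hbase]
        conv_rhs => rw [← hrep a ha, ← hr, hb', hfeq, hfeq]
        group

end Cfsg.Agent.Recog71.CriticalSix
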