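import Cfsg.Agent.Recog71.G24Field
import Cfsg.Agent.FPFStructure.Pres

set_option autoImplicit false
set_option maxRecDepth 10000

/-!
Generators of `SL₂(4)` satisfying the icosahedral relations, and small checks.
-/

namespace Cfsg.Agent.Recog71.CriticalSix

open Matrix FPFStructure
open scoped MatrixGroups

abbrev K4 := G24.K4

/-- A primitive element. -/
def ω : K4 := ⟨2⟩

/-- The generator of order three. -/
def genX : SL(2, K4) := ⟨!![0, 1; 1, 1], by decide +kernel⟩

/-- The generator of order five. -/
def genY : SL(2, K4) := ⟨!![1, ω + 1; 1, ω], by decide +kernel⟩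

theorem gen_rels : Pres.Rels genX genY 1 1 := by
  constructor <;> decide +kernel

theorem gen_cover : ∀ g : SL(2, K4), ∃ a, Pres.word genX genY 1 1 a = g := by decide +kernel

theorem gen_top : Subgroup.closure ({genX, genY} : Set SL(2, K4)) = ⊤ :=
  eq_top_iff.2 fun g _ => by
    obtain ⟨a, rfl⟩ := gen_cover g
    exact Pres.word_mem (x := genX) (y := genY) (z := (1 : SL(2, K4))) (m := 1)
      (Subgroup.subset_closure (by simp)) (Subgroup.subset_closure (by simp)) (one_mem _) a

theorem card_sl : Nat.card SL(2, K4) = 60 := by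
  rw [Nat.card_eq_fintype_card]; decide +kernel

/-- An upper unitriangular element. -/
def up (t : K4) : SL(2, K4) := ⟨!![1, t; 0, 1], by simp [Matrix.det_fin_two_of]⟩

theorem up_mul : ∀ s t : K4, up s * up t = up (s + t) := by decide +kernel

theorem up_of_fix : ∀ g : SL(2, K4), g 0 0 = 1 → g 1 0 = 0 → g = up (g 0 1) := by decide +kernel

theorem trans_one : ∀ c : K4, c ≠ 0 → ∀ a b : K4, a ≠ 0 ∨ b ≠ 0 →
    ∃ g : SL(2, K4), g 0 0 = a ∧ g 1 0 = b := by decide +kernel

end Cfsg.Agent.Recog71.CriticalSix
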