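import Cfsg.Agent.Recog71.CriticalSixAffine
import Cfsg.Prelude.Def_Local

set_option autoImplicit false
set_option maxRecDepth 10000

/-!
Groups critical for the element orders one to five, given the list of the groups with these orders.
-/

namespace Cfsg.Agent.Recog71.CriticalSix

open Subgroup Matrix
open scoped MatrixGroups

universe u

/-- The affine matrices. -/
def affine : Subgroup SL(3, K4) :=
  closure {M : SL(3, K4) | (M : Matrix (Fin 3) (Fin 3) K4) 2 0 = 0 ∧
    (M : Matrix (Fin 3) (Fin 3) K4) 2 1 = 0 ∧ (M : Matrix (Fin 3) (Fin 3) K4) 2 2 = 1}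

theorem affine_row {M : SL(3, K4)} (h : M ∈ affine) :
    M 2 0 = 0 ∧ M 2 1 = 0 ∧ M 2 2 = 1 := by
  have hpow : ∀ {A B : SL(3, K4)}, (A 2 0 = 0 ∧ A 2 1 = 0 ∧ A 2 2 = 1) →
      (B 2 0 = 0 ∧ B 2 1 = 0 ∧ B 2 2 = 1) →
      (A * B) 2 0 = 0 ∧ (A * B) 2 1 = 0 ∧ (A * B) 2 2 = 1 := by
    rintro A B ⟨a0, a1, a2⟩ ⟨b0, b1, b2⟩
    simp [Matrix.mul_apply, Fin.sum_univ_three, a0, a1, a2, b0, b1, b2]
  induction h using Subgroup.closure_induction with
  | mem M hM => exact hM
  | one => simp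
  | mul A B _ _ ha hb => exact hpow ha hb
  | inv A _ ha =>
    obtain ⟨a0, a1, a2⟩ := ha
    have e := congrArg Subtype.val (mul_inv_cancel A)
    rw [Matrix.SpecialLinearGroup.coe_mul] at e
    have e0 := congrFun (congrFun e 2) 0
    have e1 := congrFun (congrFun e 2) 1
    have e2 := congrFun (congrFun e 2) 2
    simp [Matrix.mul_apply, Fin.sum_univ_three, a0, a1, a2, -Matrix.SpecialLinearGroup.coe_inv] at e0 e1 e2
    exact ⟨e0, e1, e2⟩

/-- The linear part. -/
def blk (M : affine) : SL(2, K4) :=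
  ⟨!![M.1 0 0, M.1 0 1; M.1 1 0, M.1 1 1], by
    obtain ⟨h0, h1, h2⟩ := affine_row M.2
    have h := M.1.det_coe
    rw [Matrix.det_fin_three, h0, h1, h2] at h
    rw [Matrix.det_fin_two_of]
    linear_combination h⟩

/-- The translation part. -/
def col (M : affine) : Fin 2 → K4 := ![M.1 0 2, M.1 1 2]

theorem blk_mul (A B : affine) : blk (A * B) = blk A * blk B := by
  obtain ⟨b0, b1, b2⟩ := affine_row B.2
  refine Subtype.ext ?_
  rw [Matrix.SpecialLinearGroup.coe_mul]
  ext i j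
  fin_cases i <;> fin_cases j <;>
    simp [blk, Matrix.mul_apply, Fin.sum_univ_three, Fin.sum_univ_two, b0, b1, b2]

theorem col_mul (A B : affine) : col (A * B) = col A + (blk A).1 *ᵥ col B := by
  obtain ⟨b0, b1, b2⟩ := affine_row B.2
  funext i
  fin_cases i <;>
    simp [col, blk, Matrix.mul_apply, Matrix.mulVec, dotProduct, Fin.sum_univ_three, Fin.sum_univ_two,
      b0, b1, b2] <;> ring

theorem affine_ext {A B : affine} (h : blk A = blk B) (h' : col A = col B) : A = B := by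
  obtain ⟨a0, a1, a2⟩ := affine_row A.2
  obtain ⟨b0, b1, b2⟩ := affine_row B.2
  have e00 := congrArg (fun X : SL(2, K4) => X.1 0 0) h
  have e01 := congrArg (fun X : SL(2, K4) => X.1 0 1) h
  have e10 := congrArg (fun X : SL(2, K4) => X.1 1 0) h
  have e11 := congrArg (fun X : SL(2, K4) => X.1 1 1) h
  have c0 := congrFun h' 0
  have c1 := congrFun h' 1
  simp [blk] at e00 e01 e10 e11
  simp [col] at c0 c1
  refine Subtype.ext (Subtype.ext ?_)
  ext i j
  fin_cases i <;> fin_cases j <;> simp_all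

theorem affine_witness :
    (∃ M : SL(3, K4), M 2 0 = 0 ∧ M 2 1 = 0 ∧ M 2 2 = 1 ∧ M.1 * M.1 ≠ 1 ∧ M.1 * M.1 * (M.1 * M.1) = 1) ∧
    (∃ M : SL(3, K4), M 2 0 = 0 ∧ M 2 1 = 0 ∧ M 2 2 = 1 ∧ M.1 ≠ 1 ∧ M.1 * M.1 * M.1 = 1) ∧
    (∃ M : SL(3, K4), M 2 0 = 0 ∧ M 2 1 = 0 ∧ M 2 2 = 1 ∧ M.1 ≠ 1 ∧ M.1 * M.1 * M.1 * M.1 * M.1 = 1) := by
  refine ⟨⟨⟨!![1, 1, 0; 0, 1, 1; 0, 0, 1], by decide +kernel⟩, by decide +kernel⟩,
    ⟨⟨!![0, 1, 0; 1, 1, 0; 0, 0, 1], by decide +kernel⟩, by decide +kernel⟩,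
    ⟨⟨!![1, ω + 1, 0; 1, ω, 0; 0, 0, 1], by decide +kernel⟩, by decide +kernel⟩⟩

theorem affine_orders : ∀ k ∈ ({1, 2, 3, 4, 5} : Set ℕ), ∃ M : affine, orderOf M = k := by
  haveI := Fact.mk Nat.prime_two
  haveI := Fact.mk Nat.prime_three
  haveI : Fact (Nat.Prime 5) := ⟨by norm_num⟩
  obtain ⟨⟨A, a0, a1, a2, aA, aA4⟩, ⟨B, b0, b1, b2, bB, bB3⟩, ⟨C, c0, c1, c2, cC, cC5⟩⟩ := affine_witness
  let A' : affine := ⟨A, subset_closure ⟨a0, a1, a2⟩⟩
  let B' : affine := ⟨B, subset_closure ⟨b0, b1, b2⟩⟩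
  let C' : affine := ⟨C, subset_closure ⟨c0, c1, c2⟩⟩
  have h4 : orderOf A' = 4 := by
    refine orderOf_eq_prime_pow (p := 2) (n := 1) ?_ ?_
    · intro e
      apply aA
      have := congrArg (fun X : affine => X.1.1) e
      simpa [A', pow_two] using this
    · refine Subtype.ext (Subtype.ext ?_)
      simpa [A', pow_succ, mul_assoc] using aA4
  have h3 : orderOf B' = 3 := by
    refine orderOf_eq_prime ?_ ?_
    · refine Subtype.ext (Subtype.ext ?_)
      simpa [B', pow_succ, mul_assoc] using bB3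
    · intro e; exact bB (congrArg (fun X : affine => X.1.1) e)
  have h5 : orderOf C' = 5 := by
    refine orderOf_eq_prime ?_ ?_
    · refine Subtype.ext (Subtype.ext ?_)
      simpa [C', pow_succ, mul_assoc] using cC5
    · intro e; exact cC (congrArg (fun X : affine => X.1.1) e)
  intro k hk
  simp only [Set.mem_insert_iff, Set.mem_singleton_iff] at hk
  rcases hk with rfl | rfl | rfl | rfl | rfl
  · exact ⟨1, orderOf_one⟩
  · exact ⟨A' ^ 2, by rw [orderOf_pow' A' two_ne_zero, h4]; rfl⟩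
  · exact ⟨B', h3⟩
  · exact ⟨A', h4⟩
  · exact ⟨C', h5⟩

theorem five_set : ({1, 2, 3, 4, 5} : Set ℕ) = {k | 1 ≤ k ∧ k ≤ 5} := by
  ext k
  simp only [Set.mem_insert_iff, Set.mem_singleton_iff, Set.mem_setOf_eq]
  omega

theorem alt_no_four : ∀ g : alternatingGroup (Fin 5), g * g * (g * g) = 1 → g * g = 1 := by
  decide +kernel

variable {G : Type u} [Group G] [Finite G]

theorem setup_of_orders (h : ∀ g : G, orderOf g ≤ 5) (h4 : ∃ g : G, orderOf g = 4)
    {N : Subgroup G} [N.Normal] (hN : Cfsg.IsElementaryAbelian 2 N)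
    (e : G ⧸ N ≃* alternatingGroup (Fin 5)) : Setup N := by
  have hsq : ∀ n ∈ N, n * n = 1 := fun n hn => by rw [← pow_two]; exact hN.2 n hn
  haveI := hN.1
  refine ⟨inferInstance, hsq, fun n hn n' hn' => setLike_mul_comm hn hn', ?_, ?_⟩
  · intro g hg hg1 n hn hc
    by_contra hn1
    have h2 : orderOf n = 2 := by
      haveI := Fact.mk Nat.prime_two
      exact orderOf_eq_prime (hN.2 n hn) hn1
    have hp : orderOf g = 3 ∨ orderOf g = 5 := by
      haveI := Fact.mk Nat.prime_three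
      haveI : Fact (Nat.Prime 5) := ⟨by norm_num⟩
      rcases hg with e | e
      · exact Or.inl (orderOf_eq_prime e hg1)
      · exact Or.inr (orderOf_eq_prime e hg1)
    have := h (n * g)
    rw [hc.orderOf_mul_eq_mul_orderOf_of_coprime (by rw [h2]; rcases hp with e | e <;> rw [e] <;> norm_num),
      h2] at this
    omega
  · intro hbot
    obtain ⟨g, hg⟩ := h4
    subst hbot
    let π := (e.toMonoidHom.comp (QuotientGroup.mk' (⊥ : Subgroup G)))
    have hinj : Function.Injective π := fun a b hab => by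
      have := QuotientGroup.eq.mp (e.injective hab)
      rw [Subgroup.mem_bot] at this
      exact inv_mul_eq_one.mp this
    have h2 : g * g = 1 := hinj (by
      rw [map_mul, map_one]
      refine alt_no_four _ ?_
      rw [← map_mul, ← map_mul, ← map_one π]
      congr 1
      have := pow_orderOf_eq_one g
      rw [hg] at this
      simpa [pow_succ, mul_assoc] using this)
    have := orderOf_dvd_of_pow_eq_one (show g ^ 2 = 1 by rw [pow_two]; exact h2)
    rw [hg] at this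
    norm_num at this

/-- A critical extension is the affine group. -/
theorem equiv_affine {N : Subgroup G} [N.Normal] (h : Setup N) (e : G ⧸ N ≃* alternatingGroup (Fin 5))
    (hω : Set.range (orderOf : G → ℕ) = {1, 2, 3, 4, 5})
    (hcrit : ∀ (H : Subgroup G) (N : Subgroup ↥H) [N.Normal], (H ≠ ⊤ ∨ N ≠ ⊥) →
      Set.range (orderOf : (↥H ⧸ N) → ℕ) ≠ ({1, 2, 3, 4, 5} : Set ℕ)) :
    Nonempty (G ≃* affine) := by
  obtain ⟨σ, hσN⟩ := h.exists_hom e
  have hσ : Function.Injective σ := by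
    rw [injective_iff_map_eq_one]
    exact fun g hg => hσN g (hg ▸ one_mem N)
  obtain ⟨f, hfN, hfadd, hfeq, hf1⟩ := h.exists_module σ hσ
  let Φ : affine →* G := MonoidHom.mk' (fun M => f (col M) * σ (blk M)) fun A B => by
    rw [col_mul, blk_mul, map_mul, hfadd, hfeq]
    group
  have hinj : Function.Injective Φ := by
    rw [injective_iff_map_eq_one]
    intro M hM
    have hM' : f (col M) * σ (blk M) = 1 := hM
    have hb : blk M = 1 := hσN _ (by
      rw [eq_inv_of_mul_eq_one_right hM']; exact inv_mem (hfN _))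
    rw [hb, map_one, mul_one] at hM'
    have hc := hf1 _ hM'
    have h1 : blk (1 : affine) = 1 := by
      ext i j; fin_cases i <;> fin_cases j <;> simp [blk]
    have h1' : col (1 : affine) = 0 := by
      funext i; fin_cases i <;> simp [col]
    exact affine_ext (hb.trans h1.symm) (hc.trans h1'.symm)
  have htop : Φ.range = ⊤ := by
    by_contra hne
    refine hcrit Φ.range ⊥ (Or.inl hne) ?_
    refine Set.Subset.antisymm ?_ fun k hk => ?_
    · rintro _ ⟨x, rfl⟩
      rw [← hω, ← MulEquiv.orderOf_eq QuotientGroup.quotientBot x, ← Subgroup.orderOf_coe]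
      exact ⟨_, rfl⟩
    · obtain ⟨M, hM⟩ := affine_orders k hk
      refine ⟨QuotientGroup.quotientBot.symm (Φ.rangeRestrict M), ?_⟩
      rw [MulEquiv.orderOf_eq, orderOf_injective Φ.rangeRestrict
        (MonoidHom.rangeRestrict_injective_iff.mpr hinj), hM]
  exact ⟨(MulEquiv.ofBijective Φ ⟨hinj, MonoidHom.range_eq_top.mp htop⟩).symm⟩

/-- The critical groups, given the groups with these element orders. -/
theorem main (hS3433 : ∀ {G : Type u} [Group G] [Finite G],
      Set.range (orderOf : G → ℕ) = {k : ℕ | 1 ≤ k ∧ k ≤ 5} →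
      Nonempty (G ≃* ↥(alternatingGroup (Fin 6))) ∨
        ∃ (N : Subgroup G) (_ : N.Normal), Cfsg.IsElementaryAbelian 2 N ∧
          Nonempty (G ⧸ N ≃* ↥(alternatingGroup (Fin 5))))
    (hω : Set.range (orderOf : G → ℕ) = {1, 2, 3, 4, 5})
    (hcrit : ∀ (H : Subgroup G) (N : Subgroup ↥H) [N.Normal], (H ≠ ⊤ ∨ N ≠ ⊥) →
      Set.range (orderOf : (↥H ⧸ N) → ℕ) ≠ ({1, 2, 3, 4, 5} : Set ℕ)) :
    Nonempty (G ≃* alternatingGroup (Fin 6)) ∨
      ∃ (F : Type) (_ : Field F) (_ : Fintype F), Fintype.card F = 4 ∧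
        Nonempty (G ≃* ↥(closure {M : Matrix.SpecialLinearGroup (Fin 3) F |
          (M : Matrix (Fin 3) (Fin 3) F) 2 0 = 0 ∧ (M : Matrix (Fin 3) (Fin 3) F) 2 1 = 0 ∧
            (M : Matrix (Fin 3) (Fin 3) F) 2 2 = 1})) := by
  rcases hS3433 (hω.trans five_set) with hA | ⟨N, hN, hel, ⟨e⟩⟩
  · exact Or.inl hA
  · have hmem : ∀ g : G, orderOf g ∈ {k : ℕ | 1 ≤ k ∧ k ≤ 5} := fun g => by
      rw [← five_set, ← hω]; exact ⟨g, rfl⟩
    have h4 : ∃ g : G, orderOf g = 4 := by
      have : (4 : ℕ) ∈ Set.range (orderOf : G → ℕ) := by rw [hω]; simp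
      exact this
    refine Or.inr ⟨K4, inferInstance, inferInstance, G24.K4.card_eq, ?_⟩
    exact equiv_affine (setup_of_orders (fun g => (hmem g).2) h4 hel e) e hω hcrit

end Cfsg.Agent.Recog71.CriticalSix
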