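import Mathlib

set_option autoImplicit false

namespace Cfsg.Agent.Recog71

theorem Subgroup.Normal.map_conj_eq_self' {G : Type*} [Group G] {N : _root_.Subgroup G}
    (hN : N.Normal) (g : G) : N.map (MulAut.conj g).toMonoidHom = N := by
  ext x
  simp only [_root_.Subgroup.mem_map]
  constructor
  · rintro ⟨y, hy, rfl⟩
    exact hN.conj_mem y hy g
  · intro hx
    exact ⟨g⁻¹ * x * g, by simpa using hN.conj_mem x hx g⁻¹, by simp [mul_assoc]⟩

theorem exists_involution_generator {G : Type*} [Group G] (A : _root_.Subgroup G)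
    (h : Nat.card A = 2) : ∃ t : G, t ∈ A ∧ A = _root_.Subgroup.zpowers t ∧ orderOf t = 2 := by
  haveI : Finite A := Nat.finite_of_card_ne_zero (by omega)
  haveI := Fact.mk Nat.prime_two
  obtain ⟨t, ht⟩ := exists_prime_orderOf_dvd_card' (G := A) 2 (by rw [h])
  have ht' : orderOf (t : G) = 2 := by rw [_root_.Subgroup.orderOf_coe, ht]
  refine ⟨t, t.2, ?_, ht'⟩
  refine (_root_.Subgroup.eq_of_le_of_card_ge (by simpa using t.2) ?_).symm
  rw [Nat.card_zpowers, ht', h]

/-- If `⟨t⟩` of order 2 is maximal and not normal and `s` is another involution,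
the group is dihedral of order twice a prime. -/
theorem dihedral_of_maximal_involution {G : Type*} [Group G] [Finite G] (t s : G)
    (ht : orderOf t = 2) (hs : orderOf s = 2)
    (hmax : IsCoatom (_root_.Subgroup.zpowers t))
    (hne : _root_.Subgroup.zpowers t ≠ _root_.Subgroup.zpowers s)
    (hnn : ¬ (_root_.Subgroup.zpowers t).Normal) :
    ∃ p : ℕ, p.Prime ∧ Nonempty (G ≃* DihedralGroup p) := by
  have htt : t * t = 1 := by rw [← pow_two, ← ht, pow_orderOf_eq_one]
  have hss : s * s = 1 := by rw [← pow_two, ← hs, pow_orderOf_eq_one]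
  have hti : t⁻¹ = t := inv_eq_of_mul_eq_one_right htt
  have hsi : s⁻¹ = s := inv_eq_of_mul_eq_one_right hss
  set r := t * s with hr
  have hts : t ≠ s := fun e => hne (by rw [e])
  have htr : t * r * t = r⁻¹ := by
    rw [hr, mul_inv_rev, hti, hsi]
    simp [← mul_assoc, htt]
  set n := orderOf r with hn
  have hnpos : 0 < n := orderOf_pos r
  have : NeZero n := ⟨hnpos.ne'⟩
  have hn1 : n ≠ 1 := by
    intro h
    rw [hn, orderOf_eq_one_iff, hr] at h
    apply hts
    rw [← inv_eq_of_mul_eq_one_right h, hti]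
  -- powers of r are inverted by t
  have htk : ∀ k : ℤ, t * r ^ k * t = r ^ (-k) := by
    intro k
    have : t * r ^ k * t⁻¹ = (t * r * t⁻¹) ^ k := by rw [conj_zpow]
    rw [hti] at this
    rw [this, htr, inv_zpow, zpow_neg]
  have htR : t ∉ _root_.Subgroup.zpowers r := by
    intro h
    -- then G is abelian, so ⟨t⟩ is normal
    apply hnn
    have hgen : _root_.Subgroup.zpowers r = ⊤ := by
      refine hmax.2 _ (lt_of_le_of_ne (by simpa using h) fun e => ?_)
      have hs' : s ∈ _root_.Subgroup.zpowers t := by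
        have h1 : r ∈ _root_.Subgroup.zpowers t := e ▸ _root_.Subgroup.mem_zpowers r
        have h2 : s = t⁻¹ * r := by rw [hr]; simp
        rw [h2]
        exact _root_.Subgroup.mul_mem _ (_root_.Subgroup.inv_mem _ (_root_.Subgroup.mem_zpowers t)) h1
      refine hne (_root_.Subgroup.eq_of_le_of_card_ge (by simpa using hs') ?_).symm
      simp [Nat.card_zpowers, ht, hs]
    constructor
    intro x hx g
    have hg : g ∈ _root_.Subgroup.zpowers r := hgen ▸ trivial
    have hx' : x ∈ _root_.Subgroup.zpowers r := hgen ▸ trivial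
    obtain ⟨i, rfl⟩ := hg
    obtain ⟨j, rfl⟩ := hx'
    simp only
    rw [← zpow_add, ← zpow_neg, ← zpow_add]
    simpa [show i + j + -i = j by ring] using hx
  let f : DihedralGroup n → G := fun x => match x with
    | .r i => r ^ (i.val : ℤ)
    | .sr i => t * r ^ (i.val : ℤ)
  have hval : ∀ (a : ZMod n) (b : ℤ), (a : ZMod n) = (b : ZMod n) → r ^ (a.val : ℤ) = r ^ b := by
    intro a b hab
    rw [zpow_eq_zpow_iff_modEq, ← hn, ← ZMod.intCast_eq_intCast_iff, ← hab]
    simp
  have hmul : ∀ x y, f (x * y) = f x * f y := by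
    rintro (i | i) (j | j) <;>
      simp only [f, DihedralGroup.r_mul_r, DihedralGroup.r_mul_sr, DihedralGroup.sr_mul_r,
        DihedralGroup.sr_mul_sr]
    · rw [hval _ ((i.val : ℤ) + j.val) (by simp), zpow_add]
    · rw [hval _ (-(i.val : ℤ) + j.val) (by simp; ring), zpow_add]
      rw [← htk i.val]
      simp [← mul_assoc, htt]
    · rw [hval _ ((i.val : ℤ) + j.val) (by simp), zpow_add, mul_assoc]
    · rw [hval _ (-(i.val : ℤ) + j.val) (by simp; ring), zpow_add, ← htk i.val]
      simp [← mul_assoc]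
  let F : DihedralGroup n →* G := MonoidHom.mk' f hmul
  have hinj : Function.Injective F := by
    rw [injective_iff_map_eq_one]
    rintro (i | i) h
    · have h' : r ^ i.val = 1 := by
        have h0 : r ^ (i.val : ℤ) = 1 := h
        rwa [zpow_natCast] at h0
      have := Nat.eq_zero_of_dvd_of_lt (orderOf_dvd_of_pow_eq_one h') (ZMod.val_lt i)
      rw [ZMod.val_eq_zero] at this
      simp [this]
    · refine absurd ?_ htR
      have h0 : t * r ^ (i.val : ℤ) = 1 := h
      rw [eq_inv_of_mul_eq_one_left h0]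
      exact _root_.Subgroup.inv_mem _ ⟨_, rfl⟩
  have hsurj : Function.Surjective F := by
    rw [← MonoidHom.range_eq_top]
    have h1 : (1 : ZMod n).val = 1 := by
      haveI : Fact (1 < n) := ⟨by omega⟩
      exact ZMod.val_one n
    have htF : t ∈ F.range := ⟨.sr 0, by simp [F, f]⟩
    have hrF : r ∈ F.range := ⟨.r 1, by show r ^ (((1 : ZMod n).val : ℕ) : ℤ) = r; rw [h1]; simp⟩
    refine hmax.2 _ (lt_of_le_of_ne (by simpa using htF) fun e => htR ?_)
    rw [← e] at hrF
    -- r ∈ ⟨t⟩ forces r = t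
    obtain ⟨k, hk⟩ := hrF
    simp only at hk
    rcases Int.even_or_odd k with ⟨l, rfl⟩ | ⟨l, rfl⟩
    · exfalso
      apply hn1
      rw [hn, orderOf_eq_one_iff, ← hk, ← two_mul, zpow_mul, zpow_two, htt, one_zpow]
    · have hkt : r = t := by
        rw [← hk, zpow_add, zpow_mul, zpow_two, htt, one_zpow, one_mul, zpow_one]
      exact hkt ▸ _root_.Subgroup.mem_zpowers r
  refine ⟨n, ?_, ⟨(MulEquiv.ofBijective F ⟨hinj, hsurj⟩).symm⟩⟩
  -- primality from maximality
  obtain ⟨p, hp, hpn⟩ := Nat.exists_prime_and_dvd hn1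
  by_contra hnp
  have hlt : p < n := lt_of_le_of_ne (Nat.le_of_dvd hnpos hpn) fun e => hnp (e ▸ hp)
  set S : Set G := {g | ∃ k : ℤ, g = r ^ ((p : ℤ) * k) ∨ g = t * r ^ ((p : ℤ) * k)} with hS
  let M : _root_.Subgroup G :=
    { carrier := S
      one_mem' := ⟨0, Or.inl (by simp)⟩
      mul_mem' := by
        rintro x y ⟨i, rfl | rfl⟩ ⟨j, rfl | rfl⟩
        · exact ⟨i + j, Or.inl (by rw [mul_add, zpow_add])⟩
        · refine ⟨-i + j, Or.inr ?_⟩
          rw [mul_add, zpow_add, mul_neg, ← htk]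
          simp [← mul_assoc, htt]
        · exact ⟨i + j, Or.inr (by rw [mul_add, zpow_add, mul_assoc])⟩
        · refine ⟨-i + j, Or.inl ?_⟩
          rw [mul_add, zpow_add, mul_neg, ← htk]
          simp [← mul_assoc]
      inv_mem' := by
        rintro x ⟨i, rfl | rfl⟩
        · exact ⟨-i, Or.inl (by rw [mul_neg, zpow_neg])⟩
        · refine ⟨i, Or.inr ?_⟩
          rw [mul_inv_rev, hti, ← zpow_neg, ← htk]
          simp [mul_assoc, htt] }
  have hMt : t ∈ M := ⟨0, Or.inr (by simp)⟩
  have hMr : r ^ (p : ℤ) ∈ M := ⟨1, Or.inl (by simp)⟩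
  have hMtop : M = ⊤ := by
    refine hmax.2 _ (lt_of_le_of_ne (by simpa using hMt) fun e => ?_)
    rw [← e] at hMr
    obtain ⟨k, hk⟩ := hMr
    simp only at hk
    rcases Int.even_or_odd k with ⟨l, rfl⟩ | ⟨l, rfl⟩
    · rw [← two_mul, zpow_mul, zpow_two, htt, one_zpow, zpow_natCast] at hk
      exact absurd (Nat.le_of_dvd hp.pos (orderOf_dvd_of_pow_eq_one hk.symm)) (by omega)
    · rw [zpow_add, zpow_mul, zpow_two, htt, one_zpow, one_mul, zpow_one] at hk
      exact htR ⟨_, hk.symm⟩
  have hrM : r ∈ M := hMtop ▸ trivial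
  obtain ⟨k, hk | hk⟩ := hrM
  · have h1 : ((orderOf r : ℕ) : ℤ) ∣ (p : ℤ) * k - 1 := by
      rw [orderOf_dvd_iff_zpow_eq_one, zpow_sub, ← hk]
      simp
    have h2 : (p : ℤ) ∣ (p : ℤ) * k - 1 := (Int.natCast_dvd_natCast.mpr hpn).trans h1
    have h3 : (p : ℤ) ∣ 1 := by
      have := dvd_sub (dvd_mul_right (p : ℤ) k) h2
      simpa using this
    exact hp.ne_one (Nat.dvd_one.mp (by exact_mod_cast h3))
  · apply htR
    rw [show t = r * (r ^ ((p : ℤ) * k))⁻¹ by rw [eq_mul_inv_iff_mul_eq]; exact hk.symm]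
    exact _root_.Subgroup.mul_mem _ (_root_.Subgroup.mem_zpowers r)
      (_root_.Subgroup.inv_mem _ ⟨_, rfl⟩)

end Cfsg.Agent.Recog71
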