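import Cfsg.Agent.SporB.Fi22.U6.Class
import Cfsg.Agent.Recog71.Fi22Out.Checks
import Cfsg.Agent.Recog71.Fi22Out.Node0
import Cfsg.Agent.Recog71.Fi22Out.Node1
import Cfsg.Agent.Recog71.Fi22Out.Node2
import Cfsg.Agent.Recog71.Fi22Out.Node3
import Cfsg.Agent.Recog71.Fi22Out.Round
import Cfsg.Prelude.Def_KGroupFacts
import Mathlib.GroupTheory.Perm.Cycle.Type

/-!
The outer automorphism group of `Fi22` has order 2.
-/

set_option autoImplicit false
set_option maxRecDepth 100000
set_option linter.style.haveILetI false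

namespace Cfsg.Agent.Recog71.Fi22Out

open Cfsg.Agent.CosetEnum
open Cfsg.Agent.Recog71.FischerOut

local notation "G" => Fi22.pres.Gp
local notation "T" => Fi22.Rep.tbl
local notation "v" => Fi22.pres.val
local notation "z" => Fi22.U6.aG
local notation "R" => Fi22.rep
local notation "hnd" => Fi22.nodup

theorem tbl_n : Fi22.Rep.tbl.n = 3510 := rfl

theorem tbl_nl : Fi22.Rep.tbl.nl = 9 := rfl

theorem all9 {W : List ℕ} (h : W.all (fun l => Nat.blt l 9) = true) : ∀ l ∈ W, l < Fi22.Rep.tbl.nl :=
  fun l hl => tbl_nl.symm ▸ Nat.le_of_ble_eq_true (List.all_eq_true.mp h l hl)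

theorem braid {H : Type} [Group H] {a b : H} (ha : a * a = 1) (hb : b * b = 1)
    (h : a * (b * (a * (b * (a * (b * 1))))) = 1) : (b * a)⁻¹ * a * (b * a) = b := by
  have hai : a⁻¹ = a := inv_eq_of_mul_eq_one_right ha
  have hbi : b⁻¹ = b := inv_eq_of_mul_eq_one_right hb
  rw [mul_inv_rev, hai, hbi]
  have e : a * b * a * b * a * b = 1 := by simpa [mul_assoc] using h
  have e' : a * b * a * b * a = b := by
    exact (eq_inv_of_mul_eq_one_left e).trans hbi
  simpa [mul_assoc] using e'

theorem dp_step {i j : ℕ} (hi : i < 9) (hj : j < 9)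
    (hrel : [i, j, i, j, i, j] ∈ Fi22.pres.relWords)
    (hrun : Fi22.Rep.tbl.run [j, i] (pi.getD i 0) = pi.getD j 0)
    (h : DP R hnd z (v i) (pi.getD i 0)) :
    DP R hnd z (v j) (pi.getD j 0) := by
  have hl : ∀ l ∈ [j, i], l < Fi22.Rep.tbl.nl := by
    intro l hl
    rw [tbl_nl]
    simp only [List.mem_cons, List.not_mem_nil, or_false] at hl
    rcases hl with rfl | rfl <;> assumption
  have h' := h.run hl
  rw [hrun] at h'
  have hb := Fi22.pres.rel_val _ hrel
  simp only [evalWord] at hb
  have e := braid (val_sq i) (val_sq j) hb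
  rw [show evalWord Fi22.pres.val [j, i] = v j * v i by simp [evalWord]] at h'
  rw [e] at h'
  exact h'

theorem dp_gens : ∀ l < Fi22.Rep.tbl.nl, DP R hnd z (v l) (pi.getD l 0) := by
  have h0 : DP R hnd z (v 0) (pi.getD 0 0) := ⟨1, by simp [Fi22.U6.aG], by rw [map_one]; rfl⟩
  have h1 := dp_step (i := 0) (j := 1) (by omega) (by omega) (by decide +kernel) (by decide +kernel) h0
  have h2 := dp_step (i := 1) (j := 2) (by omega) (by omega) (by decide +kernel) (by decide +kernel) h1
  have h3 := dp_step (i := 2) (j := 3) (by omega) (by omega) (by decide +kernel) (by decide +kernel) h2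
  have h4 := dp_step (i := 3) (j := 4) (by omega) (by omega) (by decide +kernel) (by decide +kernel) h3
  have h5 := dp_step (i := 4) (j := 5) (by omega) (by omega) (by decide +kernel) (by decide +kernel) h4
  have h6 := dp_step (i := 5) (j := 6) (by omega) (by omega) (by decide +kernel) (by decide +kernel) h5
  have h7 := dp_step (i := 3) (j := 7) (by omega) (by omega) (by decide +kernel) (by decide +kernel) h3
  have h8 := dp_step (i := 7) (j := 8) (by omega) (by omega) (by decide +kernel) (by decide +kernel) h7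
  intro l hl
  rw [tbl_nl] at hl
  interval_cases l <;> assumption

theorem center_bot : Subgroup.center G = ⊥ := by
  haveI := Fi22.simple
  rcases (inferInstance : (Subgroup.center G).Normal).eq_bot_or_eq_top with h | h
  · exact h
  exfalso
  letI : CommGroup G :=
    { (inferInstance : Group G) with
      mul_comm := fun a b => Subgroup.mem_center_iff.mp (h ▸ Subgroup.mem_top b) a }
  have hp := IsSimpleGroup.prime_card (α := G)
  rw [Fi22.card_eq.1] at hp
  exact absurd hp (by norm_num)

theorem setup : Setup R hnd z pi where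
  cent := Fi22.U6.centralizer_aG
  descend := Fi22.Rep.descend
  sq := Fi22.U6.aG_sq
  gens := dp_gens
  center := center_bot
  finite := Fi22.finite

theorem dp_z : DP R hnd z z 0 := ⟨1, by simp, by rw [map_one]; rfl⟩

theorem rounds_ok : RoundsOK Fi22.Rep.tbl pi ((0, []) :: cycT) rounds :=
  ⟨roundOK0, round0, roundOK1, round1, roundOK2, round2, roundOK3, round3, roundOK4, round4,
    roundOK5, round5, roundOK6, round6, roundOK7, round7, trivial⟩

/-- The element of order 11. -/
noncomputable def x11 : G := evalWord v xWord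

theorem x11_pow (i : ℕ) : evalWord v (repWord xWord i) = x11 ^ i := evalWord_repWord _ _ _

theorem repX_lt (i : ℕ) : ∀ l ∈ repWord xWord i, l < Fi22.Rep.tbl.nl := by
  intro l hl
  induction i with
  | zero => exact absurd hl List.not_mem_nil
  | succ i ih =>
    rw [repWord] at hl
    exact (List.mem_append.mp hl).elim (all9 xWord_lt l) ih

theorem x11_order : x11 ^ 11 = 1 := by
  rw [← x11_pow]
  refine eq_one_of_fix setup (repX_lt 11) fun l hl => ?_
  exact Nat.eq_of_beq_eq_true (List.all_eq_true.mp x_pow l (List.mem_range.mpr hl))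

theorem x11_ne_one : x11 ≠ 1 := by
  intro h
  have := (Fi22.rep).hom_inv_apply hnd (all9 xWord_lt) ⟨1, by rw [tbl_n]; omega⟩
  rw [show evalWord v xWord = x11 from rfl, h, map_one, inv_one] at this
  exact Nat.ne_of_beq_eq_false x_move this.symm

theorem commute_z_x : Commute z x11 := (dp_z.fix_iff setup (all9 xWord_lt)).mp x_base

/-- The centraliser of the element of order 11. -/
theorem cent_x11 {y : G} (hy : Commute y x11) : ∃ i : ℕ, y = x11 ^ i ∨ y = z * x11 ^ i := by
  obtain ⟨U, hU, rfl⟩ := exists_word setup y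
  -- the first transposition stays
  have hzy : Commute z (evalWord v U) := by
    have hd := dp_z.run hU
    have hc : Commute ((evalWord v U)⁻¹ * z * evalWord v U) x11 :=
      (hy.inv_left.mul_left commute_z_x).mul_left hy
    have hq := (hd.fix_iff setup (all9 xWord_lt)).mpr hc
    have h := allRange_spec x_fix _ (Nat.zero_le _) (show _ < 0 + 3510 by simpa [tbl_n] using hd.lt)
    rw [hq] at h
    simp only [Nat.beq_refl, Bool.not_true, Bool.false_or, Nat.beq_eq] at h
    rw [h] at hd
    have he := hd.elem_unique setup dp_z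
    calc z * evalWord v U = evalWord v U * ((evalWord v U)⁻¹ * z * evalWord v U) := by group
      _ = evalWord v U * z := by rw [he]
  set y := evalWord v U
  -- the cycle goes to itself
  set d := evalWord v (dw cyc0) with hd0
  have hdd : DP R hnd z d (pw T pi cyc0) := DP.word setup cyc0_ok
  have he := hdd.run hU
  set q := Fi22.Rep.tbl.run U (pw T pi cyc0) with hq
  set e := y⁻¹ * d * y with he0
  have h0 : ∀ l ∈ [0], l < Fi22.Rep.tbl.nl := by simp [tbl_nl]
  have hz0 : evalWord v [0] = z := evalWord_singleton 0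
  have hdz : Commute d z := hz0 ▸ (hdd.fix_iff setup h0).mp (Nat.eq_of_beq_eq_true cyc0_fix)
  have hez : Commute e z := ((hzy.symm.inv_left).mul_left hdz).mul_left hzy.symm
  have hqfix := (he.fix_iff setup h0).mpr (hz0.symm ▸ hez)
  have hlist := allRange_spec fix_listed q (Nat.zero_le _) (show q < 0 + 3510 by simpa [tbl_n] using he.lt)
  rw [hqfix] at hlist
  simp only [Nat.beq_refl, Bool.not_true, Bool.false_or, List.any_eq_true, Nat.beq_eq] at hlist
  obtain ⟨⟨q', t⟩, hmem, hqq⟩ := hlist
  have hqq' : q' = q := hqq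
  subst hqq'
  have hent := List.all_eq_true.mp sig_ok _ hmem
  simp only [sigEntry, Bool.and_eq_true, Bool.or_eq_true, Bool.not_eq_true', Nat.beq_eq,
    List.any_eq_true, List.mem_range] at hent
  obtain ⟨⟨htok, htpw⟩, hcase⟩ := hent
  have hte : evalWord v (dw t) = e := (DP.word setup htok).elem_unique setup (htpw.symm ▸ he)
  have hpat : ((List.range 11).all fun i =>
      Nat.beq (Fi22.Rep.tbl.run (dw t) (along i q)) (along i q) ==
        Nat.beq (Fi22.Rep.tbl.run (dw cyc0) (along i (pw T pi cyc0))) (along i (pw T pi cyc0))) = true := by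
    rw [List.all_eq_true]
    intro i _
    rw [beq_iff_eq, Bool.eq_iff_iff]
    simp only [Nat.beq_eq]
    unfold along
    rw [(he.run (repX_lt i)).fix_iff setup (okT_iff htok).2.2,
      (hdd.run (repX_lt i)).fix_iff setup (okT_iff cyc0_ok).2.2, x11_pow, hte, ← hd0]
    have hyi : Commute y (x11 ^ i) := hy.pow_right i
    have e1 : (x11 ^ i)⁻¹ * e * x11 ^ i = y⁻¹ * ((x11 ^ i)⁻¹ * d * x11 ^ i) * y := by
      rw [he0]
      calc (x11 ^ i)⁻¹ * (y⁻¹ * d * y) * x11 ^ i
          = (y * x11 ^ i)⁻¹ * d * (y * x11 ^ i) := by group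
        _ = (x11 ^ i * y)⁻¹ * d * (x11 ^ i * y) := by rw [hyi.eq]
        _ = _ := by group
    rw [e1, he0]
    constructor
    · intro hc
      exact (Commute.conj_iff y⁻¹).mp (by simpa using hc)
    · intro hc
      simpa using (Commute.conj_iff y⁻¹).mpr hc
  rw [hpat] at hcase
  obtain ⟨i, hi, hqi⟩ := hcase.resolve_left (by simp)
  unfold along at hqi
  have hei : e = (x11 ^ i)⁻¹ * d * x11 ^ i := by
    have h := hdd.run (repX_lt i)
    rw [hqi, x11_pow] at h
    exact he.elem_unique setup h
  set w := y * (x11 ^ i)⁻¹ with hw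
  have hwx : Commute x11 w := hy.symm.mul_right ((Commute.refl x11).pow_right i).inv_right
  have hwz : Commute z w := hzy.mul_right (commute_z_x.pow_right i).inv_right
  have hwd : Commute d w := by
    show d * w = w * d
    calc d * w = d * y * (x11 ^ i)⁻¹ := by rw [hw, mul_assoc]
      _ = y * e * (x11 ^ i)⁻¹ := by rw [he0]; group
      _ = y * ((x11 ^ i)⁻¹ * d * x11 ^ i) * (x11 ^ i)⁻¹ := by rw [hei]
      _ = w * d := by rw [hw]; group
  have hF : ∀ t ∈ (0, []) :: cycT, Commute (evalWord v (dw t)) w := by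
    intro t ht
    rcases List.mem_cons.mp ht with rfl | ht
    · rw [show dw (0, []) = [0] from rfl, hz0]; exact hwz
    · obtain ⟨j, hj, rfl⟩ := List.getElem_of_mem ht
      rw [cycT_len] at hj
      have hc := List.all_eq_true.mp cycT_ok j (List.mem_range.mpr hj)
      rw [List.getD_eq_getElem _ _ (cycT_len.symm ▸ hj)] at hc
      simp only [Bool.and_eq_true, Nat.beq_eq] at hc
      obtain ⟨hok, hpw⟩ := hc
      unfold along at hpw
      have h := hdd.run (repX_lt j)
      rw [← hpw, x11_pow] at h
      rw [(DP.word setup hok).elem_unique setup h]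
      exact ((((hwx.pow_left j).inv_left).mul_left hwd).mul_left (hwx.pow_left j))
  obtain ⟨W, hWm, -, hwW⟩ := mem_combos setup rounds_ok (by
    intro l hl
    rw [tbl_nl] at hl
    interval_cases l <;>
      first
      | exact Or.inl (by decide)
      | exact Or.inr (by decide)) hF
  have hyw : y = w * x11 ^ i := by rw [hw, inv_mul_cancel_right]
  have hW2 : W = [] ∨ W = [0] := by
    have h : ∀ V ∈ combos rounds, V = [] ∨ V = [0] := by decide +kernel
    exact h W hWm
  refine ⟨i, ?_⟩
  rcases hW2 with rfl | rfl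
  · left; rw [hyw, hwW]; exact one_mul _
  · right; rw [hyw, hwW, hz0]

theorem not_121_dvd : ¬ 11 ∣ 5869250150400 := by norm_num

/-- Every automorphism preserves the class. -/
theorem preserved (φ : MulAut G) (d : G) (p : ℕ) (hd : DP R hnd z d p) :
    ∃ q, DP R hnd z (φ d) q := by
  haveI := Fi22.finite
  haveI : Fact (Nat.Prime 11) := ⟨by norm_num⟩
  set C := Subgroup.centralizer ({φ z} : Set G)
  have hC : Nat.card C = 18393661440 := by
    have e : (Subgroup.centralizer ({z} : Set G)).map φ.toMonoidHom = C := by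
      ext x
      rw [Subgroup.mem_map_equiv, Subgroup.mem_centralizer_singleton_iff,
        Subgroup.mem_centralizer_singleton_iff, ← φ.injective.eq_iff, map_mul, map_mul,
        MulEquiv.apply_symm_apply]
    rw [← e, Subgroup.card_map_of_injective (f := φ.toMonoidHom) φ.injective, setup.cent]
    exact Fi22.stab_card
  obtain ⟨y, hy⟩ : ∃ y : C, orderOf y = 11 :=
    exists_prime_orderOf_dvd_card' 11 (by rw [hC]; norm_num)
  have hy' : orderOf (y : G) = 11 := by rw [Subgroup.orderOf_coe, hy]
  have hx : orderOf x11 = 11 := orderOf_eq_prime x11_order x11_ne_one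
  have mkS : ∀ a : G, orderOf a = 11 → ∃ Q : Sylow 11 G, (Q : Subgroup G) = Subgroup.zpowers a := by
    intro a ha
    have hp : IsPGroup 11 (Subgroup.zpowers a) :=
      IsPGroup.of_card (n := 1) (by rw [Nat.card_zpowers, ha, pow_one])
    have hi : ¬ 11 ∣ (Subgroup.zpowers a).index := by
      have h := Subgroup.card_mul_index (Subgroup.zpowers a)
      rw [Nat.card_zpowers, ha, Fi22.card_eq.1] at h
      rw [show (Subgroup.zpowers a).index = 5869250150400 by omega]
      exact not_121_dvd
    exact ⟨hp.toSylow hi, rfl⟩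
  obtain ⟨P, hP⟩ := mkS _ hy'
  obtain ⟨Q, hQ⟩ := mkS _ hx
  obtain ⟨g, hg⟩ := MulAction.exists_smul_eq G P Q
  have hxg : x11 ∈ (Q : Subgroup G) := hQ ▸ Subgroup.mem_zpowers x11
  rw [← hg, Sylow.coe_subgroup_smul, hP, Subgroup.mem_pointwise_smul_iff_inv_smul_mem,
    Subgroup.mem_zpowers_iff] at hxg
  obtain ⟨k, hk⟩ := hxg
  rw [show (MulAut.conj g)⁻¹ • x11 = g⁻¹ * x11 * g by simp [MulAut.smul_def]] at hk
  set t := g * φ z * g⁻¹ with ht
  have hyz : Commute (y : G) (φ z) := Subgroup.mem_centralizer_singleton_iff.mp y.2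
  have htx : Commute t x11 := by
    have e : x11 = g * (y : G) ^ k * g⁻¹ := by rw [hk]; group
    rw [ht, e]
    exact (Commute.conj_iff g).mpr (hyz.symm.zpow_right k)
  have hne : t ≠ 1 := by
    intro h
    have h1 : φ z = 1 := by
      calc φ z = g⁻¹ * t * g := by rw [ht]; group
        _ = 1 := by rw [h]; group
    exact Fi22.U6.letter_a_ne_one (φ.injective (h1.trans (map_one φ).symm))
  have ht2 : t * t = 1 := by
    calc t * t = g * φ (z * z) * g⁻¹ := by rw [ht, map_mul]; group
      _ = 1 := by rw [setup.sq, map_one]; group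
  obtain ⟨i, hi⟩ := cent_x11 htx
  have hi1 : x11 ^ i = 1 := by
    have h2 : x11 ^ (2 * i) = 1 := by
      rcases hi with h | h
      · rw [two_mul, pow_add, ← h, ht2]
      · have hc : Commute z (x11 ^ i) := commute_z_x.pow_right i
        have : x11 ^ i * x11 ^ i = t * t := by
          rw [h]
          calc x11 ^ i * x11 ^ i = z * z * (x11 ^ i * x11 ^ i) := by rw [setup.sq, one_mul]
            _ = z * (z * x11 ^ i) * x11 ^ i := by group
            _ = z * (x11 ^ i * z) * x11 ^ i := by rw [hc.eq]
            _ = _ := by group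
        rw [two_mul, pow_add, this, ht2]
    calc x11 ^ i = x11 ^ i * (x11 ^ 11) ^ i := by rw [x11_order, one_pow, mul_one]
      _ = (x11 ^ (2 * i)) ^ 6 := by rw [← pow_mul, ← pow_mul, ← pow_add]; congr 1; omega
      _ = 1 := by rw [h2, one_pow]
  rw [hi1, mul_one] at hi
  have htz : t = z := hi.resolve_left hne
  obtain ⟨h, rfl, -⟩ := hd
  refine ⟨_, φ h * g⁻¹, ?_, rfl⟩
  rw [map_mul, map_mul, map_inv]
  calc φ h * φ z * (φ h)⁻¹ = φ h * (g⁻¹ * t * g) * (φ h)⁻¹ := by rw [ht]; group
    _ = _ := by rw [htz]; group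

/-! ### The outer automorphism -/

theorem sub_lt' {l : ℕ} (hl : l < 9) : ∀ m ∈ sub l, m < Fi22.Rep.tbl.nl :=
  all9 (List.all_eq_true.mp sub_lt l (List.mem_range.mpr hl))

/-- The images of the generators. -/
noncomputable def img (a : Cfsg.Spor.Fi22.Gen) : G := evalWord v (sub (Fi22.genList.idxOf a))

theorem img_letter {l : ℕ} (hl : l < 9) :
    letterVal Fi22.pres.gens img l = evalWord v (sub l) := by
  interval_cases l <;> rfl

theorem img_word : ∀ W : List ℕ, (∀ l ∈ W, l < 9) →
    evalWord (letterVal Fi22.pres.gens img) W = evalWord v (W.flatMap sub)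
  | [], _ => rfl
  | l :: W, h => by
    rw [List.flatMap_cons, evalWord_append, ← img_word W fun m hm => h m (List.mem_cons_of_mem _ hm),
      ← img_letter (h l List.mem_cons_self)]
    rfl

theorem img_kills : ∀ W ∈ Fi22.pres.relWords, evalWord (letterVal Fi22.pres.gens img) W = 1 := by
  intro W hW
  have h := List.all_eq_true.mp sub_rels W hW
  simp only [Bool.and_eq_true, List.all_eq_true, List.mem_range, Nat.beq_eq] at h
  have hl : ∀ l ∈ W, l < 9 := fun l hl => Nat.le_of_ble_eq_true (h.1 l hl)
  rw [img_word W hl]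
  refine eq_one_of_fix setup (fun m hm => ?_) fun l hl' => h.2 l hl'
  obtain ⟨l, hlW, hm⟩ := List.mem_flatMap.mp hm
  exact sub_lt' (hl l hlW) m hm

/-- The endomorphism underlying the outer automorphism. -/
noncomputable def sigmaHom : G →* G := PresentedGroup.toGroup (Fi22.pres.kills img img_kills)

theorem sigmaHom_val {l : ℕ} (hl : l < 9) : sigmaHom (v l) = evalWord v (sub l) := by
  have hlen : l < Fi22.pres.gens.length := hl
  rw [← img_letter hl, InvPres.val, letterVal_of_lt _ _ hlen, letterVal_of_lt _ _ hlen]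
  exact PresentedGroup.toGroup.of _

theorem sigmaHom_bijective : Function.Bijective sigmaHom := by
  haveI := Fi22.finite
  haveI := Fi22.simple
  have hinj : Function.Injective sigmaHom := by
    rw [← MonoidHom.ker_eq_bot_iff]
    refine (inferInstance : sigmaHom.ker.Normal).eq_bot_or_eq_top.resolve_right fun h => ?_
    have hm : v 0 ∈ sigmaHom.ker := h ▸ Subgroup.mem_top _
    rw [MonoidHom.mem_ker, sigmaHom_val (by omega)] at hm
    exact Fi22.U6.letter_a_ne_one ((evalWord_singleton (P := Fi22.pres) 0).symm.trans hm)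
  exact ⟨hinj, Finite.surjective_of_injective hinj⟩

/-- The outer automorphism. -/
noncomputable def sigma : MulAut G := MulEquiv.ofBijective sigmaHom sigmaHom_bijective

theorem sigma_val {l : ℕ} (hl : l < 9) : sigma (v l) = evalWord v (sub l) := sigmaHom_val hl

theorem sigma_inv_val {l : ℕ} (hl : l < 9) :
    (evalWord v (sub l))⁻¹ = evalWord v (sub l) := by
  rw [← sigma_val hl, ← map_inv, FischerOut.val_inv]

/-- The point map as a function on the points. -/
noncomputable def sFun (i : Fin Fi22.Rep.tbl.n) : Fin Fi22.Rep.tbl.n :=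
  ⟨sPt i, by
    have h := allRange_spec s_ok i (Nat.zero_le _) (show (i : ℕ) < 0 + 3510 by simpa [tbl_n] using i.2)
    simp only [sPoint, Bool.and_eq_true] at h
    exact lt_of_lt_of_eq (Nat.le_of_ble_eq_true h.1.1) tbl_n.symm⟩

theorem sFun_sFun (i : Fin Fi22.Rep.tbl.n) : sFun (sFun i) = i := by
  have h := allRange_spec s_ok i (Nat.zero_le _) (show (i : ℕ) < 0 + 3510 by simpa [tbl_n] using i.2)
  simp only [sPoint, Bool.and_eq_true, Nat.beq_eq] at h
  exact Fin.ext h.1.2

theorem sFun_base : sFun (Fi22.rep).base = (Fi22.rep).base := Fin.ext s_base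

theorem equivariant (h : G) : ∀ i, sFun ((Fi22.rep).hom hnd h i) =
    (Fi22.rep).hom hnd (sigma h) (sFun i) := by
  have hh : h ∈ Subgroup.closure (Fi22.pres.val '' Set.Iio Fi22.pres.gens.length) :=
    Fi22.pres.closure_val.symm ▸ Subgroup.mem_top h
  induction hh using Subgroup.closure_induction with
  | mem x hx =>
    obtain ⟨l, hl, rfl⟩ := hx
    have hl' : l < 9 := hl
    intro i
    have h := allRange_spec s_ok i (Nat.zero_le _) (show (i : ℕ) < 0 + 3510 by simpa [tbl_n] using i.2)
    simp only [sPoint, Bool.and_eq_true, Nat.beq_eq, List.all_eq_true, List.mem_range] at h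
    apply Fin.ext
    show sPt _ = _
    rw [(Fi22.rep).gen_apply hnd (tbl_nl.symm ▸ hl' : l < Fi22.Rep.tbl.nl), h.2 l hl', sigma_val hl',
      ← sigma_inv_val hl', map_inv, (Fi22.rep).hom_inv_apply hnd (sub_lt' hl')]
    rfl
  | one => intro i; simp
  | mul a b _ _ ha hb =>
    intro i
    simp only [map_mul, Equiv.Perm.mul_apply]
    rw [ha, hb]
  | inv a _ ha =>
    intro i
    have h1 := ha (((Fi22.rep).hom hnd a)⁻¹ i)
    rw [show (Fi22.rep).hom hnd a (((Fi22.rep).hom hnd a)⁻¹ i) = i from
      Equiv.apply_symm_apply _ i] at h1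
    rw [map_inv, map_inv, map_inv, h1]
    exact (Equiv.symm_apply_apply _ _).symm

theorem hom_sign (g : G) : Equiv.Perm.sign ((Fi22.rep).hom hnd g) = 1 := by
  haveI := Fi22.simple
  haveI := Fi22.finite
  have h := (inferInstance : ((Equiv.Perm.sign).comp ((Fi22.rep).hom hnd)).ker.Normal).eq_bot_or_eq_top
  rcases h with h | h
  · exfalso
    have hinj := (MonoidHom.ker_eq_bot_iff _).mp h
    have := Nat.card_le_card_of_injective _ hinj
    rw [Fi22.card_eq.1, Nat.card_eq_fintype_card, Fintype.card_units_int] at this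
    omega
  · exact MonoidHom.mem_ker.mp (h ▸ Subgroup.mem_top g : g ∈ _)

theorem sigma_outer (g : G) : MulAut.conj g ≠ sigma := by
  intro hg
  set f := (Fi22.rep).hom hnd g with hf
  have hbase : f (Fi22.rep).base = (Fi22.rep).base := by
    have hs : g ∈ Fi22.rep.stab hnd := by
      rw [← setup.cent, Subgroup.mem_centralizer_singleton_iff]
      have h := DFunLike.congr_fun hg (v 0)
      rw [sigma_val (by omega : 0 < 9), MulAut.conj_apply,
        show evalWord v (sub 0) = z from evalWord_singleton (P := Fi22.pres) 0] at h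
      calc g * z = g * z * g⁻¹ * g := by group
        _ = z * g := congrArg (· * g) h
    exact hs
  have hfs : ∀ i, f i = sFun i := by
    intro i
    obtain ⟨h, rfl⟩ := (Fi22.rep).transitive hnd Fi22.Rep.descend i
    rw [equivariant, sFun_base, ← hg, MulAut.conj_apply, map_mul, map_mul, map_inv]
    simp only [Equiv.Perm.mul_apply, ← hf]
    congr 2
    rw [Equiv.Perm.eq_inv_iff_eq]
    exact hbase
  have hff : f * f = 1 := Equiv.ext fun i => by
    rw [Equiv.Perm.mul_apply, hfs, hfs, sFun_sFun]
    rfl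
  have hsupp : f.support.card = 3150 := by
    rw [← s_moved, ← ncard_fin_filter, ← Set.ncard_coe_finset]
    congr 1
    ext i
    rw [Finset.mem_coe, Equiv.Perm.mem_support, hfs]
    show sFun i ≠ i ↔ (!(Nat.beq (sPt i) i)) = true
    simp [sFun, Fin.ext_iff, Bool.eq_false_iff]
  have htwo : ∀ c ∈ f.cycleType, c = 2 := by
    intro c hc
    have h1 := Equiv.Perm.two_le_of_mem_cycleType hc
    have h2 : c ∣ 2 := (Equiv.Perm.dvd_of_mem_cycleType hc).trans
      (orderOf_dvd_of_pow_eq_one (by rw [pow_two, hff]))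
    have := Nat.le_of_dvd two_pos h2
    omega
  have hsum := Equiv.Perm.sum_cycleType f
  rw [Multiset.eq_replicate_card.mpr htwo, Multiset.sum_replicate, smul_eq_mul, hsupp] at hsum
  have hs := hom_sign g
  rw [← hf, Equiv.Perm.sign_of_cycleType, Equiv.Perm.sum_cycleType, hsupp,
    show Multiset.card f.cycleType = 1575 by omega] at hs
  norm_num at hs

/-- An automorphism keeping the final assignment with the moved generator. -/
theorem eq_sigma (ψ : MulAut G) {prev : List (ℕ × (ℕ × List ℕ))} (hψ : Keeps ψ prev)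
    (hall : (List.range 9).all (fun l => prev.any fun e => Nat.beq e.1 l && (dw e.2 == sub l)) = true) :
    ψ = sigma := by
  have key : ∀ l < 9, ψ (v l) = sigma (v l) := by
    intro l hl
    have h := List.all_eq_true.mp hall l (List.mem_range.mpr hl)
    simp only [List.any_eq_true, Bool.and_eq_true, Nat.beq_eq, beq_iff_eq] at h
    obtain ⟨e, he, rfl, he2⟩ := h
    rw [hψ e he, sigma_val hl, he2]
  refine MulEquiv.ext fun g => ?_
  have hg : g ∈ Subgroup.closure (Fi22.pres.val '' Set.Iio Fi22.pres.gens.length) :=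
    Fi22.pres.closure_val.symm ▸ Subgroup.mem_top g
  induction hg using Subgroup.closure_induction with
  | mem x hx =>
    obtain ⟨l, hl, rfl⟩ := hx
    exact key l hl
  | one => simp
  | mul a b _ _ ha hb => rw [map_mul, map_mul, ha, hb]
  | inv a _ ha => rw [map_inv, map_inv, ha]

theorem exists_conj (φ : MulAut G) : ∃ g, MulAut.conj g * φ = 1 ∨ MulAut.conj g * φ = sigma := by
  obtain ⟨h0, t0, ht0, k0⟩ := step setup preserved nodeOK0 node0 φ (fun e he => absurd he List.not_mem_nil)
  obtain rfl := List.mem_singleton.mp ht0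
  obtain ⟨h1, t1, ht1, k1⟩ := step setup preserved nodeOK1 node1 _ k0
  obtain rfl := List.mem_singleton.mp ht1
  obtain ⟨h2, t2, ht2, k2⟩ := step setup preserved nodeOK2 node2 _ k1
  obtain rfl := List.mem_singleton.mp ht2
  obtain ⟨h3, t3, ht3, k3⟩ := step setup preserved nodeOK3 node3 _ k2
  obtain rfl := List.mem_singleton.mp ht3
  obtain ⟨h4, t4, ht4, k4⟩ := step setup preserved nodeOK4 node4 _ k3
  simp only [roots4, List.mem_cons, List.not_mem_nil, or_false] at ht4
  rcases ht4 with rfl | rfl | rfl
  · obtain ⟨h5, t5, ht5, k5⟩ := step setup preserved nodeOK5 node5 _ k4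
    obtain rfl := List.mem_singleton.mp ht5
    obtain ⟨h6, t6, ht6, k6⟩ := step setup preserved nodeOK6 node6 _ k5
    simp only [roots6, List.mem_cons, List.not_mem_nil, or_false] at ht6
    rcases ht6 with rfl | rfl
    · obtain ⟨h7, t7, ht7, k7⟩ := step setup preserved nodeOK7 node7 _ k6
      simp only [roots7, List.mem_cons, List.not_mem_nil, or_false] at ht7
      rcases ht7 with rfl | rfl | rfl
      · obtain ⟨h8, t8, ht8, k8⟩ := step setup preserved nodeOK8 node8 _ k7
        obtain rfl := List.mem_singleton.mp ht8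
        have e := eq_one_of_keeps _ k8 (by decide)
        exact ⟨h8 * h7 * h6 * h5 * h4 * h3 * h2 * h1 * h0,
          Or.inl (by simpa only [map_mul, mul_assoc] using e)⟩
      · obtain ⟨h8, t8, ht8, k8⟩ := step setup preserved nodeOK9 node9 _ k7
        obtain rfl := List.mem_singleton.mp ht8
        have e := eq_sigma _ k8 (by decide +kernel)
        exact ⟨h8 * h7 * h6 * h5 * h4 * h3 * h2 * h1 * h0,
          Or.inr (by simpa only [map_mul, mul_assoc] using e)⟩
      · obtain ⟨h8, t8, ht8, -⟩ := step setup preserved nodeOK10 node10 _ k7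
        exact absurd ht8 List.not_mem_nil
    · obtain ⟨h7, t7, ht7, k7⟩ := step setup preserved nodeOK11 node11 _ k6
      simp only [roots11, List.mem_cons, List.not_mem_nil, or_false] at ht7
      rcases ht7 with rfl | rfl
      · obtain ⟨h8, t8, ht8, -⟩ := step setup preserved nodeOK12 node12 _ k7
        exact absurd ht8 List.not_mem_nil
      · obtain ⟨h8, t8, ht8, -⟩ := step setup preserved nodeOK13 node13 _ k7
        exact absurd ht8 List.not_mem_nil
  · obtain ⟨h5, t5, ht5, k5⟩ := step setup preserved nodeOK14 node14 _ k4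
    obtain rfl := List.mem_singleton.mp ht5
    obtain ⟨h6, t6, ht6, k6⟩ := step setup preserved nodeOK15 node15 _ k5
    obtain rfl := List.mem_singleton.mp ht6
    obtain ⟨h7, t7, ht7, k7⟩ := step setup preserved nodeOK16 node16 _ k6
    obtain rfl := List.mem_singleton.mp ht7
    obtain ⟨h8, t8, ht8, -⟩ := step setup preserved nodeOK17 node17 _ k7
    exact absurd ht8 List.not_mem_nil
  · obtain ⟨h5, t5, ht5, k5⟩ := step setup preserved nodeOK18 node18 _ k4
    obtain rfl := List.mem_singleton.mp ht5
    obtain ⟨h6, t6, ht6, k6⟩ := step setup preserved nodeOK19 node19 _ k5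
    obtain rfl := List.mem_singleton.mp ht6
    obtain ⟨h7, t7, ht7, k7⟩ := step setup preserved nodeOK20 node20 _ k6
    obtain rfl := List.mem_singleton.mp ht7
    obtain ⟨h8, t8, ht8, -⟩ := step setup preserved nodeOK21 node21 _ k7
    exact absurd ht8 List.not_mem_nil

theorem card_out : Nat.card (Cfsg.Out G) = 2 := by
  rw [Nat.card_eq_two_iff]
  refine ⟨1, (sigma : MulAut G), fun h => ?_, Set.eq_univ_of_forall fun q => ?_⟩
  · obtain ⟨g, hg⟩ := (QuotientGroup.eq_one_iff sigma).mp h.symm
    exact sigma_outer g hg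
  · obtain ⟨φ, rfl⟩ := QuotientGroup.mk_surjective q
    obtain ⟨g, h⟩ := exists_conj φ
    have hq : ((MulAut.conj g * φ : MulAut G) : Cfsg.Out G) = (φ : Cfsg.Out G) := by
      rw [QuotientGroup.mk_mul, (QuotientGroup.eq_one_iff (N := Cfsg.Inn G) (MulAut.conj g)).mpr
        ⟨g, rfl⟩, one_mul]
    rcases h with h | h
    · exact Or.inl (by rw [← hq, h]; rfl)
    · exact Or.inr (by rw [← hq, h]; rfl)

end Cfsg.Agent.Recog71.Fi22Out
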