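import Mathlib
import Cfsg.Agent.Recog71.G24Data

set_option autoImplicit false

/-!
The field with four elements, with computable operations.
-/

namespace Cfsg.Agent.Recog71.G24

/-- Read the `i`-th entry of width `w` in a packed table. -/
def pick (t w i : ℕ) : ℕ := (t >>> (i * w)) % 2 ^ w

/-- An entry as an element of `Fin m`. -/
def pickF (m : ℕ) [NeZero m] (t w i : ℕ) : Fin m := Fin.ofNat m (pick t w i)

/-- The field with four elements. -/
structure K4 where
  /-- The coordinates as a numeral. -/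
  val : Fin 4
deriving DecidableEq

namespace K4

instance : Fintype K4 :=
  Fintype.ofEquiv (Fin 4) ⟨K4.mk, K4.val, fun _ => rfl, fun _ => rfl⟩

theorem card_eq : Fintype.card K4 = 4 := by
  rw [Fintype.card_congr (⟨K4.val, K4.mk, fun _ => rfl, fun _ => rfl⟩ : K4 ≃ Fin 4),
    Fintype.card_fin]

instance : Zero K4 := ⟨⟨0⟩⟩
instance : One K4 := ⟨⟨1⟩⟩
instance : Add K4 := ⟨fun a b => ⟨Fin.ofNat 4 (a.val.val ^^^ b.val.val)⟩⟩
instance : Neg K4 := ⟨fun a => a⟩
instance : Mul K4 := ⟨fun a b => ⟨pickF 4 mulTab 2 (a.val.val * 4 + b.val.val)⟩⟩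
instance : Inv K4 := ⟨fun a => ⟨pickF 4 invTab 2 a.val.val⟩⟩

theorem forall_iff {p : K4 → Prop} : (∀ a, p a) ↔ ∀ i : Fin 4, p ⟨i⟩ :=
  ⟨fun h i => h _, fun h a => h a.val⟩

theorem add_assoc' : ∀ a b c : K4, a + b + c = a + (b + c) := by
  simp only [forall_iff]; decide +kernel

theorem mul_assoc' : ∀ a b c : K4, a * b * c = a * (b * c) := by
  simp only [forall_iff]; decide +kernel

theorem left_distrib' : ∀ a b c : K4, a * (b + c) = a * b + a * c := by
  simp only [forall_iff]; decide +kernel

theorem add_comm' : ∀ a b : K4, a + b = b + a := by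
  simp only [forall_iff]; decide +kernel

theorem mul_comm' : ∀ a b : K4, a * b = b * a := by
  simp only [forall_iff]; decide +kernel

theorem units' : ∀ a : K4, 0 + a = a ∧ 1 * a = a ∧ 0 * a = 0 ∧ -a + a = 0 ∧
    (a ≠ 0 → a * a⁻¹ = 1) := by
  simp only [forall_iff]; decide +kernel

instance : Field K4 where
  add_assoc := add_assoc'
  zero_add a := (units' a).1
  add_zero a := (add_comm' a 0).trans (units' a).1
  add_comm := add_comm'
  neg_add_cancel a := (units' a).2.2.2.1
  mul_assoc := mul_assoc'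
  one_mul a := (units' a).2.1
  mul_one a := (mul_comm' a 1).trans (units' a).2.1
  mul_comm := mul_comm'
  zero_mul a := (units' a).2.2.1
  mul_zero a := (mul_comm' a 0).trans (units' a).2.2.1
  left_distrib := left_distrib'
  right_distrib a b c := by
    rw [mul_comm', left_distrib', mul_comm' c a, mul_comm' c b]
  exists_pair_ne := ⟨0, 1, by decide⟩
  mul_inv_cancel a ha := (units' a).2.2.2.2 ha
  inv_zero := by decide
  nsmul := nsmulRec
  zsmul := zsmulRec
  nnqsmul := _
  qsmul := _

theorem add_self : ∀ a : K4, a + a = 0 := by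
  simp only [forall_iff]; decide +kernel

theorem scal_cases : ∀ a : K4, a = 0 ∨ a = 1 ∨ a = ⟨2⟩ ∨ a = 1 + ⟨2⟩ := by
  simp only [forall_iff]; decide +kernel

end K4

end Cfsg.Agent.Recog71.G24
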