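import Cfsg.Agent.Recog71.G24Powers
import Cfsg.Agent.ChevGroup.Mat.Inst
import Cfsg.Agent.ChevGroup.Mat.OrderG2
import Cfsg.Agent.Chev54.Generators
import Cfsg.Agent.Lib.ChevCore.CommAll

set_option autoImplicit false
set_option maxRecDepth 10000

/-!
Generators, order and some element orders of the group of type G2 over four elements.
-/

namespace Cfsg.Agent.Recog71.G24

open Cfsg.Lie Cfsg.Agent.ChevGroup

/-- The relations. -/
noncomputable def rels : Rels chevG2 K4 := relsOfCommGood ChevCore.commGoodG2 K4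

/-- The group. -/
abbrev Γ : Subgroup (GL chevG2.Idx K4) := chevG2.group K4

theorem card_Γ : Nat.card Γ = 251596800 := by
  rw [TypeG2.card_group (torusFacts_of_good ChevCore.commGoodG2.toGood) rels K4.card_eq]
  norm_num

/-- A generator. -/
noncomputable def xgen (g : Fin 8) : Γ :=
  (TypeG2.model.rel rels).x ⟨(gRoot g).val, (gRoot g).isLt⟩ (gScal g)

theorem xgen_mem (g : Fin 8) : xgen g ∈ Subgroup.closure (Set.range xgen) :=
  Subgroup.subset_closure ⟨g, rfl⟩

theorem simple_roots : ∀ i : Fin TypeG2.model.tab.l,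
    ((TypeG2.model.S.simple i).val = 7 ∨ (TypeG2.model.S.simple i).val = 6) ∧
    ((TypeG2.model.S.neg (TypeG2.model.S.simple i)).val = 4 ∨
      (TypeG2.model.S.neg (TypeG2.model.S.simple i)).val = 5) := by
  decide +kernel

theorem gens_top : Subgroup.closure (Set.range xgen) = ⊤ := by
  have key : ∀ (r : Fin TypeG2.model.tab.n) (t : K4),
      (r.val = 7 ∨ r.val = 6 ∨ r.val = 4 ∨ r.val = 5) →
      (TypeG2.model.rel rels).x r t ∈ Subgroup.closure (Set.range xgen) := by
    intro r t hr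
    obtain ⟨⟨g₁, hr₁, ht₁⟩, g₂, hr₂, ht₂⟩ := gen_cover.2 ⟨r.val, r.isLt⟩ hr
    have h1 : (TypeG2.model.rel rels).x r 1 ∈ Subgroup.closure (Set.range xgen) := by
      have := xgen_mem g₁
      rw [xgen, ht₁] at this
      convert this using 3
      exact Fin.ext (congrArg Fin.val hr₁).symm
    have h2 : (TypeG2.model.rel rels).x r ⟨2⟩ ∈ Subgroup.closure (Set.range xgen) := by
      have := xgen_mem g₂
      rw [xgen, ht₂] at this
      convert this using 3
      exact Fin.ext (congrArg Fin.val hr₂).symm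
    rcases K4.scal_cases t with rfl | rfl | rfl | rfl
    · rw [(TypeG2.model.rel rels).x_zero]; exact one_mem _
    · exact h1
    · exact h2
    · rw [(TypeG2.model.rel rels).x_add]; exact mul_mem h1 h2
  refine Chev54.eq_top_of_simple_mem TypeG2.model rels TypeG2.wit_ok _ (fun i t => key _ t ?_)
    (fun i t => key _ t ?_)
  · rcases (simple_roots i).1 with h | h <;> omega
  · rcases (simple_roots i).2 with h | h <;> omega

/-- The matrix of an element in the coordinates of the tables. -/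
def m14 (g : Γ) : Matrix (Fin 14) (Fin 14) K4 :=
  ((g : GL chevG2.Idx K4) : Matrix chevG2.Idx chevG2.Idx K4).submatrix coord coord

theorem m14_mul (g h : Γ) : m14 (g * h) = m14 g * m14 h :=
  Matrix.submatrix_mul ((g : GL chevG2.Idx K4) : Matrix chevG2.Idx chevG2.Idx K4)
    ((h : GL chevG2.Idx K4) : Matrix chevG2.Idx chevG2.Idx K4) coord coord coord coord_bijective

theorem m14_one : m14 1 = 1 := Matrix.submatrix_one _ coord_bijective.1

theorem m14_inj {g h : Γ} (e : m14 g = m14 h) : g = h := by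
  refine Subtype.ext (Units.ext (Matrix.ext fun a b => ?_))
  obtain ⟨i, rfl⟩ := coord_bijective.2 a
  obtain ⟨j, rfl⟩ := coord_bijective.2 b
  exact congrFun (congrFun e i) j

theorem m14_xgen_apply (g : Fin 8) (i k : Fin 14) :
    m14 (xgen g) i k = ∑ q : Fin 4, if xcol g i q = k then xco g i q else 0 := by
  refine (Eq.trans ?_ (sum4_eq _))
  rw [← xmat_valid g i k]
  show chevG2.x K4 (gRoot g).val (gScal g) (coord i) (coord k) = _
  rw [ChevalleyDatum.x, dif_pos (gRoot g).isLt]

theorem m14_xgen_mul (g : Fin 8) (Z : Matrix (Fin 14) (Fin 14) K4) :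
    m14 (xgen g) * Z = Matrix.of (gmul g Z) := by
  ext i j
  simp only [Matrix.mul_apply, m14_xgen_apply, Finset.sum_mul, Matrix.of_apply, gmul, sum4_eq]
  rw [Finset.sum_comm]
  refine Finset.sum_congr rfl fun q _ => ?_
  simp only [ite_mul, zero_mul, Finset.sum_ite_eq, Finset.mem_univ, if_true]
  split_ifs with h
  · rw [h, zero_mul]
  · rfl

theorem m14_xgen_mul_of (g : Fin 8) (Z : Fin 14 → Fin 14 → K4) :
    m14 (xgen g) * Matrix.of Z = Matrix.of (gmul g Z) := m14_xgen_mul g (Matrix.of Z)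

theorem of_idv : Matrix.of idv = (1 : Matrix (Fin 14) (Fin 14) K4) := by
  ext i j
  rw [Matrix.of_apply, Matrix.one_apply, idv]

/-- An element of order seven. -/
noncomputable def s7 : Γ := xgen 0 * xgen 6 * xgen 2 * xgen 4

/-- An element of order thirteen. -/
noncomputable def s13 : Γ := xgen 4 * xgen 3 * xgen 1 * xgen 7

/-- An element of order six. -/
noncomputable def s6 : Γ := xgen 6 * xgen 2 * xgen 0

/-- An element of order ten. -/
noncomputable def s10 : Γ := xgen 4 * xgen 1 * xgen 2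

theorem m14_pow {s : Γ} (n off : ℕ) (h0 : ∀ i j, pw off i j = idv i j)
    (hs : ∀ e < n, m14 s * Matrix.of (pw (off + e)) = Matrix.of (pw (off + (e + 1)))) :
    ∀ e ≤ n, m14 (s ^ e) = Matrix.of (pw (off + e)) := by
  intro e he
  induction e with
  | zero => rw [pow_zero, m14_one, add_zero, ← of_idv]; exact Matrix.ext fun i j => (h0 i j).symm
  | succ e ih => rw [pow_succ', m14_mul, ih (by omega), hs e (by omega)]

theorem m14_s7 : ∀ e ≤ 7, m14 (s7 ^ e) = Matrix.of (pw (0 + e)) := by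
  refine m14_pow 7 0 (fun i j => (pw_base i j).1) fun e he => ?_
  simp only [s7, m14_mul, zero_add]
  simp only [Matrix.mul_assoc]
  simp only [m14_xgen_mul_of]
  exact Matrix.ext fun i j => pw_step7 ⟨e, he⟩ i j

theorem m14_s13 : ∀ e ≤ 13, m14 (s13 ^ e) = Matrix.of (pw (8 + e)) := by
  refine m14_pow 13 8 (fun i j => (pw_base i j).2.2.1) fun e he => ?_
  simp only [s13, m14_mul]
  simp only [Matrix.mul_assoc]
  simp only [m14_xgen_mul_of]
  exact Matrix.ext fun i j => pw_step13 ⟨e, he⟩ i j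

theorem m14_s6 : ∀ e ≤ 6, m14 (s6 ^ e) = Matrix.of (pw (22 + e)) := by
  refine m14_pow 6 22 (fun i j => (pw_base i j).2.2.2.2.1) fun e he => ?_
  simp only [s6, m14_mul]
  simp only [Matrix.mul_assoc]
  simp only [m14_xgen_mul_of]
  exact Matrix.ext fun i j => pw_step6 ⟨e, he⟩ i j

theorem m14_s10 : ∀ e ≤ 10, m14 (s10 ^ e) = Matrix.of (pw (29 + e)) := by
  refine m14_pow 10 29 (fun i j => (pw_base i j).2.2.2.2.2.2.1) fun e he => ?_
  simp only [s10, m14_mul]
  simp only [Matrix.mul_assoc]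
  simp only [m14_xgen_mul_of]
  exact Matrix.ext fun i j => pw_step10 ⟨e, he⟩ i j

theorem eq_one_of_pw {s : Γ} {e : ℕ} (hm : m14 s = Matrix.of (pw e))
    (h : ∀ i j, pw e i j = idv i j) : s = 1 :=
  m14_inj (by rw [hm, m14_one, ← of_idv]; exact Matrix.ext h)

theorem ne_one_of_pw {s : Γ} {e : ℕ} (hm : m14 s = Matrix.of (pw e))
    (he : e ∈ [1, 9, 24, 25, 31, 34]) : s ≠ 1 := by
  obtain ⟨i, j, h⟩ := pw_ne e he
  rintro rfl
  rw [m14_one, ← of_idv] at hm
  exact h (congrFun (congrFun hm i) j).symm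

theorem orderOf_s7 : orderOf s7 = 7 := by
  haveI : Fact (Nat.Prime 7) := ⟨by norm_num⟩
  refine orderOf_eq_prime (eq_one_of_pw (m14_s7 7 le_rfl) fun i j => (pw_base i j).2.1) ?_
  exact ne_one_of_pw (by simpa using m14_s7 1 (by norm_num)) (by simp)

theorem orderOf_s13 : orderOf s13 = 13 := by
  haveI : Fact (Nat.Prime 13) := ⟨by norm_num⟩
  refine orderOf_eq_prime (eq_one_of_pw (m14_s13 13 le_rfl) fun i j => (pw_base i j).2.2.2.1) ?_
  exact ne_one_of_pw (e := 9) (by simpa using m14_s13 1 (by norm_num)) (by simp)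

theorem orderOf_of_two_primes {s : Γ} {p q : ℕ} (hp : p.Prime) (hq : q.Prime) (h : s ^ (p * q) = 1)
    (h1 : s ^ p ≠ 1) (h2 : s ^ q ≠ 1) : orderOf s = p * q := by
  refine orderOf_eq_of_pow_and_pow_div_prime (Nat.mul_pos hp.pos hq.pos) h fun r hr hd => ?_
  rcases hr.dvd_mul.mp hd with hd' | hd'
  · rw [(Nat.prime_dvd_prime_iff_eq hr hp).mp hd', Nat.mul_div_cancel_left _ hp.pos]; exact h2
  · rw [(Nat.prime_dvd_prime_iff_eq hr hq).mp hd', Nat.mul_div_cancel _ hq.pos]; exact h1

theorem exists_order_six : ∃ s : Γ, orderOf s = 3 * 2 := by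
  refine ⟨s6, orderOf_of_two_primes Nat.prime_three Nat.prime_two ?_ ?_ ?_⟩
  · exact eq_one_of_pw (m14_s6 6 le_rfl) fun i j => (pw_base i j).2.2.2.2.2.1
  · exact ne_one_of_pw (m14_s6 3 (by norm_num)) (by simp)
  · exact ne_one_of_pw (m14_s6 2 (by norm_num)) (by simp)

theorem exists_order_ten : ∃ s : Γ, orderOf s = 5 * 2 := by
  refine ⟨s10, orderOf_of_two_primes Nat.prime_five Nat.prime_two ?_ ?_ ?_⟩
  · exact eq_one_of_pw (m14_s10 10 le_rfl) fun i j => (pw_base i j).2.2.2.2.2.2.2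
  · exact ne_one_of_pw (m14_s10 5 (by norm_num)) (by simp)
  · exact ne_one_of_pw (m14_s10 2 (by norm_num)) (by simp)

end Cfsg.Agent.Recog71.G24
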