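import Cfsg.Agent.Recog71.PrimeGraphExt

set_option autoImplicit false

/-!
Groups of unbounded order with a given prime graph, from a module on which only those elements need to be
fixed-point-free whose prime is not joined to the characteristic.
-/

namespace Cfsg.Agent.Recog71

/-- An extension with `p`-kernel on which prime order elements outside act fixed-point-freely. -/
theorem sameGraph_of_extension_edges {H : Type*} [Group H] [Finite H] {S : Type*} [Group S] [Finite S]
    (π : H →* S) (hπ : Function.Surjective π) (p : ℕ) [hp : Fact p.Prime]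
    (hker : IsPGroup p π.ker) (hpS : p ∣ Nat.card S)
    (hfix : ∀ x : H, (orderOf x).Prime → orderOf x ≠ p → (¬ ∃ s : S, orderOf s = orderOf x * p) →
      ∀ v ∈ π.ker, Commute x v → v = 1) :
    SameGraph S H := by
  have hlift : ∀ {n : ℕ}, (∃ x : S, orderOf x = n) → ∃ y : H, orderOf y = n := by
    rintro n ⟨x, rfl⟩
    obtain ⟨g, rfl⟩ := hπ x
    obtain ⟨d, hd⟩ := orderOf_map_dvd π g
    have hd0 : d ≠ 0 := by
      rintro rfl
      rw [mul_zero] at hd
      exact (orderOf_pos g).ne' hd
    exact ⟨g ^ d, exists_pow_orderOf (by rw [hd, mul_comm]) hd0⟩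
  refine ⟨fun r hr => ?_, fun r s hr hs hne => ?_⟩
  · haveI := Fact.mk hr
    constructor
    · intro h
      obtain ⟨x, hx⟩ := exists_prime_orderOf_dvd_card' r h
      obtain ⟨y, hy⟩ := hlift ⟨x, hx⟩
      exact hy ▸ orderOf_dvd_natCard y
    · intro h
      obtain ⟨y, hy⟩ := exists_prime_orderOf_dvd_card' r h
      by_cases hk : π y = 1
      · obtain ⟨k, hk'⟩ := hker ⟨y, hk⟩
        have h1 : r ∣ p ^ k := by
          rw [← hy]
          exact orderOf_dvd_of_pow_eq_one (congrArg Subtype.val hk')
        rw [(Nat.prime_dvd_prime_iff_eq hr hp.out).mp (hr.dvd_of_dvd_pow h1)]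
        exact hpS
      · have h1 : orderOf (π y) = r := by
          refine orderOf_eq_prime ?_ hk
          rw [← map_pow, ← hy, pow_orderOf_eq_one, map_one]
        exact h1 ▸ orderOf_dvd_natCard _
  · constructor
    · exact hlift
    · rintro ⟨y, hy⟩
      by_cases hk : orderOf (π y) = r * s
      · exact ⟨π y, hk⟩
      by_contra hno
      have hyr : π y ^ r = 1 ∨ π y ^ s = 1 := by
        have hd : orderOf (π y) ∣ r * s := hy ▸ orderOf_map_dvd π y
        rcases Nat.dvd_mul.mp hd with ⟨a, b, ha, hb, hab⟩
        rcases hr.eq_one_or_self_of_dvd a ha with rfl | rfl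
        · right
          exact orderOf_dvd_iff_pow_eq_one.mp (by rw [← hab, one_mul]; exact hb)
        · rcases hs.eq_one_or_self_of_dvd b hb with rfl | rfl
          · left
            exact orderOf_dvd_iff_pow_eq_one.mp (by rw [← hab, mul_one])
          · exact absurd hab.symm hk
      have aux : ∀ {a b : ℕ}, a.Prime → b.Prime → a ≠ b → orderOf y = a * b →
          (¬ ∃ x : S, orderOf x = a * b) → π y ^ a = 1 → False := by
        intro a b ha hb hab h hno hk'
        have hmem : y ^ a ∈ π.ker := by rw [MonoidHom.mem_ker, map_pow]; exact hk'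
        have hord : orderOf (y ^ a) = b := exists_pow_orderOf h ha.ne_zero
        obtain ⟨k, hk''⟩ := hker ⟨_, hmem⟩
        have hbp : b ∣ p ^ k := by
          rw [← hord]; exact orderOf_dvd_of_pow_eq_one (congrArg Subtype.val hk'')
        have hbp' : b = p := (Nat.prime_dvd_prime_iff_eq hb hp.out).mp (hb.dvd_of_dvd_pow hbp)
        have hord' : orderOf (y ^ b) = a := exists_pow_orderOf (by rw [h, mul_comm]) hb.ne_zero
        have := hfix (y ^ b) (hord' ▸ ha) (by rw [hord', ← hbp']; exact hab)
          (by rw [hord', ← hbp']; exact hno) _ hmem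
          ((Commute.refl y).pow_pow b a)
        rw [this, orderOf_one] at hord
        exact hb.ne_one hord.symm
      rcases hyr with h | h
      · exact aux hr hs hne hy hno h
      · exact aux hs hr (Ne.symm hne) (by rw [hy, mul_comm]) (by rwa [mul_comm]) h

/-- Unboundedly many groups with the prime graph of `S`, from a fixed-point-free module. -/
theorem exists_large_sameGraph_edges {S : Type*} [Group S] [Finite S] {V : Type*} [AddCommGroup V]
    [Finite V] [Nontrivial V] [DistribMulAction S V] (p : ℕ) [hp : Fact p.Prime]
    (hV : ∀ v : V, p • v = 0) (hpS : p ∣ Nat.card S)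
    (hfix : ∀ s : S, (orderOf s).Prime → orderOf s ≠ p → (¬ ∃ x : S, orderOf x = orderOf s * p) →
      ∀ v : V, s • v = v → v = 0) (N : ℕ) :
    ∃ (H : Type) (_ : Group H) (_ : Fintype H), N < Nat.card H ∧ SameGraph S H := by
  let φ : S →* MulAut (Multiplicative (Fin N → V)) :=
    MonoidHom.mk' (fun s => AddEquiv.toMultiplicative (DistribMulAction.toAddEquiv (Fin N → V) s))
      (fun s t => MulEquiv.ext fun x =>
        congrArg Multiplicative.ofAdd (mul_smul s t (Multiplicative.toAdd x)))
  let H₀ := Multiplicative (Fin N → V) ⋊[φ] S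
  haveI : Finite H₀ := Finite.of_equiv _ SemidirectProduct.equivProd.symm
  obtain ⟨n, ⟨e⟩⟩ := Finite.exists_equiv_fin H₀
  let f : H₀ →* Equiv.Perm (Fin n) := e.permCongrHom.toMonoidHom.comp (MulAction.toPermHom H₀ H₀)
  have hf : Function.Injective f :=
    e.permCongrHom.injective.comp (MulAction.toPerm_injective (α := H₀) (β := H₀))
  let E : f.range ≃* H₀ := (MonoidHom.ofInjective hf).symm
  refine ⟨f.range, inferInstance, Fintype.ofFinite _, ?_, ?_⟩
  · rw [Nat.card_congr E.toEquiv,
      Nat.card_congr (SemidirectProduct.equivProd : H₀ ≃ _), Nat.card_prod]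
    refine lt_of_lt_of_le ?_ (Nat.le_mul_of_pos_right _ Nat.card_pos)
    rw [Nat.card_congr Multiplicative.toAdd, Nat.card_fun, Nat.card_fin]
    exact Nat.lt_pow_self Finite.one_lt_card
  · let π : f.range →* S := (SemidirectProduct.rightHom).comp E.toMonoidHom
    refine sameGraph_of_extension_edges π
      (SemidirectProduct.rightHom_surjective.comp E.surjective) p ?_ hpS ?_
    · rintro ⟨x, hx⟩
      refine ⟨1, Subtype.ext (E.injective ?_)⟩
      show E (x ^ p ^ 1) = E 1
      rw [pow_one, map_one, map_pow]
      have hx' : E x ∈ (SemidirectProduct.rightHom : H₀ →* S).ker := hx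
      rw [← SemidirectProduct.range_inl_eq_ker_rightHom] at hx'
      obtain ⟨w, hw⟩ := hx'
      rw [← hw, ← map_pow]
      have : w ^ p = 1 := by
        show Multiplicative.ofAdd (p • Multiplicative.toAdd w) = Multiplicative.ofAdd 0
        congr 1
        funext i
        exact hV _
      rw [this, map_one]
    · intro x hx hxp hno v hv hcomm
      refine E.injective ?_
      rw [map_one]
      have hx1 : π x ≠ 1 := by
        intro hk
        have hxk : E x ∈ (SemidirectProduct.rightHom : H₀ →* S).ker := hk
        rw [← SemidirectProduct.range_inl_eq_ker_rightHom] at hxk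
        obtain ⟨w, hw⟩ := hxk
        have hwp : w ^ p = 1 := by
          show Multiplicative.ofAdd (p • Multiplicative.toAdd w) = Multiplicative.ofAdd 0
          congr 1
          funext i
          exact hV _
        have h1 : orderOf x ∣ p := by
          rw [← MulEquiv.orderOf_eq E, ← hw, orderOf_injective _ SemidirectProduct.inl_injective]
          exact orderOf_dvd_of_pow_eq_one hwp
        exact hxp ((Nat.prime_dvd_prime_iff_eq hx hp.out).mp h1)
      have hord : orderOf (π x) = orderOf x := by
        haveI := Fact.mk hx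
        exact orderOf_eq_prime (by rw [← map_pow, pow_orderOf_eq_one, map_one]) hx1
      have hv' : E v ∈ (SemidirectProduct.rightHom : H₀ →* S).ker := hv
      rw [← SemidirectProduct.range_inl_eq_ker_rightHom] at hv'
      obtain ⟨w, hw⟩ := hv'
      have hc : Commute (E x) (SemidirectProduct.inl w : H₀) := hw ▸ hcomm.map E
      have h2 : (E x).left * φ (E x).right w = w * φ 1 (E x).left :=
        congrArg SemidirectProduct.left hc.eq
      rw [map_one, MulAut.one_apply] at h2
      rw [mul_comm w] at h2
      have h3 : φ (E x).right w = w := mul_left_cancel h2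
      rw [← hw]
      suffices w = 1 by rw [this, map_one]
      show Multiplicative.ofAdd (Multiplicative.toAdd w) = Multiplicative.ofAdd 0
      congr 1
      funext i
      refine hfix (π x) (hord ▸ hx) (hord ▸ hxp) (hord ▸ hno) _ ?_
      exact congrFun (congrArg Multiplicative.toAdd h3) i

end Cfsg.Agent.Recog71
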