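import Cfsg.Agent.Recog71.G24Group
import Cfsg.Agent.Recog71.PrimeGraphExtEdges
import Cfsg.Agent.S1080

set_option autoImplicit false

/-!
The six dimensional module of the group of type G2 over four elements, as a subquotient of the exterior
square of the adjoint module, and the groups with the same prime graph.
-/

namespace Cfsg.Agent.Recog71.G24

open Cfsg.Lie

/-- The action on the tensor square. -/
noncomputable def act (g : Γ) : Matrix (Fin 14) (Fin 14) K4 →ₗ[K4] Matrix (Fin 14) (Fin 14) K4 where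
  toFun Z := m14 g * Z * (m14 g).transpose
  map_add' Z Z' := by simp [mul_add, add_mul]
  map_smul' a Z := by simp

theorem act_apply (g : Γ) (Z : Matrix (Fin 14) (Fin 14) K4) :
    act g Z = m14 g * Z * (m14 g).transpose := rfl

theorem act_mul (g h : Γ) (Z : Matrix (Fin 14) (Fin 14) K4) : act (g * h) Z = act g (act h Z) := by
  simp only [act_apply, m14_mul, Matrix.transpose_mul, mul_assoc]

theorem act_one (Z : Matrix (Fin 14) (Fin 14) K4) : act 1 Z = Z := by
  simp [act_apply, m14_one]

/-- The basis of the flag. -/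
def Y (l : Fin 20) : Matrix (Fin 14) (Fin 14) K4 := Matrix.of (yv l)

theorem act_xgen (g : Fin 8) (l : Fin 20) :
    act (xgen g) (Y l) = Matrix.of (gmul g fun a b => gmul g (fun c d => yv l d c) b a) := by
  have h1 : Y l * (m14 (xgen g)).transpose = (Matrix.of (gmul g fun c d => yv l d c)).transpose := by
    show _ = (Matrix.of (gmul g (Y l).transpose)).transpose
    rw [← m14_xgen_mul, Matrix.transpose_mul, Matrix.transpose_transpose]
  rw [act_apply, mul_assoc, h1, m14_xgen_mul]
  rfl

/-- The twenty dimensional submodule. -/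
def W20 : Submodule K4 (Matrix (Fin 14) (Fin 14) K4) := Submodule.span K4 (Set.range Y)

/-- The fourteen dimensional submodule. -/
def W14 : Submodule K4 (Matrix (Fin 14) (Fin 14) K4) :=
  Submodule.span K4 (Y '' {l | l.val < 14})

/-- The coordinates of the quotient. -/
def proj : Matrix (Fin 14) (Fin 14) K4 →ₗ[K4] (Fin 6 → K4) where
  toFun Z k := Z (pr k) (pc k)
  map_add' _ _ := rfl
  map_smul' _ _ := rfl

theorem proj_Y (l : Fin 20) (k : Fin 6) : proj (Y l) k = if l.val = 14 + k.val then 1 else 0 :=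
  piv_valid l k

theorem W14_le_ker : W14 ≤ LinearMap.ker proj := by
  refine Submodule.span_le.mpr ?_
  rintro _ ⟨l, hl, rfl⟩
  refine LinearMap.mem_ker.mpr (funext fun k => ?_)
  rw [proj_Y, if_neg]
  · rfl
  · rw [Set.mem_setOf_eq] at hl; omega

theorem act_xgen_eq (g : Fin 8) (l : Fin 20) :
    act (xgen g) (Y l) = ∑ q, mc g l q • Y (mi g l q) := by
  rw [act_xgen]
  ext i j
  rw [Matrix.of_apply, img_valid, sum4_eq, Matrix.sum_apply]
  refine Finset.sum_congr rfl fun q _ => ?_
  split_ifs with h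
  · simp [h]
  · rfl

/-- Preservation of the flag. -/
def Pres (g : Γ) : Prop := (∀ Z ∈ W20, act g Z ∈ W20) ∧ ∀ Z ∈ W14, act g Z ∈ W14

theorem pres_one : Pres 1 :=
  ⟨fun Z hZ => by rwa [act_one], fun Z hZ => by rwa [act_one]⟩

theorem pres_mul {g h : Γ} (hg : Pres g) (hh : Pres h) : Pres (g * h) :=
  ⟨fun Z hZ => by rw [act_mul]; exact hg.1 _ (hh.1 Z hZ),
    fun Z hZ => by rw [act_mul]; exact hg.2 _ (hh.2 Z hZ)⟩

theorem pres_xgen (g : Fin 8) : Pres (xgen g) := by
  constructor
  · suffices h : W20 ≤ W20.comap (act (xgen g)) from fun Z hZ => h hZ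
    refine Submodule.span_le.mpr ?_
    rintro _ ⟨l, rfl⟩
    show act (xgen g) (Y l) ∈ W20
    rw [act_xgen_eq]
    exact Submodule.sum_mem _ fun q _ => Submodule.smul_mem _ _ (Submodule.subset_span ⟨_, rfl⟩)
  · suffices h : W14 ≤ W14.comap (act (xgen g)) from fun Z hZ => h hZ
    refine Submodule.span_le.mpr ?_
    rintro _ ⟨l, hl, rfl⟩
    show act (xgen g) (Y l) ∈ W14
    rw [act_xgen_eq]
    refine Submodule.sum_mem _ fun q _ => ?_
    by_cases hc : mc g l q = 0
    · rw [hc, zero_smul]; exact zero_mem _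
    · exact Submodule.smul_mem _ _ (Submodule.subset_span ⟨_, flag_closed g l q hl hc, rfl⟩)

theorem pres_all (g : Γ) : Pres g := by
  have hg : g ∈ Subgroup.closure (Set.range xgen) := gens_top ▸ Subgroup.mem_top g
  induction hg using Subgroup.closure_induction with
  | one => exact pres_one
  | mul a b _ _ ha hb => exact pres_mul ha hb
  | mem a ha => obtain ⟨i, rfl⟩ := ha; exact pres_xgen i
  | inv a _ ha =>
    obtain ⟨n, hn⟩ := ((isOfFinOrder_of_finite a).mem_powers_iff_mem_zpowers).mpr
      (Subgroup.inv_mem _ (Subgroup.mem_zpowers a))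
    rw [← show a ^ n = a⁻¹ from hn]
    clear hn
    induction n with
    | zero => rw [pow_zero]; exact pres_one
    | succ n ih => rw [pow_succ]; exact pres_mul ih ha

/-- A basis vector lifting a coordinate of the quotient. -/
def top (m : Fin 6) : Fin 20 := ⟨14 + m.val, Nat.add_lt_add_left m.isLt 14⟩

/-- The six dimensional representation. -/
noncomputable def rho (g : Γ) : Matrix (Fin 6) (Fin 6) K4 :=
  Matrix.of fun k m => proj (act g (Y (top m))) k

theorem proj_act (g : Γ) {Z : Matrix (Fin 14) (Fin 14) K4} (hZ : Z ∈ W20) :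
    proj (act g Z) = (rho g).mulVec (proj Z) := by
  suffices h : W20 ≤ LinearMap.eqLocus (proj.comp (act g)) ((Matrix.mulVecLin (rho g)).comp proj) from h hZ
  refine Submodule.span_le.mpr ?_
  rintro _ ⟨l, rfl⟩
  show proj (act g (Y l)) = (rho g).mulVec (proj (Y l))
  funext k
  simp only [Matrix.mulVec, dotProduct, proj_Y, mul_ite, mul_one, mul_zero]
  by_cases hl : l.val < 14
  · have h0 : proj (act g (Y l)) = 0 :=
      LinearMap.mem_ker.mp (W14_le_ker ((pres_all g).2 _ (Submodule.subset_span ⟨l, hl, rfl⟩)))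
    rw [h0, Finset.sum_eq_zero fun m _ => if_neg (by omega)]
    rfl
  · have hm : l = top ⟨l.val - 14, by omega⟩ := Fin.ext (by show l.val = 14 + (l.val - 14); omega)
    rw [Finset.sum_eq_single ⟨l.val - 14, by omega⟩, if_pos (by show l.val = 14 + (l.val - 14); omega)]
    · conv_lhs => rw [hm]
      rfl
    · intro m _ hne
      exact if_neg fun e => hne (Fin.ext (by show m.val = l.val - 14; omega))
    · intro h; exact absurd (Finset.mem_univ _) h

theorem rho_mul (g h : Γ) : rho (g * h) = rho g * rho h := by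
  ext k m
  show proj (act (g * h) (Y (top m))) k = _
  rw [act_mul, proj_act g ((pres_all h).1 _ (Submodule.subset_span ⟨_, rfl⟩))]
  rfl

theorem rho_one : rho 1 = 1 := by
  ext k m
  show proj (act 1 (Y (top m))) k = _
  rw [act_one, proj_Y, Matrix.one_apply]
  exact if_congr ⟨fun e => Fin.ext (by simp only [top] at e; omega), fun e => by subst e; rfl⟩ rfl rfl

theorem rho_xgen (g : Fin 8) : rho (xgen g) = Matrix.of (repv g) := by
  ext k m
  show proj (act (xgen g) (Y (top m))) k = _
  rw [act_xgen]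
  exact rep_valid g k m

/-- The module. -/
def V6 : Type := Fin 6 → K4

instance : AddCommGroup V6 := inferInstanceAs (AddCommGroup (Fin 6 → K4))
instance : Finite V6 := inferInstanceAs (Finite (Fin 6 → K4))
instance : Nontrivial V6 := inferInstanceAs (Nontrivial (Fin 6 → K4))

noncomputable instance : DistribMulAction Γ V6 where
  smul g v := (rho g).mulVec v
  one_smul v := (congrArg (fun M : Matrix (Fin 6) (Fin 6) K4 => M.mulVec v) rho_one).trans
    (Matrix.one_mulVec v)
  mul_smul g h v := by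
    show (rho (g * h)).mulVec v = (rho g).mulVec ((rho h).mulVec v)
    rw [rho_mul]; exact (Matrix.mulVec_mulVec _ _ _).symm
  smul_zero g := Matrix.mulVec_zero _
  smul_add g v w := Matrix.mulVec_add _ _ _

theorem smul_def (g : Γ) (v : V6) : g • v = (rho g).mulVec v := rfl

theorem two_nsmul_V6 (v : V6) : 2 • v = 0 := by
  rw [two_nsmul]; exact funext fun i => K4.add_self _

theorem fixed_of_inv {s : Γ} {R : Matrix (Fin 6) (Fin 6) K4} (h : R * (rho s - 1) = 1) (v : V6)
    (hv : s • v = v) : v = 0 := by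
  have key : ∀ w : Fin 6 → K4, (rho s).mulVec w = w → w = 0 := by
    intro w hw
    have h0 : (rho s - 1).mulVec w = 0 := by
      rw [Matrix.sub_mulVec, Matrix.one_mulVec, hw]; exact sub_self _
    have h1 := congrArg (fun u => R.mulVec u) h0
    simpa only [Matrix.mulVec_mulVec, h, Matrix.one_mulVec, Matrix.mulVec_zero] using h1
  exact key v hv

theorem fixed_s7 (v : V6) (h : s7 • v = v) : v = 0 :=
  fixed_of_inv (by simp only [s7, rho_mul, rho_xgen]; exact fix_valid.1) v h

theorem fixed_s13 (v : V6) (h : s13 • v = v) : v = 0 :=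
  fixed_of_inv (by simp only [s13, rho_mul, rho_xgen]; exact fix_valid.2) v h

end Cfsg.Agent.Recog71.G24

namespace Cfsg.Agent.Recog71

/-- If one element of order `p` fixes only zero and `p²` does not divide the order, all of them do. -/
theorem fixed_transfer {G : Type*} [Group G] [Finite G] {V : Type*} [AddMonoid V]
    [DistribMulAction G V] {p : ℕ} [hp : Fact p.Prime] (hsq : ¬ p ^ 2 ∣ Nat.card G) {σ g : G}
    (hσ : orderOf σ = p) (hfix : ∀ v : V, σ • v = v → v = 0) (hg : orderOf g = p) {v : V}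
    (hv : g • v = v) : v = 0 := by
  have hsyl : ∀ x : G, orderOf x = p → ∃ P : Sylow p G, (P : Subgroup G) = Subgroup.zpowers x := by
    intro x hx
    have hx' : Nat.card (Subgroup.zpowers x) = p := (Nat.card_zpowers x).trans hx
    obtain ⟨P, hP⟩ := (IsPGroup.of_card (n := 1) (hx'.trans (pow_one p).symm)).exists_le_sylow
    obtain ⟨n, hn⟩ := P.2.exists_card_eq
    have hn1 : n ≤ 1 := by
      by_contra h
      exact hsq ((pow_dvd_pow p (by omega : 2 ≤ n)).trans (hn ▸ Subgroup.card_subgroup_dvd_card _))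
    refine ⟨P, (Subgroup.eq_of_le_of_card_ge hP ?_).symm⟩
    rw [hx', hn]
    calc p ^ n ≤ p ^ 1 := Nat.pow_le_pow_right hp.out.pos hn1
      _ = p := pow_one p
  obtain ⟨P, hP⟩ := hsyl g hg
  obtain ⟨Q, hQ⟩ := hsyl σ hσ
  obtain ⟨c, hc⟩ := MulAction.exists_smul_eq G P Q
  have hmem : σ ∈ ((P : Subgroup G)).map (MulAut.conj c).toMonoidHom := by
    have : σ ∈ (Q : Subgroup G) := hQ ▸ Subgroup.mem_zpowers σ
    rw [← hc, Sylow.coe_subgroup_smul] at this
    exact this
  obtain ⟨x, hx, rfl⟩ := Subgroup.mem_map.mp hmem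
  rw [hP] at hx
  have hxv : x • v = v :=
    (Subgroup.zpowers_le.mpr (show g ∈ MulAction.stabilizer G v from hv) hx : x ∈ MulAction.stabilizer G v)
  have h0 : c • v = 0 := hfix _ (by
    show (c * x * c⁻¹) • c • v = c • v
    rw [← mul_smul, inv_mul_cancel_right, mul_smul, hxv])
  simpa using congrArg (c⁻¹ • ·) h0

namespace G24

open Cfsg.Lie

theorem unbounded (N : ℕ) :
    ∃ (H : Type) (_ : Group H) (_ : Fintype H), N < Nat.card H ∧ SameGraph Γ H := by
  refine exists_large_sameGraph_edges (V := V6) 2 two_nsmul_V6 (by rw [card_Γ]; norm_num)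
    (fun s hs hs2 hno v hv => ?_) N
  have hd : orderOf s ∣ 251596800 := card_Γ ▸ orderOf_dvd_natCard s
  have key : orderOf s = 2 ∨ orderOf s = 3 ∨ orderOf s = 5 ∨ orderOf s = 7 ∨ orderOf s = 13 := by
    rw [show (251596800 : ℕ) = 2 ^ 12 * (3 ^ 3 * (5 ^ 2 * (7 * 13))) by norm_num, hs.dvd_mul,
      hs.dvd_mul, hs.dvd_mul, hs.dvd_mul] at hd
    rcases hd with h | h | h | h | h
    · exact .inl ((Nat.prime_dvd_prime_iff_eq hs Nat.prime_two).mp (hs.dvd_of_dvd_pow h))
    · exact .inr (.inl ((Nat.prime_dvd_prime_iff_eq hs Nat.prime_three).mp (hs.dvd_of_dvd_pow h)))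
    · exact .inr (.inr (.inl ((Nat.prime_dvd_prime_iff_eq hs Nat.prime_five).mp (hs.dvd_of_dvd_pow h))))
    · exact .inr (.inr (.inr (.inl ((Nat.prime_dvd_prime_iff_eq hs (by norm_num)).mp h))))
    · exact .inr (.inr (.inr (.inr ((Nat.prime_dvd_prime_iff_eq hs (by norm_num)).mp h))))
  rcases key with h | h | h | h | h
  · exact absurd h hs2
  · exact absurd (h ▸ exists_order_six) hno
  · exact absurd (h ▸ exists_order_ten) hno
  · haveI : Fact (Nat.Prime 7) := ⟨by norm_num⟩
    exact fixed_transfer (by rw [card_Γ]; norm_num) orderOf_s7 fixed_s7 h hv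
  · haveI : Fact (Nat.Prime 13) := ⟨by norm_num⟩
    exact fixed_transfer (by rw [card_Γ]; norm_num) orderOf_s13 fixed_s13 h hv

theorem main {F : Type*} [Field F] [Fintype F] (hF : Fintype.card F = 4) (N : ℕ) :
    ∃ (H : Type) (_ : Group H) (_ : Finite H), N < Nat.card H ∧
      ((∀ p : ℕ, p.Prime → (p ∣ Nat.card ↥(chevG2.group F) ↔ p ∣ Nat.card H)) ∧
      (∀ p q : ℕ, p.Prime → q.Prime → p ≠ q →
        ((∃ g : ↥(chevG2.group F), orderOf g = p * q) ↔ (∃ g : H, orderOf g = p * q)))) := by
  classical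
  let e : K4 ≃+* F := FiniteField.ringEquivOfCardEq (K4.card_eq.trans hF.symm)
  let f : Γ →* chevG2.group F :=
    MonoidHom.codRestrict ((Matrix.GeneralLinearGroup.map (n := chevG2.Idx) e.toRingHom).comp Γ.subtype) _
      fun g => S1080.map_group_le chevG2 e.toRingHom ⟨g.1, g.2, rfl⟩
  let b : chevG2.group F →* Γ :=
    MonoidHom.codRestrict
      ((Matrix.GeneralLinearGroup.map (n := chevG2.Idx) e.symm.toRingHom).comp (chevG2.group F).subtype) _
      fun g => S1080.map_group_le chevG2 e.symm.toRingHom ⟨g.1, g.2, rfl⟩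
  let E : Γ ≃* chevG2.group F := MonoidHom.toMulEquiv f b
    (MonoidHom.ext fun g => by ext i j; simp [f, b])
    (MonoidHom.ext fun g => by ext i j; simp [f, b])
  obtain ⟨H, _, _, hN, hS⟩ := unbounded N
  exact ⟨H, inferInstance, inferInstance, hN, hS.of_mulEquiv E⟩

end G24

end Cfsg.Agent.Recog71
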