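import Cfsg.Agent.Recog71.G24Tables

set_option autoImplicit false
set_option linter.style.maxHeartbeats false
set_option maxRecDepth 10000

/-!
The orders of four elements of the group of type G2 over four elements, checked on tables of powers.
-/

namespace Cfsg.Agent.Recog71.G24

theorem pw_base : ∀ i j : Fin 14, pw 0 i j = idv i j ∧ pw 7 i j = idv i j ∧ pw 8 i j = idv i j ∧
    pw 21 i j = idv i j ∧ pw 22 i j = idv i j ∧ pw 28 i j = idv i j ∧ pw 29 i j = idv i j ∧
    pw 39 i j = idv i j := by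
  decide +kernel

theorem pw_step7 : ∀ (e : Fin 7) (i j : Fin 14),
    gmul 0 (gmul 6 (gmul 2 (gmul 4 (pw e.val)))) i j = pw (e.val + 1) i j := by
  decide +kernel

theorem pw_step13 : ∀ (e : Fin 13) (i j : Fin 14),
    gmul 4 (gmul 3 (gmul 1 (gmul 7 (pw (8 + e.val))))) i j = pw (8 + (e.val + 1)) i j := by
  decide +kernel

theorem pw_step6 : ∀ (e : Fin 6) (i j : Fin 14),
    gmul 6 (gmul 2 (gmul 0 (pw (22 + e.val)))) i j = pw (22 + (e.val + 1)) i j := by
  decide +kernel

theorem pw_step10 : ∀ (e : Fin 10) (i j : Fin 14),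
    gmul 4 (gmul 1 (gmul 2 (pw (29 + e.val)))) i j = pw (29 + (e.val + 1)) i j := by
  decide +kernel

theorem pw_ne : ∀ e ∈ [1, 9, 24, 25, 31, 34], ∃ i j : Fin 14, pw e i j ≠ idv i j := by
  decide +kernel

end Cfsg.Agent.Recog71.G24
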