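import Cfsg.Prelude.Def_ChevG2
import Cfsg.Agent.Recog71.G24Field

set_option autoImplicit false
set_option linter.style.maxHeartbeats false
set_option maxRecDepth 10000

/-!
Checks of the tables for the six dimensional representation of the group of type G2 over four elements.
-/

namespace Cfsg.Agent.Recog71.G24

open Cfsg.Lie

/-- The coordinates of the adjoint module. -/
def coord (i : Fin 14) : chevG2.Idx :=
  if h : i.val < 2 then Sum.inl ⟨i.val, h⟩
  else Sum.inr ⟨i.val - 2, Nat.sub_lt_left_of_lt_add (Nat.not_lt.mp h) i.isLt⟩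

/-- The root of a generator. -/
def gRoot (g : Fin 8) : Fin chevG2.nroots :=
  ⟨(pickF 12 genRoot 4 g.val).val, (pickF 12 genRoot 4 g.val).isLt⟩

/-- The parameter of a generator. -/
def gScal (g : Fin 8) : K4 := ⟨pickF 4 genScal 2 g.val⟩

/-- The non-zero columns in a row of a generator. -/
def xcol (g : Fin 8) (i : Fin 14) (q : Fin 4) : Fin 14 :=
  pickF 14 genCol 4 ((g.val * 14 + i.val) * 4 + q.val)

/-- The coefficients in a row of a generator. -/
def xco (g : Fin 8) (i : Fin 14) (q : Fin 4) : K4 :=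
  ⟨pickF 4 genCoef 2 ((g.val * 14 + i.val) * 4 + q.val)⟩

/-- The sum of four entries. -/
def sum4 (f : Fin 4 → K4) : K4 := f 0 + f 1 + f 2 + f 3

theorem sum4_eq (f : Fin 4 → K4) : sum4 f = ∑ q, f q := (Fin.sum_univ_four f).symm

/-- Left multiplication by a generator, computed along the sparse rows. -/
def gmul (g : Fin 8) (Y : Fin 14 → Fin 14 → K4) (i j : Fin 14) : K4 :=
  sum4 fun q => if xco g i q = 0 then 0 else xco g i q * Y (xcol g i q) j

/-- The identity. -/
def idv (i j : Fin 14) : K4 := if i = j then 1 else 0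

/-- The basis of the flag. -/
def yv (l : Fin 20) (i j : Fin 14) : K4 := ⟨pickF 4 basTab 2 (l.val * 196 + (i.val * 14 + j.val))⟩

/-- The row of a coordinate of the quotient. -/
def pr (k : Fin 6) : Fin 14 := Fin.ofNat 14 (pick pivTab 8 k.val / 14)

/-- The column of a coordinate of the quotient. -/
def pc (k : Fin 6) : Fin 14 := Fin.ofNat 14 (pick pivTab 8 k.val % 14)

/-- The basis vector in an image. -/
def mi (g : Fin 8) (l : Fin 20) (q : Fin 4) : Fin 20 :=
  pickF 20 imgIdx 5 ((g.val * 20 + l.val) * 4 + q.val)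

/-- The coefficient in an image. -/
def mc (g : Fin 8) (l : Fin 20) (q : Fin 4) : K4 :=
  ⟨pickF 4 imgCoef 2 ((g.val * 20 + l.val) * 4 + q.val)⟩

/-- The six dimensional matrix of a generator. -/
def repv (g : Fin 8) (k m : Fin 6) : K4 :=
  ⟨pickF 4 repTab 2 (g.val * 36 + (k.val * 6 + m.val))⟩

/-- The powers of the special elements, as tables. -/
def pw (e : ℕ) (i j : Fin 14) : K4 :=
  ⟨pickF 4 powTab 2 (e * 196 + (i.val * 14 + j.val))⟩

/-- The inverse of a special six dimensional matrix minus the identity. -/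
def fixv (s : Fin 2) (k m : Fin 6) : K4 :=
  ⟨pickF 4 fixInv 2 (s.val * 36 + (k.val * 6 + m.val))⟩

theorem coord_bijective : Function.Bijective coord := by decide +kernel

theorem gen_cover : (∀ g : Fin 8, gScal g = 1 ∨ gScal g = ⟨2⟩) ∧
    ∀ r : Fin chevG2.nroots, r.val = 7 ∨ r.val = 6 ∨ r.val = 4 ∨ r.val = 5 →
      (∃ g, gRoot g = r ∧ gScal g = 1) ∧ ∃ g, gRoot g = r ∧ gScal g = ⟨2⟩ := by
  decide +kernel

theorem xmat_valid : ∀ (g : Fin 8) (i k : Fin 14),
    chevG2.xMat K4 (gRoot g) (gScal g) (coord i) (coord k) =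
      sum4 fun q => if xcol g i q = k then xco g i q else 0 := by
  decide +kernel

theorem flag_closed : ∀ (g : Fin 8) (l : Fin 20) (q : Fin 4),
    l.val < 14 → mc g l q ≠ 0 → (mi g l q).val < 14 := by
  decide +kernel

theorem img_valid : ∀ (g : Fin 8) (l : Fin 20) (i j : Fin 14),
    gmul g (fun a b => gmul g (fun c d => yv l d c) b a) i j =
      sum4 fun q => if mc g l q = 0 then 0 else mc g l q * yv (mi g l q) i j := by
  decide +kernel

theorem piv_valid : ∀ (l : Fin 20) (k : Fin 6),
    yv l (pr k) (pc k) = if l.val = 14 + k.val then 1 else 0 := by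
  decide +kernel

theorem rep_valid : ∀ (g : Fin 8) (k m : Fin 6),
    gmul g (fun a b => gmul g (fun c d => yv ⟨14 + m.val, Nat.add_lt_add_left m.isLt 14⟩ d c) b a)
      (pr k) (pc k) = repv g k m := by
  decide +kernel

theorem fix_valid :
    Matrix.of (fixv 0) * (Matrix.of (repv 0) * Matrix.of (repv 6) * Matrix.of (repv 2) *
      Matrix.of (repv 4) - 1) = 1 ∧
    Matrix.of (fixv 1) * (Matrix.of (repv 4) * Matrix.of (repv 3) * Matrix.of (repv 1) *
      Matrix.of (repv 7) - 1) = 1 := by
  decide +kernel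

end Cfsg.Agent.Recog71.G24
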