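import Mathlib

set_option autoImplicit false

/-!
Seven by seven matrices modulo eleven, packed in natural numbers for fast evaluation.
-/

namespace Cfsg.Agent.Recog71.J1

/-- A slot of ten bits. -/
def slot (x l : ℕ) : ℕ := x / 2 ^ (10 * l) % 2 ^ 10

/-- A row of a packed matrix. -/
def row (M k : ℕ) : ℕ := M / 2 ^ (70 * k) % 2 ^ 70

/-- An entry of a packed matrix. -/
def entry (M k l : ℕ) : ℕ := slot (row M k) l

/-- Pack seven slots. -/
def pack7 (f : ℕ → ℕ) : ℕ :=
  f 0 + 2 ^ 10 * (f 1 + 2 ^ 10 * (f 2 + 2 ^ 10 * (f 3 + 2 ^ 10 * (f 4 + 2 ^ 10 * (f 5 + 2 ^ 10 * f 6)))))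

/-- Pack seven rows. -/
def packRows (f : ℕ → ℕ) : ℕ :=
  f 0 + 2 ^ 70 * (f 1 + 2 ^ 70 * (f 2 + 2 ^ 70 * (f 3 + 2 ^ 70 * (f 4 + 2 ^ 70 * (f 5 + 2 ^ 70 * f 6)))))

/-- Pass an evaluated number on. -/
def force {α : Sort _} (x : ℕ) (f : ℕ → α) : α :=
  match x with
  | 0 => f 0
  | n + 1 => f (n + 1)

theorem force_eq {α : Sort _} (x : ℕ) (f : ℕ → α) : force x f = f x := by
  cases x <;> rfl

/-- A row of a product before reduction. -/
def rawRow (A B k : ℕ) : ℕ :=
  entry A k 0 * row B 0 + entry A k 1 * row B 1 + entry A k 2 * row B 2 + entry A k 3 * row B 3 +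
    entry A k 4 * row B 4 + entry A k 5 * row B 5 + entry A k 6 * row B 6

/-- Reduce the slots of a row. -/
def reduceRow (x : ℕ) : ℕ := pack7 fun l => slot x l % 11

/-- The product. -/
def mul (A B : ℕ) : ℕ := packRows fun k => force (rawRow A B k) reduceRow

/-- The identity. -/
def idm : ℕ := packRows fun k => pack7 fun l => if k = l then 1 else 0

/-- All entries are reduced. -/
def good (M : ℕ) : Bool := (List.range 7).all fun k => (List.range 7).all fun l => decide (entry M k l < 11)

/-- The matrix of a packed number. -/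
def toMat (M : ℕ) : Matrix (Fin 7) (Fin 7) (ZMod 11) :=
  Matrix.of fun k l => (entry M k.val l.val : ZMod 11)

theorem row_lt (M k : ℕ) : row M k < 2 ^ 70 := Nat.mod_lt _ (by norm_num)

theorem slot_pack7 (f : ℕ → ℕ) (hf : ∀ l < 7, f l < 2 ^ 10) (l : ℕ) (hl : l < 7) :
    slot (pack7 f) l = f l := by
  have h0 := hf 0 (by norm_num); have h1 := hf 1 (by norm_num); have h2 := hf 2 (by norm_num)
  have h3 := hf 3 (by norm_num); have h4 := hf 4 (by norm_num); have h5 := hf 5 (by norm_num)
  have h6 := hf 6 (by norm_num)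
  unfold slot pack7
  interval_cases l <;> norm_num at h0 h1 h2 h3 h4 h5 h6 ⊢ <;> omega

theorem pack7_lt (f : ℕ → ℕ) (hf : ∀ l < 7, f l < 2 ^ 10) : pack7 f < 2 ^ 70 := by
  have h0 := hf 0 (by norm_num); have h1 := hf 1 (by norm_num); have h2 := hf 2 (by norm_num)
  have h3 := hf 3 (by norm_num); have h4 := hf 4 (by norm_num); have h5 := hf 5 (by norm_num)
  have h6 := hf 6 (by norm_num)
  unfold pack7
  norm_num at h0 h1 h2 h3 h4 h5 h6 ⊢
  omega

theorem pack7_slot (x : ℕ) (hx : x < 2 ^ 70) : pack7 (slot x) = x := by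
  unfold pack7 slot
  norm_num at hx ⊢
  omega

theorem row_packRows (f : ℕ → ℕ) (hf : ∀ k < 7, f k < 2 ^ 70) (k : ℕ) (hk : k < 7) :
    row (packRows f) k = f k := by
  have h0 := hf 0 (by norm_num); have h1 := hf 1 (by norm_num); have h2 := hf 2 (by norm_num)
  have h3 := hf 3 (by norm_num); have h4 := hf 4 (by norm_num); have h5 := hf 5 (by norm_num)
  have h6 := hf 6 (by norm_num)
  unfold row packRows
  interval_cases k <;> norm_num at h0 h1 h2 h3 h4 h5 h6 ⊢ <;> omega

theorem good_iff {M : ℕ} : good M = true ↔ ∀ k < 7, ∀ l < 7, entry M k l < 11 := by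
  simp [good, List.all_eq_true]

theorem rawRow_eq (A B k : ℕ) : rawRow A B k = pack7 fun l =>
    entry A k 0 * entry B 0 l + entry A k 1 * entry B 1 l + entry A k 2 * entry B 2 l +
      entry A k 3 * entry B 3 l + entry A k 4 * entry B 4 l + entry A k 5 * entry B 5 l +
        entry A k 6 * entry B 6 l := by
  have e : ∀ m, row B m = pack7 fun l => entry B m l := fun m => (pack7_slot _ (row_lt B m)).symm
  unfold rawRow
  rw [e 0, e 1, e 2, e 3, e 4, e 5, e 6]
  generalize entry A k 0 = a0
  generalize entry A k 1 = a1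
  generalize entry A k 2 = a2
  generalize entry A k 3 = a3
  generalize entry A k 4 = a4
  generalize entry A k 5 = a5
  generalize entry A k 6 = a6
  unfold pack7
  ring

theorem entry_mul {A B : ℕ} (hA : good A = true) (hB : good B = true) {k l : ℕ} (hk : k < 7)
    (hl : l < 7) : entry (mul A B) k l =
      (entry A k 0 * entry B 0 l + entry A k 1 * entry B 1 l + entry A k 2 * entry B 2 l +
        entry A k 3 * entry B 3 l + entry A k 4 * entry B 4 l + entry A k 5 * entry B 5 l +
          entry A k 6 * entry B 6 l) % 11 := by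
  rw [good_iff] at hA hB
  have hb : ∀ j < 7, entry A k 0 * entry B 0 j + entry A k 1 * entry B 1 j + entry A k 2 * entry B 2 j +
      entry A k 3 * entry B 3 j + entry A k 4 * entry B 4 j + entry A k 5 * entry B 5 j +
        entry A k 6 * entry B 6 j < 2 ^ 10 := by
    intro j hj
    have hp : ∀ m < 7, entry A k m * entry B m j ≤ 100 := fun m hm =>
      le_trans (Nat.mul_le_mul (Nat.le_of_lt_succ (hA k hk m hm)) (Nat.le_of_lt_succ (hB m hm j hj)))
        (by norm_num)
    have h0 := hp 0 (by norm_num); have h1 := hp 1 (by norm_num); have h2 := hp 2 (by norm_num)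
    have h3 := hp 3 (by norm_num); have h4 := hp 4 (by norm_num); have h5 := hp 5 (by norm_num)
    have h6 := hp 6 (by norm_num)
    norm_num
    omega
  show slot (row (mul A B) k) l = _
  unfold mul
  rw [row_packRows _ _ k hk, force_eq, reduceRow, slot_pack7 _ _ l hl, rawRow_eq, slot_pack7 _ hb l hl]
  · exact fun j _ => lt_trans (Nat.mod_lt _ (by norm_num)) (by norm_num)
  · intro j _
    rw [force_eq]
    exact pack7_lt _ fun i _ => lt_trans (Nat.mod_lt _ (by norm_num)) (by norm_num)

theorem good_mul {A B : ℕ} (hA : good A = true) (hB : good B = true) : good (mul A B) = true :=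
  good_iff.mpr fun k hk l hl => by rw [entry_mul hA hB hk hl]; exact Nat.mod_lt _ (by norm_num)

theorem toMat_mul {A B : ℕ} (hA : good A = true) (hB : good B = true) :
    toMat (mul A B) = toMat A * toMat B := by
  ext k l
  simp only [toMat, Matrix.of_apply, Matrix.mul_apply, entry_mul hA hB k.isLt l.isLt,
    ZMod.natCast_mod, Fin.sum_univ_seven]
  push_cast
  simp

theorem good_idm : good idm = true := by decide +kernel

theorem toMat_idm : toMat idm = 1 := by decide +kernel

/-- The powers with the exponents 6, 7, 10, 11, 15 and 19, in this order. -/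
def powIdx (P : ℕ) : ℕ → ℕ
  | 0 => force (mul P P) fun p2 => force (mul p2 P) fun p3 => mul p3 p3
  | 1 => force (mul P P) fun p2 => force (mul p2 P) fun p3 => force (mul p3 p3) fun p6 => mul p6 P
  | 2 => force (mul P P) fun p2 => force (mul p2 P) fun p3 => force (mul p3 p2) fun p5 => mul p5 p5
  | 3 => force (mul P P) fun p2 => force (mul p2 P) fun p3 => force (mul p3 p2) fun p5 =>
      force (mul p5 p5) fun p10 => mul p10 P
  | 4 => force (mul P P) fun p2 => force (mul p2 P) fun p3 => force (mul p3 p2) fun p5 =>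
      force (mul p5 p5) fun p10 => mul p10 p5
  | _ => force (mul P P) fun p2 => force (mul p2 P) fun p3 => force (mul p3 p3) fun p6 =>
      force (mul p6 p3) fun p9 => force (mul p9 p9) fun p18 => mul p18 P

/-- The exponent of an index. -/
def expOf : ℕ → ℕ
  | 0 => 6
  | 1 => 7
  | 2 => 10
  | 3 => 11
  | 4 => 15
  | _ => 19

theorem toMat_mul_pow {X : Matrix (Fin 7) (Fin 7) (ZMod 11)} {A B a b : ℕ}
    (hA : good A = true ∧ toMat A = X ^ a) (hB : good B = true ∧ toMat B = X ^ b) :
    good (mul A B) = true ∧ toMat (mul A B) = X ^ (a + b) :=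
  ⟨good_mul hA.1 hB.1, by rw [toMat_mul hA.1 hB.1, hA.2, hB.2, pow_add]⟩

theorem toMat_powIdx {P : ℕ} (hP : good P = true) (e : ℕ) :
    toMat (powIdx P e) = toMat P ^ expOf e := by
  have h1 : good P = true ∧ toMat P = toMat P ^ 1 := ⟨hP, (pow_one _).symm⟩
  have h2 := toMat_mul_pow h1 h1
  have h3 := toMat_mul_pow h2 h1
  have h5 := toMat_mul_pow h3 h2
  have h6 := toMat_mul_pow h3 h3
  have h10 := toMat_mul_pow h5 h5
  have h9 := toMat_mul_pow h6 h3
  match e with
  | 0 => simp only [powIdx, force_eq]; exact h6.2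
  | 1 => simp only [powIdx, force_eq]; exact (toMat_mul_pow h6 h1).2
  | 2 => simp only [powIdx, force_eq]; exact h10.2
  | 3 => simp only [powIdx, force_eq]; exact (toMat_mul_pow h10 h1).2
  | 4 => simp only [powIdx, force_eq]; exact (toMat_mul_pow h10 h5).2
  | n + 5 => simp only [powIdx, force_eq]; exact (toMat_mul_pow (toMat_mul_pow h9 h9) h1).2

end Cfsg.Agent.Recog71.J1
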