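import Cfsg.Agent.Recog71.J1Tables

set_option autoImplicit false
set_option maxRecDepth 10000

/-!
The double cosets in the transversal of the first Janko group.
-/

namespace Cfsg.Agent.Recog71.J1

theorem double_valid : ∀ i : Fin 1596,
    mul (Hh (dcl i).val) (mul (T (rep (dcr i)).val) (Hh (dcx i).val)) = T i.val := by
  decide +kernel

end Cfsg.Agent.Recog71.J1
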