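import Cfsg.Agent.Recog71.J1Spectrum

set_option autoImplicit false

/-!
Groups of unbounded order with the element orders of the fourth direct power of the first Janko group:
products of a Frobenius group with orders `1, 7, 11` and a third power.
-/

namespace Cfsg.Agent.Recog71.J1

open Cfsg

instance factEleven : Fact (Nat.Prime 11) := ⟨by norm_num⟩

/-- The field with `11³` elements. -/
abbrev K : Type := GaloisField 11 3

theorem exists_unit_seven : ∃ u : Kˣ, orderOf u = 7 := by
  haveI : Fact (Nat.Prime 7) := ⟨by norm_num⟩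

  refine exists_prime_orderOf_dvd_card' 7 ?_
  rw [Nat.card_units, GaloisField.card 11 3 (by norm_num)]
  norm_num

section Frobenius

variable (u : Kˣ) (N : ℕ)

/-- The scalar action. -/
noncomputable def scal : Subgroup.zpowers u →* MulAut (Multiplicative (Fin N → K)) :=
  MonoidHom.mk' (fun s => AddEquiv.toMultiplicative
      (DistribMulAction.toAddEquiv (Fin N → K) (s : Kˣ)))
    (fun s t => MulEquiv.ext fun x =>
      congrArg Multiplicative.ofAdd (mul_smul (s : Kˣ) (t : Kˣ) (Multiplicative.toAdd x)))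

/-- The Frobenius group. -/
abbrev Frob : Type := Multiplicative (Fin N → K) ⋊[scal u N] Subgroup.zpowers u

variable {u N}

theorem pow_eleven (a : Multiplicative (Fin N → K)) : a ^ 11 = 1 := by
  refine congrArg Multiplicative.ofAdd (?_ : 11 • Multiplicative.toAdd a = 0)
  funext i
  show 11 • Multiplicative.toAdd a i = 0
  rw [nsmul_eq_mul, CharP.cast_eq_zero, zero_mul]

theorem pow_seven_or_eleven (hu : orderOf u = 7) (x : Frob u N) : x ^ 7 = 1 ∨ x ^ 11 = 1 := by
  by_cases hr : x.right = 1
  · right
    rw [show x = SemidirectProduct.inl x.left from SemidirectProduct.ext rfl hr, ← map_pow, pow_eleven,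
      map_one]
  · left
    have hv : (x ^ 7).right = 1 := by
      rw [← SemidirectProduct.rightHom_eq_right (φ := scal u N), map_pow,
        SemidirectProduct.rightHom_eq_right, ← hu, ← Nat.card_zpowers]
      exact pow_card_eq_one'
    set a := (x ^ 7).left with ha
    have hxa : x ^ 7 = SemidirectProduct.inl a := SemidirectProduct.ext rfl hv
    have hcomm : x * SemidirectProduct.inl a = SemidirectProduct.inl a * x := by
      rw [← hxa]; exact ((Commute.refl x).pow_right 7).eq
    have hfix : scal u N x.right a = a := by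
      have h := congrArg SemidirectProduct.left hcomm
      rw [SemidirectProduct.mul_left, SemidirectProduct.mul_left, SemidirectProduct.left_inl,
        SemidirectProduct.right_inl, map_one, MulAut.one_apply, mul_comm] at h
      exact mul_right_cancel h
    have h0 : a = 1 := by
      refine congrArg Multiplicative.ofAdd (?_ : Multiplicative.toAdd a = 0)
      funext i
      have h1 : ((x.right : Kˣ) : K) * Multiplicative.toAdd a i = Multiplicative.toAdd a i :=
        congrFun (congrArg Multiplicative.toAdd hfix) i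
      by_contra hne
      exact hr (Subtype.ext (Units.ext ((mul_eq_right₀ hne).mp h1)))
    rw [hxa, h0, map_one]

theorem orderOf_frob (hu : orderOf u = 7) (x : Frob u N) : orderOf x ∈ [1, 7, 11] := by
  rcases pow_seven_or_eleven hu x with h | h <;>
    rcases (Nat.dvd_prime (by norm_num)).mp (orderOf_dvd_of_pow_eq_one h) with e | e <;> simp [e]

theorem exists_frob (hu : orderOf u = 7) (hN : 0 < N) {n : ℕ} (hn : n ∈ [1, 7, 11]) :
    ∃ x : Frob u N, orderOf x = n := by
  simp only [List.mem_cons, List.not_mem_nil, or_false] at hn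
  rcases hn with rfl | rfl | rfl
  · exact ⟨1, orderOf_one⟩
  · refine ⟨SemidirectProduct.inr ⟨u, Subgroup.mem_zpowers u⟩, ?_⟩
    rw [orderOf_injective _ SemidirectProduct.inr_injective, Subgroup.orderOf_mk, hu]
  · refine ⟨SemidirectProduct.inl (Multiplicative.ofAdd fun _ => (1 : K)), ?_⟩
    rw [orderOf_injective _ SemidirectProduct.inl_injective]
    refine orderOf_eq_prime (pow_eleven _) fun h => ?_
    exact one_ne_zero (congrFun (congrArg Multiplicative.toAdd h) ⟨0, hN⟩)

end Frobenius

/-- Least common multiples of pairs. -/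
def lcms (A B : List ℕ) : List ℕ := (A.flatMap fun a => B.map (Nat.lcm a)).dedup

theorem mem_lcms {A B : List ℕ} {n : ℕ} : n ∈ lcms A B ↔ ∃ a ∈ A, ∃ b ∈ B, n = Nat.lcm a b := by
  simp [lcms, List.mem_flatMap, eq_comm]

theorem lcms_subset : ∀ n ∈ lcms omega (lcms omega (lcms omega omega)),
    n ∈ lcms [1, 7, 11] (lcms omega (lcms omega omega)) := by
  decide +kernel

theorem omega_subset : ∀ n ∈ [1, 7, 11], n ∈ omega := by decide +kernel

theorem main (N : ℕ) : ∃ (H : Type) (_ : Group H) (_ : Fintype H), N < Fintype.card H ∧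
    Set.range (orderOf : H → ℕ) =
      Set.range (orderOf : ↥Spor.J1 × ↥Spor.J1 × ↥Spor.J1 × ↥Spor.J1 → ℕ) := by
  obtain ⟨u, hu⟩ := exists_unit_seven
  haveI : Finite (Frob u (N + 1)) := Finite.of_equiv _ SemidirectProduct.equivProd.symm
  let J := ↥Spor.J1
  haveI : Fintype (Frob u (N + 1) × J × J × J) := Fintype.ofFinite _
  refine ⟨Frob u (N + 1) × J × J × J, inferInstance, inferInstance, ?_, ?_⟩
  · rw [← Nat.card_eq_fintype_card, Nat.card_prod]
    refine lt_of_lt_of_le ?_ (Nat.le_mul_of_pos_right _ Nat.card_pos)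
    rw [Nat.card_congr SemidirectProduct.equivProd, Nat.card_prod]
    refine lt_of_lt_of_le ?_ (Nat.le_mul_of_pos_right _ Nat.card_pos)
    rw [Nat.card_congr Multiplicative.toAdd, Nat.card_fun, Nat.card_fin]
    exact lt_trans (Nat.lt_succ_self N) (Nat.lt_pow_self Finite.one_lt_card)
  · ext n
    constructor
    · rintro ⟨⟨x, p, q, r⟩, rfl⟩
      obtain ⟨y, hy⟩ := exists_orderOf (omega_subset _ (orderOf_frob hu x))
      exact ⟨(y, p, q, r), by simp only [Prod.orderOf, hy]⟩
    · rintro ⟨⟨a, b, c, d⟩, rfl⟩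
      have h : orderOf (a, b, c, d) ∈ lcms omega (lcms omega (lcms omega omega)) := by
        simp only [Prod.orderOf]
        exact mem_lcms.mpr ⟨_, orderOf_mem a, _, mem_lcms.mpr ⟨_, orderOf_mem b, _,
          mem_lcms.mpr ⟨_, orderOf_mem c, _, orderOf_mem d, rfl⟩, rfl⟩, rfl⟩
      obtain ⟨n₀, hn₀, w, hw, e⟩ := mem_lcms.mp (lcms_subset _ h)
      obtain ⟨p₀, hp₀, w', hw', rfl⟩ := mem_lcms.mp hw
      obtain ⟨q₀, hq₀, r₀, hr₀, rfl⟩ := mem_lcms.mp hw'
      obtain ⟨x, rfl⟩ := exists_frob (N := N + 1) hu (Nat.succ_pos _) hn₀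
      obtain ⟨p, rfl⟩ := exists_orderOf hp₀
      obtain ⟨q, rfl⟩ := exists_orderOf hq₀
      obtain ⟨r, rfl⟩ := exists_orderOf hr₀
      exact ⟨(x, p, q, r), by rw [e]; simp only [Prod.orderOf]⟩

end Cfsg.Agent.Recog71.J1
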