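import Cfsg.Agent.Recog71.J1Order

set_option autoImplicit false
set_option maxRecDepth 10000

/-!
An involution centralizer in the first Janko group.
-/

namespace Cfsg.Agent.Recog71.J1

open Cfsg Subgroup

attribute [local irreducible] pairMat npowM mul toMat

/-- The involution. -/
noncomputable def invJ : Spor.J1 := elt (0, invH)

theorem mat_invJ : mat invJ = toMat (Hh invH.val) := by
  rw [invJ, mat_elt, val_eq, val, show ((0 : Fin 1596) : ℕ) = 0 from rfl, T_zero, toMat_idm, one_mul]

theorem invJ_sq : invJ ^ 2 = 1 := mat_injective (by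
  show mat (invJ ^ 2 : Spor.J1) = mat (1 : Spor.J1)
  rw [sq, mat_mul, mat_invJ, ← toMat_mul (good_sub _) (good_sub _), invH_valid.1, toMat_idm, mat_one])

theorem invJ_ne_one : invJ ≠ 1 := fun h => invH_valid.2.1 (by rw [← mat_invJ, h, mat_one])

theorem orderOf_invJ : orderOf invJ = 2 := by
  haveI : Fact (Nat.Prime 2) := ⟨Nat.prime_two⟩
  exact orderOf_eq_prime invJ_sq invJ_ne_one

theorem commute_elt {q : Fin 1596 × Fin 110}
    (h : mul (Hh invH.val) (pairMat q) = mul (pairMat q) (Hh invH.val)) : Commute invJ (elt q) :=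
  mat_injective (by
    show mat (invJ * elt q : Spor.J1) = mat (elt q * invJ : Spor.J1)
    rw [mat_mul, mat_mul, mat_invJ, mat_elt, ← toMat_mul (good_sub _) (good_pair q), h,
      toMat_mul (good_pair q) (good_sub _)])

theorem exists_cent {x : Spor.J1} (hx : Commute invJ x) : ∃ j : Fin 120, x = elt (centI j) := by
  obtain ⟨⟨i, a⟩, rfl⟩ := exists_elt x
  have h : toMat (Hh invH.val) * toMat (pairMat (i, a)) =
      toMat (pairMat (i, a)) * toMat (Hh invH.val) := by
    have h := congrArg (fun y : Spor.J1 => mat y) hx.eq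
    simp only [mat_mul, mat_invJ, mat_elt] at h
    exact h
  obtain ⟨e, he⟩ := sub_mul (scI i.val) a
  obtain ⟨f, hf⟩ := sub_mul a invH
  have hl : toMat (Hh invH.val) * toMat (pairMat (i, a)) = val (piI i.val, e) := by
    rw [val_eq, val, val, ← mul_assoc, ← toMat_mul (good_sub _) (good_T i), (invAct_valid i).1,
      toMat_mul (good_T _) (good_sub _), mul_assoc, he]
  have hr : toMat (pairMat (i, a)) * toMat (Hh invH.val) = val (i, f) := by
    rw [val_eq, val, val, mul_assoc, hf]
  have hfix : fixI (fixPos i) = i :=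
    (invAct_valid i).2 (congrArg Prod.fst (val_injective (hl.symm.trans (h.trans hr))))
  have hc := cent_valid (fixPos i) a (by
    rw [hfix]
    exact mul_eq_of_toMat (good_sub _) (good_pair _) (good_pair _) (good_sub _)
      (by rw [toMat_mul (good_sub _) (good_pair _), toMat_mul (good_pair _) (good_sub _), h]))
  exact ⟨centPos (fixPos i) a, by rw [hc, hfix]⟩

/-- The image of an even permutation. -/
noncomputable def altHom : alternatingGroup (Fin 5) →* Spor.J1 :=
  MonoidHom.mk' (fun σ => elt (altI σ.1)) fun σ τ => mat_injective (by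
    show mat (elt (altI (σ.1 * τ.1))) = mat (elt (altI σ.1) * elt (altI τ.1) : Spor.J1)
    rw [mat_mul, mat_elt, mat_elt, mat_elt, ← toMat_mul (good_pair _) (good_pair _),
      (alt_valid σ.1 σ.2).2.2 τ.1 τ.2])

/-- The powers of the involution. -/
noncomputable def invHom : Multiplicative (ZMod 2) →* Spor.J1 where
  toFun e := invJ ^ (Multiplicative.toAdd e).val
  map_one' := by simp
  map_mul' e f := by
    rw [← pow_add, toAdd_mul, ZMod.val_add]
    exact (pow_eq_pow_mod _ invJ_sq).symm

theorem commute_altHom (e : Multiplicative (ZMod 2)) (σ : alternatingGroup (Fin 5)) :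
    Commute (invHom e) (altHom σ) :=
  (commute_elt (alt_valid σ.1 σ.2).1).pow_left _

/-- The map onto the centralizer. -/
noncomputable def centHom : Multiplicative (ZMod 2) × alternatingGroup (Fin 5) →* Spor.J1 :=
  MonoidHom.noncommCoprod invHom altHom commute_altHom

theorem centHom_injective : Function.Injective centHom := by
  rw [injective_iff_map_eq_one]
  rintro ⟨e, σ⟩ h
  have hgood := toMat_npowM (good_sub invH) (Multiplicative.toAdd e).val
  have h0 : invJ ^ (Multiplicative.toAdd e).val * elt (altI σ.1) = 1 := h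
  have h' := congrArg (fun y : Spor.J1 => mat y) h0
  simp only [mat_mul, mat_pow, mat_invJ, mat_elt, mat_one] at h'
  rw [← hgood.2, ← toMat_mul hgood.1 (good_pair _)] at h'
  obtain ⟨h1, h2⟩ := (alt_valid σ.1 σ.2).2.1 (Multiplicative.toAdd e) h'
  exact Prod.ext h1 (Subtype.ext h2)

theorem centralizer_invJ : Nonempty (↥(centralizer ({invJ} : Set Spor.J1)) ≃*
    Multiplicative (ZMod 2) × alternatingGroup (Fin 5)) := by
  have hmem : ∀ p, centHom p ∈ centralizer ({invJ} : Set Spor.J1) := fun p =>
    mem_centralizer_singleton_iff.mpr (by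
        show (invJ ^ (Multiplicative.toAdd p.1).val * elt (altI p.2.1)) * invJ =
          invJ * (invJ ^ (Multiplicative.toAdd p.1).val * elt (altI p.2.1))
        exact (((Commute.refl invJ).pow_left _).mul_left (commute_elt (alt_valid p.2.1 p.2.2).1).symm).eq)
  let ψ := centHom.codRestrict _ hmem
  have hinj : Function.Injective ψ := fun p q h => centHom_injective (congrArg Subtype.val h)
  have hle : Nat.card ↥(centralizer ({invJ} : Set Spor.J1)) ≤
      Nat.card (Multiplicative (ZMod 2) × alternatingGroup (Fin 5)) := by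
    have h120 : Nat.card (Multiplicative (ZMod 2) × alternatingGroup (Fin 5)) = 120 := by
      rw [Nat.card_prod, nat_card_alternatingGroup]
      simp [Nat.card_eq_fintype_card]
      rfl
    rw [h120]
    have hc : ∀ x : ↥(centralizer ({invJ} : Set Spor.J1)), ∃ j : Fin 120, x.1 = elt (centI j) :=
      fun x => exists_cent (mem_centralizer_singleton_iff.mp x.2).symm
    choose g hg using hc
    have := Nat.card_le_card_of_injective g fun x y h => Subtype.ext (by rw [hg, hg, h])
    simpa [Nat.card_eq_fintype_card] using this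
  exact ⟨(MulEquiv.ofBijective ψ (hinj.bijective_of_nat_card_le hle)).symm⟩

end Cfsg.Agent.Recog71.J1
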