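import Mathlib

set_option autoImplicit false

/-!
An elementary abelian subgroup of order eight in the first Janko group with an element of order seven
normalising it. Generated by a script and checked in `J1Multiplier`.
-/

namespace Cfsg.Agent.Recog71.J1

/-- The pairs of the normalising element and of the three involutions. -/
def eightTab : ℕ := 0x14305dae7000a82794

end Cfsg.Agent.Recog71.J1
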