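import Cfsg.Agent.Recog71.J1Order
import Cfsg.Agent.Recog71.J1MultData
import Cfsg.Agent.KnownSimple.Multiplier.Sylow

set_option autoImplicit false
set_option maxRecDepth 100000

/-!
The Schur multiplier of the first Janko group is trivial.
-/

namespace Cfsg.Agent.Recog71.J1

open Cfsg Subgroup
open scoped commutatorElement

/-- The pairs of an element of order seven and of three involutions. -/
def eightI (k : Fin 4) : Fin 1596 × Fin 110 :=
  (Fin.ofNat 1596 (pick eightTab 18 k.val / 110), Fin.ofNat 110 (pick eightTab 18 k.val % 110))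

/-- The packed matrix of one of the four elements. -/
def eightM (k : Fin 4) : ℕ := pairMat (eightI k)

/-- A product of the three involutions. -/
def eightProd (a b c : Fin 2) : ℕ :=
  mul (npowM (eightM 1) a.val) (mul (npowM (eightM 2) b.val) (npowM (eightM 3) c.val))

theorem eight_valid :
    (mul (eightM 0) (eightM 1) = mul (eightM 2) (eightM 0) ∧
      mul (eightM 0) (eightM 2) = mul (eightM 3) (eightM 0) ∧
      mul (eightM 0) (eightM 3) = mul (mul (eightM 1) (eightM 2)) (eightM 0)) ∧
    (∀ k : Fin 4, k ≠ 0 → mul (eightM k) (eightM k) = idm ∧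
      ∀ l : Fin 4, l ≠ 0 → mul (eightM k) (eightM l) = mul (eightM l) (eightM k)) ∧
    ∀ a b c : Fin 2, toMat (eightProd a b c) = 1 → a = 0 ∧ b = 0 ∧ c = 0 := by
  decide +kernel

/-- If three lifts are permuted by a lift as for an element of order seven, they commute pairwise. -/
theorem commute_of_cycle {Γ : Type*} [Group Γ] {w a b c k : Γ} (hk : k ∈ center Γ)
    (hb : w * a * w⁻¹ = b) (hc : w * b * w⁻¹ = c) (hw : w * c * w⁻¹ = a * b * k)
    (hab : ⁅a, b⁆ ∈ center Γ) (hac : ⁅a, c⁆ ∈ center Γ) (hbc : ⁅b, c⁆ ∈ center Γ) :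
    ⁅a, b⁆ = 1 ∧ ⁅a, c⁆ = 1 ∧ ⁅b, c⁆ = 1 := by
  have hz : ∀ z ∈ center Γ, ∀ g : Γ, g * z * g⁻¹ = z := fun z hz g => by
    rw [Subgroup.mem_center_iff.mp hz g, mul_inv_cancel_right]
  have hconj : ∀ x y : Γ, w * ⁅x, y⁆ * w⁻¹ = ⁅w * x * w⁻¹, w * y * w⁻¹⁆ := fun x y => by
    simp only [commutatorElement_def]; group
  have e1 : ⁅b, c⁆ = ⁅a, b⁆ := by
    have h := hconj a b
    rw [hb, hc, hz _ hab] at h
    exact h.symm
  have hmul : ∀ x y z : Γ, ⁅x, y * z⁆ = ⁅x, y⁆ * (y * ⁅x, z⁆ * y⁻¹) := fun x y z => by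
    simp only [commutatorElement_def]; group
  have hk1 : ∀ x y : Γ, ⁅x, y * k⁆ = ⁅x, y⁆ := fun x y => by
    have := Cfsg.Agent.Schur.commutatorElement_mul_central (one_mem (center Γ)) hk x y
    rwa [mul_one] at this
  have e2 : ⁅a, c⁆ = ⁅a, b⁆⁻¹ := by
    have h := hconj a c
    rw [hb, hw, hk1, hz _ hac, hmul, commutatorElement_self, mul_one, mul_inv_cancel, mul_one,
      ← commutatorElement_inv a b] at h
    exact h
  have e3 : ⁅a, b⁆ = 1 := by
    have h := hconj b c
    rw [hc, hw, hk1, hz _ hbc, hmul, ← commutatorElement_inv a c, ← commutatorElement_inv b c,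
      hz _ (inv_mem hbc), e2, inv_inv, e1, mul_inv_cancel] at h
    exact h
  exact ⟨e3, by rw [e2, e3, inv_one], by rw [e1, e3]⟩

theorem commutator_lifts_eq_one {Γ G : Type*} [Group Γ] [Group G] (σ : Γ →* G)
    (hc : σ.ker ≤ center Γ) (hσ : Function.Surjective σ) {u e0 e1 e2 : G}
    (h01 : u * e0 = e1 * u) (h12 : u * e1 = e2 * u) (h20 : u * e2 = e0 * e1 * u)
    (c01 : Commute e0 e1) (c02 : Commute e0 e2) (c12 : Commute e1 e2) :
    ∀ x ∈ (closure {e0, e1, e2}).comap σ, ∀ y ∈ (closure {e0, e1, e2}).comap σ, ⁅x, y⁆ = 1 := by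
  obtain ⟨w, rfl⟩ := hσ u
  obtain ⟨a, rfl⟩ := hσ e0
  have hb : σ (w * a * w⁻¹) = e1 := by
    rw [map_mul, map_mul, map_inv, h01, mul_inv_cancel_right]
  have hc' : σ (w * (w * a * w⁻¹) * w⁻¹) = e2 := by
    rw [map_mul, map_mul σ w, hb, map_inv, h12, mul_inv_cancel_right]
  generalize hbd : w * a * w⁻¹ = b at hb hc'
  generalize hcd : w * b * w⁻¹ = c at hc'
  subst hb hc'
  have hk : (a * b)⁻¹ * (w * c * w⁻¹) ∈ center Γ := hc (by
    rw [MonoidHom.mem_ker]
    simp only [map_mul, map_inv, h20, mul_inv_cancel_right, inv_mul_cancel])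
  have hcz : ∀ p q : Γ, Commute (σ p) (σ q) → ⁅p, q⁆ ∈ center Γ := fun p q h => hc (by
    rw [MonoidHom.mem_ker, map_commutatorElement, commutatorElement_eq_one_iff_mul_comm]
    exact h.eq)
  obtain ⟨q01, q02, q12⟩ := commute_of_cycle hk hbd hcd (by group) (hcz a b c01) (hcz a c c02) (hcz b c c12)
  rw [commutatorElement_eq_one_iff_mul_comm] at q01 q02 q12
  let A : Subgroup Γ := closure ({a, b, c} ∪ (σ.ker : Set Γ))
  have hle : (closure {σ a, σ b, σ c}).comap σ ≤ A := by
    intro x hx
    have hmap : closure {σ a, σ b, σ c} ≤ A.map σ := by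
      rw [closure_le]
      rintro _ (rfl | rfl | rfl) <;> exact mem_map_of_mem σ (subset_closure (Or.inl (by simp)))
    obtain ⟨y, hy, hyx⟩ := hmap hx
    have hker : y⁻¹ * x ∈ A := subset_closure (Or.inr (by simp [MonoidHom.mem_ker, hyx]))
    simpa using A.mul_mem hy hker
  have hcomm : ∀ x ∈ A, ∀ y ∈ A, x * y = y * x := by
    intro x hx y hy
    have hgen : ∀ p ∈ ({a, b, c} ∪ (σ.ker : Set Γ)), ∀ q ∈ ({a, b, c} ∪ (σ.ker : Set Γ)),
        p * q = q * p := by
      rintro p (hp | hp) q (hq | hq)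
      · simp only [Set.mem_insert_iff, Set.mem_singleton_iff] at hp hq
        rcases hp with rfl | rfl | rfl <;> rcases hq with rfl | rfl | rfl <;>
          first | rfl | assumption | exact q01.symm | exact q02.symm | exact q12.symm
      · exact Subgroup.mem_center_iff.mp (hc hq) p
      · exact (Subgroup.mem_center_iff.mp (hc hp) q).symm
      · exact Subgroup.mem_center_iff.mp (hc hq) p
    haveI := Subgroup.isMulCommutative_closure hgen
    exact setLike_mul_comm hx hy
  exact fun x hx y hy => commutatorElement_eq_one_iff_mul_comm.mpr (hcomm x (hle hx) y (hle hy))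

attribute [local irreducible] eightM npowM mul toMat pairMat

/-- One of the four elements. -/
noncomputable def eightE (k : Fin 4) : Spor.J1 := elt (eightI k)

theorem mat_eightE (k : Fin 4) : mat (eightE k) = toMat (eightM k) := by
  rw [eightE, mat_elt, eightM]

theorem good_eightM (k : Fin 4) : good (eightM k) = true := by
  rw [eightM]; exact good_pair _

theorem eightE_mul {k l m n : Fin 4} (h : mul (eightM k) (eightM l) = mul (eightM m) (eightM n)) :
    eightE k * eightE l = eightE m * eightE n := mat_injective (by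
  show mat (eightE k * eightE l : Spor.J1) = mat (eightE m * eightE n : Spor.J1)
  rw [mat_mul, mat_mul, mat_eightE, mat_eightE, mat_eightE, mat_eightE,
    ← toMat_mul (good_eightM k) (good_eightM l), h, toMat_mul (good_eightM m) (good_eightM n)])

theorem eightE_rel : eightE 0 * eightE 3 = eightE 1 * eightE 2 * eightE 0 := mat_injective (by
  show mat (eightE 0 * eightE 3 : Spor.J1) = mat (eightE 1 * eightE 2 * eightE 0 : Spor.J1)
  rw [mat_mul, mat_mul, mat_mul, mat_eightE, mat_eightE, mat_eightE, mat_eightE,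
    ← toMat_mul (good_eightM 0) (good_eightM 3), eight_valid.1.2.2,
    toMat_mul (good_mul (good_eightM 1) (good_eightM 2)) (good_eightM 0),
    toMat_mul (good_eightM 1) (good_eightM 2)])

theorem eightE_sq {k : Fin 4} (hk : k ≠ 0) : eightE k ^ 2 = 1 := mat_injective (by
  show mat (eightE k ^ 2 : Spor.J1) = mat (1 : Spor.J1)
  rw [sq, mat_mul, mat_eightE, ← toMat_mul (good_eightM k) (good_eightM k),
    (eight_valid.2.1 k hk).1, toMat_idm, mat_one])

/-- The elementary abelian subgroup of order eight. -/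
noncomputable def eightS : Subgroup Spor.J1 := closure {eightE 1, eightE 2, eightE 3}

theorem eight_dvd_card_eightS : 8 ∣ Nat.card eightS := by
  have hm : ∀ k : Fin 3, eightE k.succ ∈ eightS := fun k => by
    refine subset_closure ?_
    fin_cases k <;> simp
  refine eight_dvd_of_involutions (fun k => (⟨_, hm k⟩ : eightS)) (fun k => ?_) (fun k l => ?_) ?_
  · exact Subtype.ext (eightE_sq (Fin.succ_ne_zero k))
  · exact Subtype.ext (eightE_mul ((eight_valid.2.1 _ (Fin.succ_ne_zero k)).2 _ (Fin.succ_ne_zero l)))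
  intro a b c e
  refine eight_valid.2.2 a b c ?_
  have h0 : eightE 1 ^ a.val * (eightE 2 ^ b.val * eightE 3 ^ c.val) = 1 := congrArg Subtype.val e
  have h := congrArg (fun y : Spor.J1 => mat y) h0
  simp only [mat_mul, mat_pow, mat_eightE, mat_one] at h
  obtain ⟨g1, t1⟩ := toMat_npowM (good_eightM 1) a.val
  obtain ⟨g2, t2⟩ := toMat_npowM (good_eightM 2) b.val
  obtain ⟨g3, t3⟩ := toMat_npowM (good_eightM 3) c.val
  rw [eightProd, toMat_mul g1 (good_mul g2 g3), toMat_mul g2 g3, t1, t2, t3]
  exact h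

theorem index_eightS_odd : ¬ 2 ∣ eightS.index := by
  intro h
  have h16 := Nat.mul_dvd_mul eight_dvd_card_eightS h
  rw [Subgroup.card_mul_index, card_J1] at h16
  norm_num at h16

theorem multiplier_J1 : Cfsg.HasCyclicSchurMultiplier Spor.J1 1 := by
  refine Cfsg.Agent.Schur.hasCyclicSchurMultiplier_one_of_forall fun Γ _ _ σ hσ => ?_
  refine KnownSimple.ker_eq_bot_of_local σ hσ fun ℓ hℓ => ?_
  haveI := Fact.mk hℓ
  by_cases h2 : ℓ = 2
  · subst h2
    exact ⟨eightS, index_eightS_odd, KnownSimple.inf_commutator_eq_bot_of_comm σ _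
      (commutator_lifts_eq_one σ hσ.2.1 hσ.1 (eightE_mul eight_valid.1.1) (eightE_mul eight_valid.1.2.1)
        eightE_rel
        (eightE_mul ((eight_valid.2.1 1 (by decide)).2 2 (by decide)))
        (eightE_mul ((eight_valid.2.1 1 (by decide)).2 3 (by decide)))
        (eightE_mul ((eight_valid.2.1 2 (by decide)).2 3 (by decide))))⟩
  · obtain ⟨P⟩ : Nonempty (Sylow ℓ Spor.J1) := inferInstance
    have hP : IsCyclic (P : Subgroup Spor.J1) := by
      obtain ⟨n, hn⟩ := P.2.exists_card_eq
      rcases Nat.lt_or_ge n 2 with h | h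
      · interval_cases n
        · rw [pow_zero] at hn
          haveI : Subsingleton (P : Subgroup Spor.J1) := (Nat.card_eq_one_iff_unique.mp hn).1
          infer_instance
        · rw [pow_one] at hn
          exact isCyclic_of_prime_card hn
      · exfalso
        have hd : ℓ ^ 2 ∣ 175560 := (pow_dvd_pow ℓ h).trans (hn ▸ card_J1 ▸ card_subgroup_dvd_card _)
        have hl : ℓ ≤ 419 := by
          by_contra hgt
          push Not at hgt
          have := Nat.le_of_dvd (by norm_num) hd
          have : 420 ^ 2 ≤ ℓ ^ 2 := Nat.pow_le_pow_left hgt 2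
          omega
        have hfin : ∀ l : Fin 420, l.val ^ 2 ∣ 175560 → l.val ≤ 2 := by decide +kernel
        have := hfin ⟨ℓ, by omega⟩ hd
        have := hℓ.two_le
        simp only at *
        omega
    exact ⟨P, P.not_dvd_index, KnownSimple.inf_commutator_eq_bot_of_comm σ _ fun x hx y hy =>
      KnownSimple.comm_of_cyclic σ hσ.2.1 _ hσ.1 hx hy⟩

end Cfsg.Agent.Recog71.J1
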