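import Cfsg.Agent.Recog71.J1Tables

set_option autoImplicit false
set_option maxRecDepth 10000

/-!
The action of the generators of the first Janko group on the transversal.
-/

namespace Cfsg.Agent.Recog71.J1

theorem orbit_valid : ∀ i : Fin 1596, good (T i.val) = true ∧ ∀ g : Fin 2,
    mul (Gn g.val) (T i.val) = mul (T (nxt g.val i.val).val) (Hh (sch g.val i.val).val) := by
  decide +kernel

end Cfsg.Agent.Recog71.J1
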