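import Cfsg.Agent.Recog71.J1OrderTables

set_option autoImplicit false
set_option maxRecDepth 10000

/-!
The order and the simplicity of the first Janko group.
-/

namespace Cfsg.Agent.Recog71.J1

open Cfsg


theorem mat_injective : Function.Injective (fun x : Spor.J1 => mat x) :=
  fun _ _ h => Subtype.ext (Units.ext h)

theorem mat_mul (x y : Spor.J1) : mat (x * y : Spor.J1) = mat x * mat y := rfl

theorem mat_one : mat (1 : Spor.J1) = 1 := rfl

/-- The matrix of a pair. -/
def val (q : Fin 1596 × Fin 110) : Matrix (Fin 7) (Fin 7) (ZMod 11) :=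
  toMat (T q.1.val) * toMat (Hh q.2.val)

theorem val_eq (q : Fin 1596 × Fin 110) : toMat (pairMat q) = val q := by
  rw [pairMat, toMat_mul (good_T _) (good_sub _), val]

theorem good_pair (q : Fin 1596 × Fin 110) : good (pairMat q) = true :=
  good_mul (good_T _) (good_sub _)

theorem exists_pair (x : Spor.J1) : ∃ q, mat x = val q := by
  obtain ⟨i, a, h⟩ := InS_of_mem x.2
  exact ⟨(i, a), h⟩

instance : Finite Spor.J1 := inferInstance

theorem card_le : Nat.card Spor.J1 ≤ 175560 := by
  choose g hg using exists_pair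
  have := Nat.card_le_card_of_injective g fun x y h => mat_injective (by
    show mat x = mat y
    rw [hg, hg, h])
  simpa [Nat.card_eq_fintype_card] using this

theorem exists_invE (k : Fin 3) :
    good (invE k.val) = true ∧ ∃ x : Spor.J1, mat x = toMat (invE k.val) := by
  refine exists_word fun g hg => ?_
  have hk : wordE.getD k.val [] ∈ wordE := by fin_cases k <;> simp [wordE]
  exact wordE_lt _ hk g hg

theorem eight_dvd_of_involutions {G : Type*} [Group G] (x : Fin 3 → G) (hsq : ∀ k, x k ^ 2 = 1)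
    (hcm : ∀ k l, Commute (x k) (x l))
    (hfree : ∀ a b c : Fin 2, x 0 ^ a.val * (x 1 ^ b.val * x 2 ^ c.val) = 1 → a = 0 ∧ b = 0 ∧ c = 0) :
    8 ∣ Nat.card G := by
  let h : Fin 3 → (Multiplicative (ZMod 2) →* G) := fun k =>
    { toFun := fun e => x k ^ (Multiplicative.toAdd e).val
      map_one' := by simp
      map_mul' := fun e f => by
        rw [← pow_add, toAdd_mul, ZMod.val_add]
        exact (pow_eq_pow_mod _ (hsq k)).symm }
  have hc : ∀ k l a b, Commute (h k a) (h l b) := fun k l a b => (hcm k l).pow_pow _ _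
  let φ : Multiplicative (ZMod 2) × Multiplicative (ZMod 2) × Multiplicative (ZMod 2) →* G :=
    MonoidHom.noncommCoprod (h 0) (MonoidHom.noncommCoprod (h 1) (h 2) (hc 1 2))
      fun a q => (hc 0 1 a q.1).mul_right (hc 0 2 a q.2)
  have hinj : Function.Injective φ := by
    rw [injective_iff_map_eq_one]
    rintro ⟨a, b, c⟩ e
    obtain ⟨p, q, r⟩ := hfree (Multiplicative.toAdd a) (Multiplicative.toAdd b) (Multiplicative.toAdd c) e
    exact Prod.ext p (Prod.ext q r)
  have := Subgroup.card_dvd_of_injective φ hinj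
  simpa [Nat.card_prod, Nat.card_eq_fintype_card] using this

theorem mat_pow (x : Spor.J1) (n : ℕ) : mat (x ^ n : Spor.J1) = mat x ^ n := by
  induction n with
  | zero => rw [pow_zero, pow_zero]; rfl
  | succ n ih => rw [pow_succ, pow_succ, mat_mul, ih]

section

attribute [local irreducible] invE npowM word mul toMat prodE

theorem eight_dvd : 8 ∣ Nat.card Spor.J1 := by
  choose hgood x hx using exists_invE
  refine eight_dvd_of_involutions x (fun k => mat_injective ?_) (fun k l => mat_injective ?_) ?_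
  · show mat (x k ^ 2 : Spor.J1) = mat (1 : Spor.J1)
    rw [sq, mat_mul, hx, ← toMat_mul (hgood k) (hgood k), (invE_valid.1 k).1, toMat_idm, mat_one]
  · show mat (x k * x l : Spor.J1) = mat (x l * x k : Spor.J1)
    rw [mat_mul, mat_mul, hx, hx, ← toMat_mul (hgood k) (hgood l), (invE_valid.1 k).2 l,
      toMat_mul (hgood l) (hgood k)]
  intro a b c e
  have v0 : ((0 : Fin 3) : ℕ) = 0 := rfl
  have v1 : ((1 : Fin 3) : ℕ) = 1 := rfl
  have v2 : ((2 : Fin 3) : ℕ) = 2 := rfl
  obtain ⟨g0, t0⟩ := toMat_npowM (hgood 0) a.val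
  obtain ⟨g1, t1⟩ := toMat_npowM (hgood 1) b.val
  obtain ⟨g2, t2⟩ := toMat_npowM (hgood 2) c.val
  refine invE_valid.2 a b c ?_
  have e' := congrArg (fun y : Spor.J1 => mat y) e
  simp only [mat_mul, mat_pow, hx, mat_one] at e'
  rw [v0] at g0 t0 e'
  rw [v1] at g1 t1 e'
  rw [v2] at g2 t2 e'
  rw [prodE, toMat_mul (good_mul g0 g1) g2, toMat_mul g0 g1, t0, t1, t2, mul_assoc]
  exact e'

end

theorem eq_of_divisors {n : ℕ} (h8 : 8 ∣ n) (h3 : 3 ∣ n) (h5 : 5 ∣ n) (h7 : 7 ∣ n) (h11 : 11 ∣ n)
    (h19 : 19 ∣ n) (hle : n ≤ 175560) (hpos : 0 < n) : n = 175560 := by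
  have e1 := Nat.Coprime.mul_dvd_of_dvd_of_dvd (by norm_num) h8 h3
  have e2 := Nat.Coprime.mul_dvd_of_dvd_of_dvd (by norm_num) e1 h5
  have e3 := Nat.Coprime.mul_dvd_of_dvd_of_dvd (by norm_num) e2 h7
  have e4 := Nat.Coprime.mul_dvd_of_dvd_of_dvd (by norm_num) e3 h11
  have e5 := Nat.Coprime.mul_dvd_of_dvd_of_dvd (by norm_num) e4 h19
  exact le_antisymm hle (Nat.le_of_dvd hpos (by norm_num at e5 ⊢; exact e5))

theorem card_J1 : Nat.card Spor.J1 = 175560 := by
  refine eq_of_divisors eight_dvd ?_ ?_ ?_ ?_ ?_ card_le Nat.card_pos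
  · obtain ⟨x, hx⟩ := exists_orderOf (n := 3) (by decide)
    exact hx.symm.dvd.trans (orderOf_dvd_natCard x)
  · obtain ⟨x, hx⟩ := exists_orderOf (n := 5) (by decide)
    exact hx.symm.dvd.trans (orderOf_dvd_natCard x)
  · obtain ⟨x, hx⟩ := exists_orderOf (n := 7) (by decide)
    exact hx.symm.dvd.trans (orderOf_dvd_natCard x)
  · obtain ⟨x, hx⟩ := exists_orderOf (n := 11) (by decide)
    exact hx.symm.dvd.trans (orderOf_dvd_natCard x)
  · obtain ⟨x, hx⟩ := exists_orderOf (n := 19) (by decide)
    exact hx.symm.dvd.trans (orderOf_dvd_natCard x)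

/-- Every pair gives exactly one element. -/
theorem exists_equiv : ∃ e : Spor.J1 ≃ Fin 1596 × Fin 110, ∀ x : Spor.J1, mat x = val (e x) := by
  choose g hg using exists_pair
  have hinj : Function.Injective g := fun x y h => mat_injective (by
    show mat x = mat y
    rw [hg, hg, h])
  exact ⟨Equiv.ofBijective g (hinj.bijective_of_nat_card_le (by
    rw [card_J1]; simp [Nat.card_eq_fintype_card])), hg⟩

/-- The element of a pair. -/
noncomputable def elt (q : Fin 1596 × Fin 110) : Spor.J1 := exists_equiv.choose.symm q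

theorem mat_elt (q : Fin 1596 × Fin 110) : mat (elt q) = toMat (pairMat q) := by
  rw [val_eq, exists_equiv.choose_spec (elt q), elt, Equiv.apply_symm_apply]

theorem exists_elt (x : Spor.J1) : ∃ q, x = elt q :=
  ⟨exists_equiv.choose x, (Equiv.symm_apply_apply _ x).symm⟩

theorem val_injective : Function.Injective val := by
  intro p q h
  have : elt p = elt q := mat_injective (by
    show mat (elt p) = mat (elt q)
    rw [mat_elt, mat_elt, val_eq, val_eq, h])
  exact exists_equiv.choose.symm.injective this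

end Cfsg.Agent.Recog71.J1
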