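import Cfsg.Agent.Recog71.J1Spectrum
import Cfsg.Agent.Recog71.J1InvolData

set_option autoImplicit false
set_option maxRecDepth 100000

/-!
Kernel checks for the order of the first Janko group and for an involution centralizer.
-/

namespace Cfsg.Agent.Recog71.J1

theorem mul_eq_of_toMat {A B C D : ℕ} (hA : good A = true) (hB : good B = true) (hC : good C = true)
    (hD : good D = true) (h : toMat (mul A B) = toMat (mul C D)) : mul A B = mul C D := by
  have hrow : ∀ A B k, k < 7 → row (mul A B) k = force (rawRow A B k) reduceRow := by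
    intro A B k hk
    refine row_packRows _ (fun j _ => ?_) k hk
    rw [force_eq]
    exact pack7_lt _ fun i _ => lt_trans (Nat.mod_lt _ (by norm_num)) (by norm_num)
  have he : ∀ k < 7, ∀ l < 7, entry (mul A B) k l = entry (mul C D) k l := by
    intro k hk l hl
    have h1 := congrFun (congrFun h ⟨k, hk⟩) ⟨l, hl⟩
    simp only [toMat, Matrix.of_apply] at h1
    rw [ZMod.natCast_eq_natCast_iff', Nat.mod_eq_of_lt (good_iff.mp (good_mul hA hB) k hk l hl),
      Nat.mod_eq_of_lt (good_iff.mp (good_mul hC hD) k hk l hl)] at h1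
    exact h1
  have hk : ∀ k < 7, force (rawRow A B k) reduceRow = force (rawRow C D k) reduceRow := by
    intro k hk
    rw [← hrow A B k hk, ← hrow C D k hk, ← pack7_slot _ (row_lt (mul A B) k),
      ← pack7_slot _ (row_lt (mul C D) k)]
    have h' := he k hk
    simp only [entry] at h'
    simp only [pack7, h' 0 (by norm_num), h' 1 (by norm_num), h' 2 (by norm_num), h' 3 (by norm_num),
      h' 4 (by norm_num), h' 5 (by norm_num), h' 6 (by norm_num)]
  simp only [mul, packRows, hk 0 (by norm_num), hk 1 (by norm_num), hk 2 (by norm_num),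
    hk 3 (by norm_num), hk 4 (by norm_num), hk 5 (by norm_num), hk 6 (by norm_num)]

/-- One of three commuting involutions, as a packed matrix. -/
def invE (k : ℕ) : ℕ := word (wordE.getD k [])

/-- A product of powers of the three involutions. -/
def prodE (a b c : Fin 2) : ℕ :=
  mul (mul (npowM (invE 0) a.val) (npowM (invE 1) b.val)) (npowM (invE 2) c.val)

theorem wordE_lt : ∀ w ∈ wordE, ∀ g ∈ w, g < 2 := by decide +kernel

theorem invE_valid : (∀ k : Fin 3, mul (invE k.val) (invE k.val) = idm ∧
      ∀ l : Fin 3, mul (invE k.val) (invE l.val) = mul (invE l.val) (invE k.val)) ∧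
    ∀ a b c : Fin 2, toMat (prodE a b c) = 1 → a = 0 ∧ b = 0 ∧ c = 0 := by
  decide +kernel

/-- The involution in the subgroup. -/
def invH : Fin 110 := Fin.ofNat 110 invIdx

/-- The image of a coset under the involution. -/
def piI (i : ℕ) : Fin 1596 := Fin.ofNat 1596 (pick invNextTab 11 i)

/-- The subgroup element for the action of the involution. -/
def scI (i : ℕ) : Fin 110 := Fin.ofNat 110 (pick invSchTab 7 i)

/-- A fixed coset. -/
def fixI (k : Fin 12) : Fin 1596 := Fin.ofNat 1596 (pick fixTab 11 k.val)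

/-- The position of a fixed coset. -/
def fixPos (i : Fin 1596) : Fin 12 := Fin.ofNat 12 (pick fixPosTab 4 i.val)

/-- The pair of a centralizer element. -/
def centI (j : Fin 120) : Fin 1596 × Fin 110 :=
  (Fin.ofNat 1596 (pick centTab 18 j.val / 110), Fin.ofNat 110 (pick centTab 18 j.val % 110))

/-- The position of a pair. -/
def centPos (k : Fin 12) (a : Fin 110) : Fin 120 :=
  Fin.ofNat 120 (pick centPosTab 7 (k.val * 110 + a.val))

/-- The packed matrix of a pair. -/
def pairMat (q : Fin 1596 × Fin 110) : ℕ := mul (T q.1.val) (Hh q.2.val)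

theorem invAct_valid : ∀ i : Fin 1596,
    mul (Hh invH.val) (T i.val) = mul (T (piI i.val).val) (Hh (scI i.val).val) ∧
    (piI i.val = i → fixI (fixPos i) = i) := by
  decide +kernel

theorem cent_valid : ∀ (k : Fin 12) (a : Fin 110),
    mul (Hh invH.val) (pairMat (fixI k, a)) = mul (pairMat (fixI k, a)) (Hh invH.val) →
      centI (centPos k a) = (fixI k, a) := by
  decide +kernel

/-- The pair of the image of a permutation. -/
def altI (σ : Equiv.Perm (Fin 5)) : Fin 1596 × Fin 110 :=
  let c := pick altTab 18 (25 * (σ 0).val + 5 * (σ 1).val + (σ 2).val)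
  (Fin.ofNat 1596 (c / 110), Fin.ofNat 110 (c % 110))

theorem alt_valid : ∀ σ : Equiv.Perm (Fin 5), Equiv.Perm.sign σ = 1 →
    mul (Hh invH.val) (pairMat (altI σ)) = mul (pairMat (altI σ)) (Hh invH.val) ∧
    (∀ e : Fin 2, toMat (mul (npowM (Hh invH.val) e.val) (pairMat (altI σ))) = 1 → e = 0 ∧ σ = 1) ∧
    ∀ τ : Equiv.Perm (Fin 5), Equiv.Perm.sign τ = 1 →
      mul (pairMat (altI σ)) (pairMat (altI τ)) = pairMat (altI (σ * τ)) := by
  decide +kernel

theorem invH_valid : mul (Hh invH.val) (Hh invH.val) = idm ∧ toMat (Hh invH.val) ≠ 1 ∧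
    (mul (Gn 0) (mul (Gn 1) (Gn 1)) = word [0, 1, 1]) := by
  decide +kernel

end Cfsg.Agent.Recog71.J1
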