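import Cfsg.Agent.Recog71.J1Tables

set_option autoImplicit false
set_option maxRecDepth 10000

/-!
The exponents of the elements in the double coset representatives of the first Janko group.
-/

namespace Cfsg.Agent.Recog71.J1

theorem order_valid : ∀ (r : Fin 19) (d : Fin 110),
    powIdx (force (mul (T (rep r).val) (Hh d.val)) id) (ordIdx r d) = idm := by
  decide +kernel

end Cfsg.Agent.Recog71.J1
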