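import Cfsg.Agent.Recog71.J1Orbit
import Cfsg.Agent.Recog71.J1Double
import Cfsg.Agent.Recog71.J1Orders

set_option autoImplicit false
set_option maxRecDepth 10000

/-!
The element orders of the first Janko group: `1, 2, 3, 5, 6, 7, 10, 11, 15, 19`.
-/

namespace Cfsg.Agent.Recog71.J1

open Cfsg

/-- The element orders. -/
def omega : List ℕ := [1, 2, 3, 5, 6, 7, 10, 11, 15, 19]

/-- The inclusion into matrices. -/
def mat (x : GL (Fin 7) (ZMod 11)) : Matrix (Fin 7) (Fin 7) (ZMod 11) := x

/-- The products of a transversal element and a subgroup element. -/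
def InS (M : Matrix (Fin 7) (Fin 7) (ZMod 11)) : Prop :=
  ∃ (i : Fin 1596) (a : Fin 110), M = toMat (T i.val) * toMat (Hh a.val)

theorem good_sub (a : Fin 110) : good (Hh a.val) = true := (sub_valid.2 a).1

theorem good_T (i : Fin 1596) : good (T i.val) = true := (orbit_valid i).1

theorem sub_mul (a c : Fin 110) : ∃ e : Fin 110, toMat (Hh a.val) * toMat (Hh c.val) = toMat (Hh e.val) := by
  induction ha : a.val using Nat.strong_induction_on generalizing a with
  | _ n IH =>
  subst ha
  by_cases h0 : a.val = 0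
  · exact ⟨c, by rw [h0, sub_valid.1, toMat_idm, one_mul]⟩
  · obtain ⟨hlt, he⟩ := (sub_valid.2 a).2.2.2 h0
    obtain ⟨e, h⟩ := IH _ hlt (parI a) rfl
    obtain ⟨hgs, hm⟩ := (sub_valid.2 e).2.2.1 (parS a)
    exact ⟨hnx (parS a).val e, by rw [he, toMat_mul hgs (good_sub _), mul_assoc, h,
      ← toMat_mul hgs (good_sub _), hm]⟩

theorem sub_inv (a : Fin 110) : toMat (Hh a.val) * toMat (Hh (hinv a).val) = 1 := by
  rw [← toMat_mul (good_sub _) (good_sub _), (sub_valid.2 a).2.1, toMat_idm]

theorem gen_mul_InS (g : Fin 2) {M : Matrix (Fin 7) (Fin 7) (ZMod 11)} (h : InS M) :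
    InS (toMat (Gn g.val) * M) := by
  obtain ⟨i, a, rfl⟩ := h
  obtain ⟨e, he⟩ := sub_mul (sch g.val i.val) a
  have hg : good (Gn g.val) = true := gen_valid.1 ⟨g.val, g.isLt.trans (by norm_num)⟩
  refine ⟨nxt g.val i.val, e, ?_⟩
  rw [← mul_assoc, ← toMat_mul hg (good_T i), (orbit_valid i).2 g,
    toMat_mul (good_T _) (good_sub _), mul_assoc, he]

theorem InS_of_mem {x : GL (Fin 7) (ZMod 11)} (hx : x ∈ Spor.J1) : InS (mat x) := by
  have key : ∀ x ∈ Spor.J1, ∀ M, InS M → InS (mat x * M) := by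
    intro x hx
    induction hx using Subgroup.closure_induction with
    | one => intro M hM; rw [show mat 1 = 1 from rfl, one_mul]; exact hM
    | mul a b _ _ ha hb =>
      intro M hM
      rw [show mat (a * b) = mat a * mat b from rfl, mul_assoc]
      exact ha _ (hb M hM)
    | mem a ha =>
      intro M hM
      rcases ha with rfl | rfl
      · rw [show mat Spor.jankoX = toMat (Gn ((0 : Fin 2).val)) from gen_valid.2.1.symm]
        exact gen_mul_InS 0 hM
      · rw [show mat Spor.jankoY = toMat (Gn ((1 : Fin 2).val)) from gen_valid.2.2.1.symm]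
        exact gen_mul_InS 1 hM
    | inv a _ ha =>
      intro M hM
      have hpow : ∀ n : ℕ, ∀ M, InS M → InS (mat (a ^ n) * M) := by
        intro n
        induction n with
        | zero => intro M hM; rw [pow_zero, show mat 1 = 1 from rfl, one_mul]; exact hM
        | succ n ih =>
          intro M hM
          rw [pow_succ, show mat (a ^ n * a) = mat (a ^ n) * mat a from rfl, mul_assoc]
          exact ih _ (ha M hM)
      obtain ⟨n, hn⟩ := ((isOfFinOrder_of_finite a).mem_powers_iff_mem_zpowers).mpr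
        (Subgroup.inv_mem _ (Subgroup.mem_zpowers a))
      rw [← show a ^ n = a⁻¹ from hn]
      exact hpow n M hM
  have h := key x hx 1 ⟨0, 0, by simp [T_zero, sub_valid.1, toMat_idm]⟩
  rwa [mul_one] at h

theorem pow_conj {R : Type*} [Monoid R] {g h X : R} (e : g * h = h * X) (n : ℕ) :
    g ^ n * h = h * X ^ n := by
  induction n with
  | zero => simp
  | succ n ih => rw [pow_succ', mul_assoc, ih, ← mul_assoc, e, mul_assoc, ← pow_succ']

theorem orderOf_dvd (x : Spor.J1) : ∃ e : ℕ, orderOf x ∣ expOf e := by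
  obtain ⟨i, a, hx⟩ := InS_of_mem x.2
  set r := dcr i with hr
  set b := dcl i with hb
  obtain ⟨d₁, hd₁⟩ := sub_mul (dcx i) a
  obtain ⟨d, hd⟩ := sub_mul d₁ b
  have hT : toMat (T i.val) = toMat (Hh b.val) * (toMat (T (rep r).val) * toMat (Hh (dcx i).val)) := by
    rw [← toMat_mul (good_T _) (good_sub _), ← toMat_mul (good_sub _) (good_mul (good_T _) (good_sub _)),
      double_valid i]
  have hconj : mat x * toMat (Hh b.val) = toMat (Hh b.val) * (toMat (T (rep r).val) * toMat (Hh d.val)) := by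
    rw [hx, hT, ← hd, ← hd₁]
    simp only [mul_assoc]
  refine ⟨ordIdx r d, orderOf_dvd_of_pow_eq_one ?_⟩
  have hX : (toMat (T (rep r).val) * toMat (Hh d.val)) ^ expOf (ordIdx r d) = 1 := by
    have h := order_valid r d
    rw [force_eq, id] at h
    rw [← toMat_mul (good_T _) (good_sub _), ← toMat_powIdx (good_mul (good_T _) (good_sub _)), h,
      toMat_idm]
  have h := pow_conj hconj (expOf (ordIdx r d))
  rw [hX, mul_one] at h
  have h1 := congrArg (fun M => M * toMat (Hh (hinv b).val)) h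
  simp only [mul_assoc, sub_inv, mul_one] at h1
  exact Subtype.ext (Units.ext (by rw [Subgroup.coe_pow, Units.val_pow_eq_pow_val]; exact h1))

theorem orderOf_mem (x : Spor.J1) : orderOf x ∈ omega := by
  obtain ⟨e, he⟩ := orderOf_dvd x
  have key : ∀ e : ℕ, expOf e = 6 ∨ expOf e = 7 ∨ expOf e = 10 ∨ expOf e = 11 ∨ expOf e = 15 ∨ expOf e = 19
    | 0 => by simp [expOf]
    | 1 => by simp [expOf]
    | 2 => by simp [expOf]
    | 3 => by simp [expOf]
    | 4 => by simp [expOf]
    | n + 5 => by simp [expOf]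
  have hsub : ∀ n ∈ [6, 7, 10, 11, 15, 19], ∀ d ∈ Nat.divisors n, d ∈ omega := by decide +kernel
  have hm : expOf e ∈ [6, 7, 10, 11, 15, 19] := by
    rcases key e with h | h | h | h | h | h <;> simp [h]
  exact hsub _ hm _ (Nat.mem_divisors.mpr ⟨he, by rcases key e with h | h | h | h | h | h <;> omega⟩)

/-- The packed product of a word in the generators. -/
def word : List ℕ → ℕ
  | [] => idm
  | g :: w => force (word w) fun P => mul (Gn g) P

/-- Powers of a packed matrix. -/
def npowM (P : ℕ) : ℕ → ℕ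
  | 0 => idm
  | n + 1 => force (npowM P n) fun Q => mul Q P

/-- Words for elements of the six maximal orders. -/
def witnesses : List (List ℕ × ℕ) :=
  [([0, 1, 1, 1], 6), ([0], 7), ([0, 1], 10), ([0, 1, 1], 11), ([0, 0, 1, 1, 0, 1, 0, 1, 1], 15),
    ([0, 0, 0, 1], 19)]

theorem witness_valid : ∀ w ∈ witnesses, (∀ g ∈ w.1, g < 2) ∧ npowM (word w.1) w.2 = idm ∧
    ∀ m : Fin w.2, 0 < m.val → toMat (npowM (word w.1) m.val) ≠ 1 := by
  decide +kernel

theorem exists_word {w : List ℕ} (hw : ∀ g ∈ w, g < 2) :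
    good (word w) = true ∧ ∃ x : Spor.J1, mat x = toMat (word w) := by
  induction w with
  | nil => exact ⟨good_idm, 1, toMat_idm.symm⟩
  | cons g w ih =>
    have hg := hw g List.mem_cons_self
    obtain ⟨hgood, x, hx⟩ := ih fun g' h => hw g' (List.mem_cons_of_mem _ h)
    have hgg : good (Gn g) = true := gen_valid.1 ⟨g, hg.trans (by norm_num)⟩
    refine ⟨?_, ?_⟩
    · rw [word, force_eq]; exact good_mul hgg hgood
    · obtain ⟨y, hy⟩ : ∃ y : Spor.J1, mat y = toMat (Gn g) := by
        rcases Nat.lt_succ_iff_lt_or_eq.mp hg with h | h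
        · obtain rfl : g = 0 := by omega
          exact ⟨⟨Spor.jankoX, Subgroup.subset_closure (Or.inl rfl)⟩, gen_valid.2.1.symm⟩
        · subst h
          exact ⟨⟨Spor.jankoY, Subgroup.subset_closure (Or.inr rfl)⟩, gen_valid.2.2.1.symm⟩
      refine ⟨y * x, ?_⟩
      rw [word, force_eq, toMat_mul hgg hgood, ← hx, ← hy]
      rfl

theorem toMat_npowM {P : ℕ} (hP : good P = true) (n : ℕ) :
    good (npowM P n) = true ∧ toMat (npowM P n) = toMat P ^ n := by
  induction n with
  | zero => exact ⟨good_idm, by rw [pow_zero]; exact toMat_idm⟩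
  | succ n ih =>
    rw [npowM, force_eq]
    exact ⟨good_mul ih.1 hP, by rw [toMat_mul ih.1 hP, ih.2, pow_succ]⟩

theorem exists_orderOf {n : ℕ} (hn : n ∈ omega) : ∃ x : Spor.J1, orderOf x = n := by
  have hwit : ∀ w ∈ witnesses, ∃ x : Spor.J1, orderOf x = w.2 := by
    intro w hw
    obtain ⟨hg, h1, h2⟩ := witness_valid w hw
    obtain ⟨hgood, x, hx⟩ := exists_word hg
    have hpow : ∀ m : ℕ, mat (x ^ m : Spor.J1) = toMat (npowM (word w.1) m) := fun m => by
      rw [(toMat_npowM hgood m).2, ← hx]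
      simp [mat]
    refine ⟨x, (orderOf_eq_iff ?_).mpr ⟨?_, fun m hm hm0 e => h2 ⟨m, hm⟩ hm0 ?_⟩⟩
    · simp only [witnesses, List.mem_cons, List.not_mem_nil, or_false] at hw
      rcases hw with rfl | rfl | rfl | rfl | rfl | rfl <;> norm_num
    · exact Subtype.ext (Units.ext ((hpow w.2).trans (by rw [h1, toMat_idm]; rfl)))
    · show toMat (npowM (word w.1) m) = 1
      rw [← hpow, e]; rfl
  have hcov : ∀ n ∈ omega, ∃ w ∈ witnesses, n ∣ w.2 := by decide +kernel
  obtain ⟨w, hw, hdvd⟩ := hcov n hn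
  obtain ⟨x, hx⟩ := hwit w hw
  obtain ⟨c, hc⟩ := hdvd
  refine ⟨x ^ c, ?_⟩
  have hc0 : c ≠ 0 := by
    rintro rfl
    rw [mul_zero] at hc
    exact (orderOf_pos x).ne' (hx.trans hc)
  rw [orderOf_pow' x hc0, hx, hc, Nat.gcd_mul_left_left, Nat.mul_div_cancel _ (Nat.pos_of_ne_zero hc0)]

/-- The element orders of the first Janko group. -/
theorem range_orderOf : Set.range (orderOf : Spor.J1 → ℕ) = {n | n ∈ omega} := by
  ext n
  constructor
  · rintro ⟨x, rfl⟩; exact orderOf_mem x
  · exact exists_orderOf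

end Cfsg.Agent.Recog71.J1
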