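import Cfsg.Prelude.Def_Spor_J1
import Cfsg.Agent.Recog71.J1Arith
import Cfsg.Agent.Recog71.J1Data

set_option autoImplicit false
set_option maxRecDepth 10000

/-!
The tables for the first Janko group and the small checks.
-/

namespace Cfsg.Agent.Recog71.J1

/-- Read the `i`-th entry of width `w`. -/
def pick (t w i : ℕ) : ℕ := (t >>> (i * w)) % 2 ^ w

/-- A transversal element. -/
def T (i : ℕ) : ℕ := pick (transChunks.getD (i / 64) 0) 490 (i % 64)

/-- An element of the subgroup. -/
def Hh (a : ℕ) : ℕ := pick subTab 490 a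

/-- A generator or an inverse of a generator. -/
def Gn (g : ℕ) : ℕ := pick genTab 490 g

/-- A generator of the subgroup. -/
def Sg (s : ℕ) : ℕ := pick subGenTab 490 s

/-- The image of a coset. -/
def nxt (g i : ℕ) : Fin 1596 := Fin.ofNat 1596 (pick nextTab 11 (g * 1596 + i))

/-- The Schreier element. -/
def sch (g i : ℕ) : Fin 110 := Fin.ofNat 110 (pick schTab 7 (g * 1596 + i))

/-- Multiplication by a generator of the subgroup. -/
def hnx (s : ℕ) (a : Fin 110) : Fin 110 := Fin.ofNat 110 (pick subNextTab 7 (s * 110 + a.val))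

/-- The parent generator in the subgroup. -/
def parS (a : Fin 110) : Fin 2 := Fin.ofNat 2 (pick subParGen 1 a.val)

/-- The parent in the subgroup. -/
def parI (a : Fin 110) : Fin 110 := Fin.ofNat 110 (pick subParIdx 7 a.val)

/-- The inverse in the subgroup. -/
def hinv (a : Fin 110) : Fin 110 := Fin.ofNat 110 (pick subInvTab 7 a.val)

/-- A double coset representative. -/
def rep (r : Fin 19) : Fin 1596 := Fin.ofNat 1596 (pick repTab 11 r.val)

/-- The double coset of a coset. -/
def dcr (i : Fin 1596) : Fin 19 := Fin.ofNat 19 (pick dcRep 5 i.val)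

/-- The left factor. -/
def dcl (i : Fin 1596) : Fin 110 := Fin.ofNat 110 (pick dcLeft 7 i.val)

/-- The right factor. -/
def dcx (i : Fin 1596) : Fin 110 := Fin.ofNat 110 (pick dcRight 7 i.val)

/-- The exponent index. -/
def ordIdx (r : Fin 19) (d : Fin 110) : ℕ := pick ordTab 3 (r.val * 110 + d.val)

theorem gen_valid : (∀ g : Fin 4, good (Gn g.val) = true) ∧
    toMat (Gn 0) = Cfsg.jankoMatrixX ∧ toMat (Gn 1) = Cfsg.jankoMatrixY ∧
    toMat (Gn 2) = Cfsg.jankoMatrixX.transpose ∧ toMat (Gn 3) = Cfsg.jankoMatrixY.transpose := by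
  decide +kernel

theorem sub_valid : Hh 0 = idm ∧ ∀ a : Fin 110, good (Hh a.val) = true ∧
    mul (Hh a.val) (Hh (hinv a).val) = idm ∧
    (∀ s : Fin 2, good (Sg s.val) = true ∧ mul (Sg s.val) (Hh a.val) = Hh (hnx s.val a).val) ∧
    (a.val ≠ 0 → (parI a).val < a.val ∧ Hh a.val = mul (Sg (parS a).val) (Hh (parI a).val)) := by
  decide +kernel

theorem T_zero : T 0 = idm := by decide +kernel

end Cfsg.Agent.Recog71.J1
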