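import Mathlib

set_option autoImplicit false

namespace Cfsg.Agent.Recog71

open MulAction
open scoped Pointwise

variable {G Ω : Type*} [Group G] [MulAction G Ω]

/-- In a quasiprimitive group a Jordan set is contained in no proper block. -/
theorem not_subset_block (hqp : ∀ N : Subgroup G, N.Normal → N ≠ ⊥ → IsPretransitive ↥N Ω)
    (Γ : Set Ω) (g : G) (hg : g ≠ 1) (hfix : ∀ x ∉ Γ, g • x = x)
    (B : Set Ω) (hB : IsBlock G B) (hne : B ≠ Set.univ) (hΓ : Γ ⊆ B)
    (hBn : B.Nonempty) (hgB : g • B = B) : False := by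
  let N : Subgroup G :=
    { carrier := {x | ∀ h : G, x • (h • B) = h • B}
      one_mem' := fun h => one_smul _ _
      mul_mem' := fun {x y} hx hy h => by rw [mul_smul, hy, hx]
      inv_mem' := fun {x} hx h => by rw [inv_smul_eq_iff, hx] }
  have hN : N.Normal := ⟨fun x hx k h => by
    rw [mul_smul, mul_smul, ← mul_smul k⁻¹ h, hx (k⁻¹ * h), ← mul_smul, mul_inv_cancel_left]⟩
  have hgN : g ∈ N := by
    intro h
    rcases eq_or_ne (h • B) B with e | e
    · rw [e, hgB]
    · have hd : Disjoint (h • B) B := (isBlock_iff_smul_eq_or_disjoint.mp hB h).resolve_left e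
      ext x
      constructor
      · rintro ⟨y, hy, rfl⟩
        have hyΓ : y ∉ Γ := fun hh => Set.disjoint_left.mp hd hy (hΓ hh)
        simpa [hfix y hyΓ] using hy
      · intro hx
        have hxΓ : x ∉ Γ := fun hh => Set.disjoint_left.mp hd hx (hΓ hh)
        exact ⟨x, hx, hfix x hxΓ⟩
  have htr := hqp N hN (fun e => hg (by rw [e] at hgN; simpa using hgN))
  apply hne
  obtain ⟨x, hx⟩ := hBn
  ext y
  simp only [Set.mem_univ, iff_true]
  obtain ⟨n, rfl⟩ := exists_smul_eq ↥N x y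
  have := n.2 1
  rw [one_smul] at this
  rw [← this]
  exact Set.smul_mem_smul_set hx

/-- Every Jordan set is contained in a block containing a moved and a fixed point, unless
it is a union of blocks. -/
theorem subset_block_of_mixed (Γ : Set Ω)
    (htr : ∀ x ∈ Γ, ∀ y ∈ Γ, ∃ g : G, (∀ z ∉ Γ, g • z = z) ∧ g • x = y)
    (B : Set Ω) (hB : IsBlock G B) {x δ : Ω} (hx : x ∈ B) (hxΓ : x ∈ Γ) (hδ : δ ∈ B)
    (hδΓ : δ ∉ Γ) : Γ ⊆ B := by
  intro y hy
  obtain ⟨g, hg, rfl⟩ := htr x hxΓ y hy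
  have : g • B = B := hB.smul_eq_of_nonempty ⟨δ, ⟨δ, hδ, hg δ hδΓ⟩, hδ⟩
  rw [← this]
  exact Set.smul_mem_smul_set hx

theorem isPretransitive_of_quasiprimitive [FaithfulSMul G Ω]
    (hqp : ∀ N : Subgroup G, N.Normal → N ≠ ⊥ → IsPretransitive ↥N Ω)
    (h : ∃ g : G, g ≠ 1) : IsPretransitive G Ω := by
  obtain ⟨g, hg⟩ := h
  have := hqp ⊤ inferInstance (fun e => hg (by
    have : g ∈ (⊤ : Subgroup G) := trivial
    rw [e] at this; simpa using this))
  constructor
  intro x y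
  obtain ⟨k, hk⟩ := exists_smul_eq ↥(⊤ : Subgroup G) x y
  exact ⟨k, hk⟩

theorem exists_fixing_of_pretransitive (Γ : Set Ω)
    (hJ : IsPretransitive ↥(fixingSubgroup G Γᶜ) ↥(SubMulAction.ofFixingSubgroup G Γᶜ)) :
    ∀ x ∈ Γ, ∀ y ∈ Γ, ∃ g : G, (∀ z ∉ Γ, g • z = z) ∧ g • x = y := by
  intro x hx y hy
  have hx' : x ∈ SubMulAction.ofFixingSubgroup G Γᶜ := by
    rw [SubMulAction.mem_ofFixingSubgroup_iff]; simpa
  have hy' : y ∈ SubMulAction.ofFixingSubgroup G Γᶜ := by
    rw [SubMulAction.mem_ofFixingSubgroup_iff]; simpa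
  obtain ⟨g, hg⟩ := exists_smul_eq ↥(fixingSubgroup G Γᶜ)
    (⟨x, hx'⟩ : ↥(SubMulAction.ofFixingSubgroup G Γᶜ)) ⟨y, hy'⟩
  refine ⟨g, fun z hz => ?_, congrArg Subtype.val hg⟩
  exact (mem_fixingSubgroup_iff G).mp g.2 z (by simpa using hz)

/-- A quasiprimitive group with a primitive Jordan set is primitive. -/
theorem isPreprimitive_of_primitive_jordan_set [FaithfulSMul G Ω]
    (hqp : ∀ N : Subgroup G, N.Normal → N ≠ ⊥ → IsPretransitive ↥N Ω)
    (Γ : Set Ω) (hΓ : Γ.Nontrivial)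
    (hJp : IsPreprimitive ↥(fixingSubgroup G Γᶜ) ↥(SubMulAction.ofFixingSubgroup G Γᶜ)) :
    IsPreprimitive G Ω := by
  have htr := exists_fixing_of_pretransitive Γ hJp.toIsPretransitive
  obtain ⟨γ, hγ, γ', hγ', hne⟩ := hΓ
  obtain ⟨g, hgf, hgγ⟩ := htr γ hγ γ' hγ'
  have hg1 : g ≠ 1 := fun e => hne (by simpa [e] using hgγ)
  haveI := isPretransitive_of_quasiprimitive hqp ⟨g, hg1⟩
  refine IsPreprimitive.of_isTrivialBlock_base γ ?_
  intro B hγB hB
  rw [IsTrivialBlock, or_iff_not_imp_left]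
  intro hns
  by_contra hne_univ
  rw [Set.not_subsingleton_iff] at hns
  have hΓB : Γ ⊆ B := by
    obtain ⟨z, hz, hzγ⟩ := hns.exists_ne γ
    by_cases hzΓ : z ∈ Γ
    · -- the trace of B is a block with two points
      let S := SubMulAction.ofFixingSubgroup G Γᶜ
      have hblock : IsBlock ↥(fixingSubgroup G Γᶜ) ((↑) ⁻¹' B : Set ↥S) := by
        rw [isBlock_iff_smul_eq_or_disjoint]
        intro k
        rcases isBlock_iff_smul_eq_or_disjoint.mp hB (k : G) with e | e
        · left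
          ext w
          rw [Set.mem_smul_set_iff_inv_smul_mem]
          simp only [Set.mem_preimage, SetLike.val_smul]
          conv_rhs => rw [← e]
          rw [Set.mem_smul_set_iff_inv_smul_mem]
          rfl
        · right
          rw [Set.disjoint_left]
          intro w hw hw'
          rw [Set.mem_smul_set_iff_inv_smul_mem] at hw
          simp only [Set.mem_preimage, SetLike.val_smul] at hw hw'
          refine Set.disjoint_left.mp e ?_ hw'
          rw [Set.mem_smul_set_iff_inv_smul_mem]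
          exact hw
      have hmem : ∀ w ∈ Γ, w ∈ S := fun w hw => by
        rw [SubMulAction.mem_ofFixingSubgroup_iff]; simpa
      rcases hJp.isTrivialBlock_of_isBlock hblock with h | h
      · exact absurd (congrArg Subtype.val
          (h (show (⟨z, hmem z hzΓ⟩ : ↥S) ∈ _ from hz)
            (show (⟨γ, hmem γ hγ⟩ : ↥S) ∈ _ from hγB))) hzγ
      · intro w hw
        have : (⟨w, hmem w hw⟩ : ↥S) ∈ ((↑) ⁻¹' B : Set ↥S) := h ▸ Set.mem_univ _
        exact this
    · exact subset_block_of_mixed Γ htr B hB hγB hγ hz hzΓ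
  refine not_subset_block hqp Γ g hg1 hgf B hB hne_univ hΓB ⟨γ, hγB⟩ ?_
  exact hB.smul_eq_of_nonempty ⟨γ', ⟨γ, hγB, hgγ⟩, hΓB hγ'⟩

end Cfsg.Agent.Recog71
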