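import Mathlib
import Cfsg.Agent.Recog71.Bochert

set_option autoImplicit false

/-!
Marggraff's theorem: a primitive group with a small Jordan set contains the alternating group,
and one with a Jordan set of at most half of the points is triply transitive.
The proof counts translates of the Jordan set containing / avoiding small sets of points.
-/

namespace Cfsg.Agent.Recog71.SmallJordan

open MulAction

variable {G Ω : Type*} [Group G] [MulAction G Ω]

/-- The pointwise stabiliser of the complement is transitive. -/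
def IsJordan (G : Type*) {Ω : Type*} [Group G] [MulAction G Ω] (U : Finset Ω) : Prop :=
  ∀ x ∈ U, ∀ y ∈ U, ∃ g : G, (∀ z ∉ U, g • z = z) ∧ g • x = y

theorem IsJordan.union [DecidableEq Ω] {U V : Finset Ω} (hU : IsJordan G U) (hV : IsJordan G V)
    (h : (U ∩ V).Nonempty) : IsJordan G (U ∪ V) := by
  obtain ⟨c, hc⟩ := h
  rw [Finset.mem_inter] at hc
  have step : ∀ x ∈ U ∪ V, ∃ g : G, (∀ z ∉ U ∪ V, g • z = z) ∧ g • x = c := by
    intro x hx
    rcases Finset.mem_union.mp hx with hx | hx
    · obtain ⟨g, hg, hgc⟩ := hU x hx c hc.1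
      exact ⟨g, fun z hz => hg z fun h => hz (Finset.mem_union_left _ h), hgc⟩
    · obtain ⟨g, hg, hgc⟩ := hV x hx c hc.2
      exact ⟨g, fun z hz => hg z fun h => hz (Finset.mem_union_right _ h), hgc⟩
  intro x hx y hy
  obtain ⟨g, hg, hgx⟩ := step x hx
  obtain ⟨k, hk, hky⟩ := step y hy
  refine ⟨k⁻¹ * g, fun z hz => ?_, by rw [mul_smul, hgx, ← hky, inv_smul_smul]⟩
  rw [mul_smul, hg z hz, inv_smul_eq_iff, hk z hz]

theorem IsJordan.image [DecidableEq Ω] {U : Finset Ω} (hU : IsJordan G U) (k : G) :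
    IsJordan G (U.image (k • ·)) := by
  intro x hx y hy
  obtain ⟨a, ha, rfl⟩ := Finset.mem_image.mp hx
  obtain ⟨b, hb, rfl⟩ := Finset.mem_image.mp hy
  obtain ⟨g, hg, hgab⟩ := hU a ha b hb
  refine ⟨k * g * k⁻¹, fun z hz => ?_, by simp [mul_smul, hgab]⟩
  rw [mul_smul, mul_smul, hg _ fun h => hz (Finset.mem_image.mpr ⟨_, h, smul_inv_smul k z⟩),
    smul_inv_smul]

/-- Multiply transitive groups realise every injection of a small set. -/
theorem exists_smul_eq_on [Fintype Ω] {J : ℕ} (hJ : IsMultiplyPretransitive G Ω J)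
    (hJn : J ≤ Fintype.card Ω) (E : Finset Ω) (hE : E.card ≤ J) (f : Ω → Ω)
    (hf : Set.InjOn f E) : ∃ g : G, ∀ x ∈ E, g • x = f x := by
  have h : IsMultiplyPretransitive G Ω E.card :=
    isMultiplyPretransitive_of_le (n := J) hE (by rw [Nat.card_eq_fintype_card]; exact hJn)
  rw [isMultiplyPretransitive_iff] at h
  let e : Fin E.card ↪ Ω := E.equivFin.symm.toEmbedding.trans (Function.Embedding.subtype _)
  let e' : Fin E.card ↪ Ω := ⟨fun i => f (e i), fun i j hij =>
    e.injective (hf (E.equivFin.symm i).2 (E.equivFin.symm j).2 hij)⟩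
  obtain ⟨g, hg⟩ := h e e'
  refine ⟨g, fun x hx => ?_⟩
  have := congrArg (fun k : Fin E.card ↪ Ω => k (E.equivFin ⟨x, hx⟩)) hg
  simpa [e, e'] using this

/-- Increasing transitivity by a transitive fixing subgroup. -/
theorem multiplyPretransitive_succ [Fintype Ω] [DecidableEq Ω] {j : ℕ}
    (hj : IsMultiplyPretransitive G Ω j) (hjn : j + 1 ≤ Fintype.card Ω) (D : Finset Ω)
    (hD : D.card = j) (hU : IsJordan G Dᶜ) : IsMultiplyPretransitive G Ω (j + 1) := by
  rw [isMultiplyPretransitive_iff] at hj ⊢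
  let e : Fin j ↪ Ω :=
    (D.equivFinOfCardEq hD).symm.toEmbedding.trans (Function.Embedding.subtype _)
  have key : ∀ x : Fin (j + 1) ↪ Ω, ∃ g : G,
      (∀ i : Fin j, g • x i.castSucc = e i) ∧ g • x (Fin.last j) ∈ Dᶜ := by
    intro x
    obtain ⟨g, hg⟩ := hj (Fin.castSuccEmb.trans x) e
    have hg' : ∀ i : Fin j, g • x i.castSucc = e i := fun i =>
      congrArg (fun k : Fin j ↪ Ω => k i) hg
    refine ⟨g, hg', Finset.mem_compl.mpr fun hmem => ?_⟩
    have h1 : e (D.equivFinOfCardEq hD ⟨_, hmem⟩) = g • x (Fin.last j) := by simp [e]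
    rw [← hg'] at h1
    exact (Fin.castSucc_lt_last _).ne (x.injective (MulAction.injective g h1))
  intro x y
  obtain ⟨g, hg, hgl⟩ := key x
  obtain ⟨h, hh, hhl⟩ := key y
  obtain ⟨k, hk, hkl⟩ := hU _ hgl _ hhl
  have hke : ∀ i : Fin j, k • e i = e i := fun i =>
    hk _ (by simp only [Finset.mem_compl, not_not]; exact ((D.equivFinOfCardEq hD).symm i).2)
  refine ⟨h⁻¹ * k * g, ?_⟩
  ext i
  simp only [Function.Embedding.smul_apply, mul_smul, inv_smul_eq_iff]
  induction i using Fin.lastCases with
  | last => exact hkl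
  | cast i => rw [hg, hke, hh]

section counting

variable (G) [Fintype Ω] [DecidableEq Ω]

open Classical in
/-- The translates of a set. -/
noncomputable def translates (Γ : Finset Ω) : Finset (Finset Ω) :=
  Finset.univ.filter fun B => ∃ g : G, Γ.image (g • ·) = B

/-- Translates containing `S` and avoiding `T`. -/
noncomputable def cnt (Γ : Finset Ω) (S T : Finset Ω) : ℕ :=
  ((translates G Γ).filter fun B => S ⊆ B ∧ Disjoint T B).card

variable {G}

theorem mem_translates {Γ B : Finset Ω} :
    B ∈ translates G Γ ↔ ∃ g : G, Γ.image (g • ·) = B := by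
  simp [translates]

theorem card_of_mem_translates {Γ B : Finset Ω} (h : B ∈ translates G Γ) : B.card = Γ.card := by
  obtain ⟨g, rfl⟩ := mem_translates.mp h
  exact Finset.card_image_of_injective _ (MulAction.injective g)

theorem image_mem_translates {Γ B : Finset Ω} (h : B ∈ translates G Γ) (k : G) :
    B.image (k • ·) ∈ translates G Γ := by
  obtain ⟨g, rfl⟩ := mem_translates.mp h
  exact mem_translates.mpr ⟨k * g, by simp [Finset.image_image, Function.comp_def, mul_smul]⟩

theorem cnt_smul (Γ S T : Finset Ω) (g : G) :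
    cnt G Γ (S.image (g • ·)) (T.image (g • ·)) = cnt G Γ S T := by
  have hinv : ∀ (k : G) (A : Finset Ω), (A.image (k • ·)).image (k⁻¹ • ·) = A := fun k A => by
    simp [Finset.image_image, Function.comp_def]
  refine Finset.card_bij' (fun B _ => B.image (g⁻¹ • ·)) (fun B _ => B.image (g • ·))
    (fun B hB => ?_) (fun B hB => ?_) (fun B _ => ?_) (fun B _ => hinv g B)
  · simp only [Finset.mem_filter] at hB ⊢
    refine ⟨image_mem_translates hB.1 _, ?_, ?_⟩
    · simpa [hinv] using Finset.image_subset_image (f := (g⁻¹ • · : Ω → Ω)) hB.2.1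
    · have := (Finset.disjoint_image (f := (g⁻¹ • · : Ω → Ω)) (MulAction.injective _)).mpr hB.2.2
      rwa [hinv] at this
  · simp only [Finset.mem_filter] at hB ⊢
    exact ⟨image_mem_translates hB.1 _, Finset.image_subset_image hB.2.1,
      (Finset.disjoint_image (MulAction.injective g)).mpr hB.2.2⟩
  · have := hinv g⁻¹ B
    rwa [inv_inv] at this

theorem cnt_const {J : ℕ} (hJ : IsMultiplyPretransitive G Ω J) (hJn : J ≤ Fintype.card Ω)
    (Γ : Finset Ω) {S T S' T' : Finset Ω} (hST : Disjoint S T) (hST' : Disjoint S' T')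
    (hS : S.card = S'.card) (hT : T.card = T'.card) (hle : S.card + T.card ≤ J) :
    cnt G Γ S T = cnt G Γ S' T' := by
  classical
  let eS := Finset.equivOfCardEq hS
  let eT := Finset.equivOfCardEq hT
  let f : Ω → Ω := fun x =>
    if hx : x ∈ S then (eS ⟨x, hx⟩ : Ω) else if hx' : x ∈ T then (eT ⟨x, hx'⟩ : Ω) else x
  have hfS : S.image f = S' := by
    refine Finset.eq_of_subset_of_card_le ?_ ?_
    · intro y hy
      obtain ⟨x, hx, rfl⟩ := Finset.mem_image.mp hy
      simp only [f, hx, dite_true]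
      exact (eS ⟨x, hx⟩).2
    · rw [Finset.card_image_of_injOn, hS]
      intro x hx y hy h
      simp only [f, Finset.mem_coe.mp hx, Finset.mem_coe.mp hy, dite_true] at h
      exact congrArg Subtype.val (eS.injective (Subtype.ext h))
  have hfT : T.image f = T' := by
    refine Finset.eq_of_subset_of_card_le ?_ ?_
    · intro y hy
      obtain ⟨x, hx, rfl⟩ := Finset.mem_image.mp hy
      simp only [f, Finset.disjoint_right.mp hST hx, hx, dite_true, dite_false]
      exact (eT ⟨x, hx⟩).2
    · rw [Finset.card_image_of_injOn, hT]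
      intro x hx y hy h
      simp only [f, Finset.disjoint_right.mp hST (Finset.mem_coe.mp hx),
        Finset.disjoint_right.mp hST (Finset.mem_coe.mp hy), Finset.mem_coe.mp hx,
        Finset.mem_coe.mp hy, dite_true, dite_false] at h
      exact congrArg Subtype.val (eT.injective (Subtype.ext h))
  have hinj : Set.InjOn f (S ∪ T : Finset Ω) := by
    rw [← Finset.card_image_iff, Finset.image_union, hfS, hfT,
      Finset.card_union_of_disjoint hST', Finset.card_union_of_disjoint hST, hS, hT]
  obtain ⟨g, hg⟩ := exists_smul_eq_on hJ hJn (S ∪ T)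
    ((Finset.card_union_le S T).trans hle) f hinj
  rw [← cnt_smul Γ S T g]
  congr 1
  · rw [← hfS]
    exact Finset.image_congr fun x hx => hg x (Finset.mem_union_left _ hx)
  · rw [← hfT]
    exact Finset.image_congr fun x hx => hg x (Finset.mem_union_right _ hx)

theorem cnt_split (Γ S T : Finset Ω) (x : Ω) :
    cnt G Γ (insert x S) T + cnt G Γ S (insert x T) = cnt G Γ S T := by
  rw [cnt, cnt, cnt, ← Finset.card_union_of_disjoint]
  · congr 1
    ext B
    simp only [Finset.mem_union, Finset.mem_filter, Finset.insert_subset_iff,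
      Finset.disjoint_insert_left]
    tauto
  · rw [Finset.disjoint_filter]
    intro B _ h1 h2
    exact (Finset.disjoint_insert_left.mp h2.2).1 (h1.1 (Finset.mem_insert_self _ _))

theorem sum_cnt_insert_left (Γ S T : Finset Ω) :
    ∑ x ∈ (S ∪ T)ᶜ, cnt G Γ (insert x S) T = (Γ.card - S.card) * cnt G Γ S T := by
  simp only [cnt, Finset.card_filter, Finset.mul_sum]
  rw [Finset.sum_comm]
  refine Finset.sum_congr rfl fun B hB => ?_
  by_cases h : S ⊆ B ∧ Disjoint T B
  · rw [if_pos h, mul_one, ← Finset.card_filter, ← card_of_mem_translates hB,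
      ← Finset.card_sdiff_of_subset h.1]
    congr 1
    ext x
    simp only [Finset.mem_filter, Finset.mem_compl, Finset.mem_union, Finset.mem_sdiff,
      Finset.insert_subset_iff]
    constructor
    · intro hx; exact ⟨hx.2.1.1, fun hxS => hx.1 (Or.inl hxS)⟩
    · intro hx
      exact ⟨fun hh => hh.elim hx.2 fun hxT => Finset.disjoint_left.mp h.2 hxT hx.1,
        ⟨hx.1, h.1⟩, h.2⟩
  · rw [if_neg h, mul_zero]
    refine Finset.sum_eq_zero fun x _ => if_neg fun hh => h ⟨?_, hh.2⟩
    exact (Finset.subset_insert x S).trans hh.1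

theorem sum_cnt_insert_right (Γ S T : Finset Ω) :
    (∑ x ∈ (S ∪ T)ᶜ, cnt G Γ S (insert x T)) + (Γ.card - S.card) * cnt G Γ S T =
      (S ∪ T)ᶜ.card * cnt G Γ S T := by
  rw [← sum_cnt_insert_left, ← Finset.sum_add_distrib, Finset.card_eq_sum_ones, Finset.sum_mul]
  refine Finset.sum_congr rfl fun x _ => ?_
  rw [add_comm, cnt_split, one_mul]

theorem cnt_diff {j : ℕ} (hj : IsMultiplyPretransitive G Ω j) (hjn : j ≤ Fintype.card Ω)
    (Γ : Finset Ω) : ∀ (t : ℕ) (S T S' T' : Finset Ω), T.card = t → T'.card = t →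
      S.card = S'.card → S.card + t = j + 1 → Disjoint S T → Disjoint S' T' →
      (cnt G Γ S T : ℤ) - cnt G Γ S' T' =
        (-1) ^ t * ((cnt G Γ (S ∪ T) ∅ : ℤ) - cnt G Γ (S' ∪ T') ∅)
  | 0, S, T, S', T', hT, hT', _, _, _, _ => by
    simp [Finset.card_eq_zero.mp hT, Finset.card_eq_zero.mp hT']
  | t + 1, S, T, S', T', hT, hT', hS, hsum, hd, hd' => by
    obtain ⟨x, T₀, hx, rfl, hT₀⟩ := Finset.card_eq_succ.mp hT
    obtain ⟨x', T₀', hx', rfl, hT₀'⟩ := Finset.card_eq_succ.mp hT'
    rw [Finset.disjoint_insert_right] at hd hd'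
    have e1 := cnt_split (G := G) Γ S T₀ x
    have e2 := cnt_split (G := G) Γ S' T₀' x'
    have e3 := cnt_const hj hjn Γ hd.2 hd'.2 hS (hT₀.trans hT₀'.symm) (by omega)
    have ih := cnt_diff hj hjn Γ t (insert x S) T₀ (insert x' S') T₀' hT₀ hT₀'
      (by rw [Finset.card_insert_of_notMem hd.1, Finset.card_insert_of_notMem hd'.1, hS])
      (by rw [Finset.card_insert_of_notMem hd.1]; omega)
      (Finset.disjoint_insert_left.mpr ⟨hx, hd.2⟩) (Finset.disjoint_insert_left.mpr ⟨hx', hd'.2⟩)
    rw [Finset.insert_union, Finset.insert_union] at ih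
    rw [Finset.union_insert, Finset.union_insert, pow_succ]
    have e1' : (cnt G Γ S (insert x T₀) : ℤ) = cnt G Γ S T₀ - cnt G Γ (insert x S) T₀ := by omega
    have e2' : (cnt G Γ S' (insert x' T₀') : ℤ) = cnt G Γ S' T₀' - cnt G Γ (insert x' S') T₀' := by
      omega
    rw [e1', e2', e3]
    linear_combination (-1 : ℤ) * ih

theorem cnt_avoid_pos {J : ℕ} (hJ : IsMultiplyPretransitive G Ω J) (hJn : J ≤ Fintype.card Ω)
    (Γ T : Finset Ω) (hT : T.card ≤ J) (hT' : T.card + Γ.card ≤ Fintype.card Ω) :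
    0 < cnt G Γ ∅ T := by
  obtain ⟨T', hT'', hc⟩ := Finset.exists_subset_card_eq
    (show T.card ≤ Γᶜ.card by rw [Finset.card_compl]; omega)
  rw [cnt_const hJ hJn Γ (S' := ∅) (T' := T') (by simp) (by simp) rfl hc.symm (by simpa using hT)]
  refine Finset.card_pos.mpr ⟨Γ, Finset.mem_filter.mpr
    ⟨mem_translates.mpr ⟨1, by simp⟩, by simp, ?_⟩⟩
  exact Finset.disjoint_left.mpr fun x hx => Finset.mem_compl.mp (hT'' hx)

/-- Strict comparison between avoided and contained sets. -/
theorem cnt_ratio {J : ℕ} (hJ : IsMultiplyPretransitive G Ω J) (hJn : J ≤ Fintype.card Ω)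
    (Γ : Finset Ω) (hm : 0 < Γ.card) (hlt : 2 * Γ.card < Fintype.card Ω)
    (hJm : J + Γ.card ≤ Fintype.card Ω) :
    ∀ j (D : Finset Ω), D.card = j → 1 ≤ j → j ≤ J →
      (Fintype.card Ω - Γ.card) * cnt G Γ D ∅ ≤ Γ.card * cnt G Γ ∅ D ∧
      (2 ≤ j → (Fintype.card Ω - Γ.card) * cnt G Γ D ∅ < Γ.card * cnt G Γ ∅ D)
  | 0, _, _, h, _ => by omega
  | j + 1, D', hD', _, hle => by
    obtain ⟨x, D, hx, rfl, hD⟩ := Finset.card_eq_succ.mp hD'
    have hcomp : Dᶜ.card = Fintype.card Ω - j := by rw [Finset.card_compl, hD]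
    have eN := sum_cnt_insert_left (G := G) Γ D ∅
    have eA := sum_cnt_insert_right (G := G) Γ ∅ D
    simp only [Finset.union_empty, Finset.empty_union, Finset.card_empty, Nat.sub_zero] at eN eA
    have cN : ∀ y ∈ Dᶜ, cnt G Γ (insert y D) ∅ = cnt G Γ (insert x D) ∅ := fun y hy => by
      rw [Finset.mem_compl] at hy
      exact cnt_const hJ hJn Γ (by simp) (by simp)
        (by rw [Finset.card_insert_of_notMem hy, Finset.card_insert_of_notMem hx]) rfl
        (by rw [Finset.card_insert_of_notMem hy]; simp; omega)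
    have cA : ∀ y ∈ Dᶜ, cnt G Γ ∅ (insert y D) = cnt G Γ ∅ (insert x D) := fun y hy => by
      rw [Finset.mem_compl] at hy
      exact cnt_const hJ hJn Γ (by simp) (by simp) rfl
        (by rw [Finset.card_insert_of_notMem hy, Finset.card_insert_of_notMem hx])
        (by rw [Finset.card_insert_of_notMem hy]; simp; omega)
    rw [Finset.sum_congr rfl cN, Finset.sum_const, smul_eq_mul, hcomp, hD] at eN
    rw [Finset.sum_congr rfl cA, Finset.sum_const, smul_eq_mul, hcomp] at eA
    have hApos : 0 < cnt G Γ ∅ (insert x D) := cnt_avoid_pos hJ hJn Γ _ (by omega) (by omega)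
    set n := Fintype.card Ω
    set m := Γ.card
    set N' := cnt G Γ (insert x D) ∅
    set A' := cnt G Γ ∅ (insert x D)
    set N := cnt G Γ D ∅
    set A := cnt G Γ ∅ D
    have eA' : (n - j) * A' = (n - m - j) * A := by
      have h2 : n - j = (n - m - j) + m := by omega
      nlinarith [eA, h2]
    rcases Nat.eq_zero_or_pos j with rfl | hj
    · refine ⟨?_, by omega⟩
      have hNA : N = A := by
        simp only [N, A, Finset.card_eq_zero.mp hD]
      simp only [Nat.sub_zero] at eA' eN
      have hn : 0 < n := by omega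
      refine Nat.le_of_mul_le_mul_left ?_ hn
      calc n * ((n - m) * N') = (n - m) * (n * N') := by ring
        _ = (n - m) * (m * N) := by rw [eN]
        _ = m * ((n - m) * A) := by rw [hNA]; ring
        _ = m * (n * A') := by rw [eA']
        _ = n * (m * A') := by ring
        _ ≤ _ := le_rfl
    · obtain ⟨ih, -⟩ := cnt_ratio hJ hJn Γ hm hlt hJm j D hD hj (by omega)
      have hnj : 0 < n - j := by omega
      have key : (n - m) * N' < m * A' := by
        refine Nat.lt_of_mul_lt_mul_left (a := n - j) ?_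
        calc (n - j) * ((n - m) * N') = (n - m) * ((n - j) * N') := by ring
          _ = (n - m) * ((m - j) * N) := by rw [eN]
          _ = (m - j) * ((n - m) * N) := by ring
          _ < (n - m - j) * (m * A) := by
            rcases Nat.eq_zero_or_pos N with hN | hN
            · rw [hN, mul_zero, mul_zero]
              have h0 : 0 < (n - m - j) * A := by rw [← eA']; exact Nat.mul_pos hnj hApos
              have h1 := Nat.mul_pos h0 hm
              rw [mul_assoc, mul_comm A] at h1
              exact h1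
            · calc (m - j) * ((n - m) * N) < (n - m - j) * ((n - m) * N) := by
                    refine Nat.mul_lt_mul_of_pos_right ?_ (Nat.mul_pos (by omega) hN)
                    omega
                _ ≤ (n - m - j) * (m * A) := Nat.mul_le_mul_left _ ih
          _ = (n - j) * (m * A') := by
            calc (n - m - j) * (m * A) = m * ((n - m - j) * A) := by ring
              _ = m * ((n - j) * A') := by rw [eA']
              _ = (n - j) * (m * A') := by ring
      exact ⟨key.le, fun _ => key⟩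

/-- A point outside an avoided set lies in some translate avoiding it. -/
theorem exists_cover {j : ℕ} (hj : IsMultiplyPretransitive G Ω j) (hjn : j ≤ Fintype.card Ω)
    (Γ D : Finset Ω) (hD : D.card = j) (w : Ω) (hw : w ∉ D)
    (hhalf : 2 * Γ.card ≤ Fintype.card Ω)
    (hineq : (Fintype.card Ω - Γ.card) * cnt G Γ D ∅ < Γ.card * cnt G Γ ∅ D ∨
      (Even j ∧ (Γ.card - j) * cnt G Γ D ∅ < Γ.card * cnt G Γ ∅ D)) :
    0 < cnt G Γ {w} D := by
  by_contra h0
  have h0' : cnt G Γ {w} D = 0 := by omega
  set n := Fintype.card Ω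
  set m := Γ.card
  set A := cnt G Γ ∅ D
  set N := cnt G Γ D ∅
  have eA := sum_cnt_insert_left (G := G) Γ ∅ D
  simp only [Finset.empty_union, Finset.card_empty, Nat.sub_zero, insert_empty_eq] at eA
  have eN := sum_cnt_insert_left (G := G) Γ D ∅
  simp only [Finset.union_empty] at eN
  have hdiff : ∀ y ∈ Dᶜ, (cnt G Γ {y} D : ℤ) =
      (-1) ^ (j + 1) * ((cnt G Γ (insert w D) ∅ : ℤ) - cnt G Γ (insert y D) ∅) := by
    intro y hy
    rw [Finset.mem_compl] at hy
    have h1 := cnt_split (G := G) Γ ∅ D y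
    have h2 := cnt_split (G := G) Γ ∅ D w
    have h3 := cnt_diff hj hjn Γ (j + 1) ∅ (insert w D) ∅ (insert y D)
      (by rw [Finset.card_insert_of_notMem hw, hD]) (by rw [Finset.card_insert_of_notMem hy, hD])
      rfl (by simp) (by simp) (by simp)
    simp only [Finset.empty_union] at h3
    simp only [insert_empty_eq] at h1 h2
    omega
  have hsum : (m : ℤ) * A = (-1) ^ (j + 1) *
      ((Dᶜ.card : ℤ) * cnt G Γ (insert w D) ∅ - ((m - j : ℕ) : ℤ) * N) := by
    have : ((∑ y ∈ Dᶜ, cnt G Γ {y} D : ℕ) : ℤ) = ∑ y ∈ Dᶜ, (-1 : ℤ) ^ (j + 1) *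
        ((cnt G Γ (insert w D) ∅ : ℤ) - cnt G Γ (insert y D) ∅) := by
      push_cast
      exact Finset.sum_congr rfl hdiff
    rw [eA, ← Finset.mul_sum, Finset.sum_sub_distrib, Finset.sum_const, nsmul_eq_mul] at this
    have eN' : (∑ y ∈ Dᶜ, (cnt G Γ (insert y D) ∅ : ℤ)) = ((m - j : ℕ) : ℤ) * N := by
      rw [← Nat.cast_sum, eN, hD]; push_cast; rfl
    rw [eN'] at this
    exact_mod_cast this
  have hNle : cnt G Γ (insert w D) ∅ ≤ N := by
    have := cnt_split (G := G) Γ D ∅ w
    omega
  have hc : Dᶜ.card = n - j := by rw [Finset.card_compl, hD]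
  rcases Nat.even_or_odd j with hev | hodd
  · rw [Odd.neg_one_pow hev.add_one, hc] at hsum
    have hlt : (m - j) * N < m * A := by
      rcases hineq with h | ⟨-, h⟩
      · exact lt_of_le_of_lt (Nat.mul_le_mul_right _ (show m - j ≤ n - m by omega)) h
      · exact h
    have hlt' : ((m - j : ℕ) : ℤ) * N < (m : ℤ) * A := by exact_mod_cast hlt
    have : (0 : ℤ) ≤ ((n - j : ℕ) : ℤ) * cnt G Γ (insert w D) ∅ := by positivity
    nlinarith
  · rw [Even.neg_one_pow hodd.add_one, one_mul, hc] at hsum
    rcases hineq with h | ⟨h, -⟩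
    · have h' : ((n - m : ℕ) : ℤ) * N < (m : ℤ) * A := by exact_mod_cast h
      rcases Nat.eq_zero_or_pos N with hN | hN
      · rw [hN] at hNle hsum h'
        have hz : cnt G Γ (insert w D) ∅ = 0 := by omega
        rw [hz] at hsum
        push_cast at hsum h'
        linarith
      · have hjm : j ≤ m := by
          obtain ⟨B, hB⟩ := Finset.card_pos.mp hN
          simp only [Finset.mem_filter] at hB
          calc j = D.card := hD.symm
            _ ≤ B.card := Finset.card_le_card hB.2.1
            _ = m := card_of_mem_translates hB.1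
        have hmn : Γ.card ≤ n := Finset.card_le_univ Γ
        have h2 : ((n - j : ℕ) : ℤ) = ((n - m : ℕ) : ℤ) + ((m - j : ℕ) : ℤ) := by omega
        have h3 : ((n - j : ℕ) : ℤ) * cnt G Γ (insert w D) ∅ ≤ ((n - j : ℕ) : ℤ) * N := by
          exact mul_le_mul_of_nonneg_left (by exact_mod_cast hNle) (by positivity)
        nlinarith
    · exact absurd h (Nat.not_even_iff_odd.mpr hodd)

theorem translate_jordan {Γ B : Finset Ω} (hΓ : IsJordan G Γ) (hB : B ∈ translates G Γ) :
    IsJordan G B := by
  obtain ⟨g, rfl⟩ := mem_translates.mp hB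
  exact hΓ.image g

/-- Two disjoint large sets cannot absorb all translates avoiding `D`. -/
theorem not_separated {j : ℕ} (hj : IsMultiplyPretransitive G Ω j) (hj2 : 2 ≤ j)
    (hjn : j ≤ Fintype.card Ω) (Γ D U : Finset Ω) (hD : D.card = j) (hm : 2 ≤ Γ.card)
    (hUD : Disjoint U D) (hUm : Γ.card ≤ U.card) (hWm : Γ.card ≤ (U ∪ D)ᶜ.card)
    (hsep : ∀ B ∈ translates G Γ, Disjoint D B → B ⊆ U ∨ Disjoint U B) : False := by
  classical
  obtain ⟨a, ha, b, hb, hab⟩ := Finset.one_lt_card.mp (show 1 < D.card by omega)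
  set D' := (D.erase a).erase b with hD'def
  have hbD : b ∈ D.erase a := Finset.mem_erase.mpr ⟨hab.symm, hb⟩
  have hDD' : D = insert a (insert b D') := by
    rw [hD'def, Finset.insert_erase hbD, Finset.insert_erase ha]
  have haD' : a ∉ D' := by simp [hD'def]
  have hbD' : b ∉ D' := by simp [hD'def]
  have hD'c : D'.card + 2 = j := by
    rw [← hD, hDD', Finset.card_insert_of_notMem (by simp [hab, haD']),
      Finset.card_insert_of_notMem hbD']
  set n := Fintype.card Ω
  set m := Γ.card
  set W := (U ∪ D)ᶜ with hW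
  have hUW : U.card + W.card + j = n := by
    rw [hW, Finset.card_compl, Finset.card_union_of_disjoint hUD, hD]
    have := Finset.card_le_univ (U ∪ D)
    rw [Finset.card_union_of_disjoint hUD, hD] at this
    omega
  set v := n - D'.card with hv
  set lam := cnt G Γ {a, b} D'
  set r := cnt G Γ {a} D'
  have hpair : ∀ x y, x ≠ y → x ∉ D' → y ∉ D' → cnt G Γ {x, y} D' = lam := fun x y hxy hx hy =>
    cnt_const hj hjn Γ (by simp [hx, hy]) (by simp [haD', hbD'])
      (by rw [Finset.card_pair hxy, Finset.card_pair hab]) rfl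
      (by rw [Finset.card_pair hxy]; omega)
  -- r (m - 1) = lam (v - 1)
  have hr : (m - 1) * r = (v - 1) * lam := by
    have h := sum_cnt_insert_left (G := G) Γ {a} D'
    rw [Finset.card_singleton] at h
    rw [← h, Finset.sum_congr rfl (g := fun _ => lam) (fun x hx => by
      simp only [Finset.mem_compl, Finset.mem_union, Finset.mem_singleton, not_or] at hx
      exact hpair x a hx.1 hx.2 haD')]
    rw [Finset.sum_const, smul_eq_mul, Finset.card_compl,
      Finset.card_union_of_disjoint (Finset.disjoint_singleton_left.mpr haD'), Finset.card_singleton]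
    congr 1
    omega
  -- double count
  let P := (translates G Γ).filter fun B => Disjoint D' B
  have hLHS : ∑ B ∈ P, (B ∩ U).card * (B ∩ W).card = U.card * W.card * lam := by
    have h1 : ∀ B, (B ∩ U).card * (B ∩ W).card =
        ∑ p ∈ U ×ˢ W, if p.1 ∈ B ∧ p.2 ∈ B then 1 else 0 := by
      intro B
      rw [← Finset.card_product, ← Finset.card_filter]
      congr 1
      ext p
      simp only [Finset.mem_product, Finset.mem_inter, Finset.mem_filter]
      tauto
    simp_rw [h1]
    rw [Finset.sum_comm, Finset.sum_congr rfl (g := fun _ => lam)]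
    · simp [Finset.sum_const, Finset.card_product]
    · intro p hp
      rw [Finset.mem_product, hW, Finset.mem_compl, Finset.mem_union, not_or] at hp
      have hp1 : p.1 ∉ D' := fun h => Finset.disjoint_left.mp hUD hp.1 (by rw [hDD']; simp [h])
      have hp2 : p.2 ∉ D' := fun h => hp.2.2 (by rw [hDD']; simp [h])
      rw [← Finset.card_filter, ← hpair p.1 p.2 (fun e => hp.2.1 (e ▸ hp.1)) hp1 hp2]
      rw [cnt, Finset.filter_filter]
      congr 1
      ext B
      simp only [Finset.mem_filter, Finset.insert_subset_iff, Finset.singleton_subset_iff]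
      tauto
  have hbound : ∀ B ∈ P, 4 * ((B ∩ U).card * (B ∩ W).card) ≤
      (m - 1) ^ 2 * ((if a ∈ B ∧ b ∉ B then 1 else 0) + (if b ∈ B ∧ a ∉ B then 1 else 0)) +
        (m - 2) ^ 2 * (if a ∈ B ∧ b ∈ B then 1 else 0) := by
    intro B hB
    simp only [P, Finset.mem_filter] at hB
    have hdis : Disjoint (B ∩ U) (B ∩ W) := Finset.disjoint_left.mpr fun x h1 h2 => by
      simp only [hW, Finset.mem_inter, Finset.mem_compl, Finset.mem_union, not_or] at h1 h2
      exact h2.2.1 h1.2
    have hsum : (B ∩ U).card + (B ∩ W).card + (B ∩ D).card ≤ m := by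
      rw [← Finset.card_union_of_disjoint hdis, ← Finset.card_union_of_disjoint, ← show B.card = m from card_of_mem_translates hB.1]
      · exact Finset.card_le_card (by intro x; simp; tauto)
      · refine Finset.disjoint_left.mpr fun x h1 h2 => ?_
        simp only [hW, Finset.mem_inter, Finset.mem_compl, Finset.mem_union, not_or] at h1 h2
        rcases h1 with h1 | h1
        · exact Finset.disjoint_left.mp hUD h1.2 h2.2
        · exact h1.2.2 h2.2
    have hDB : (B ∩ D).card = (if a ∈ B then 1 else 0) + (if b ∈ B then 1 else 0) := by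
      have : B ∩ D = B ∩ {a, b} := by
        ext x
        simp only [Finset.mem_inter, Finset.mem_insert, Finset.mem_singleton]
        rw [hDD']
        simp only [Finset.mem_insert]
        refine and_congr_right fun hx => ?_
        have : x ∉ D' := fun h => Finset.disjoint_left.mp hB.2 h hx
        tauto
      rw [this]
      by_cases h1 : a ∈ B <;> by_cases h2 : b ∈ B <;> simp [h1, h2, hab, Finset.inter_insert_of_mem,
        Finset.inter_insert_of_notMem, Finset.inter_singleton_of_mem,
        Finset.inter_singleton_of_notMem]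
    have amgm : 4 * ((B ∩ U).card * (B ∩ W).card) ≤ ((B ∩ U).card + (B ∩ W).card) ^ 2 := by
      have := four_mul_le_sq_add ((B ∩ U).card : ℤ) ((B ∩ W).card : ℤ)
      have h2 : ((4 * ((B ∩ U).card * (B ∩ W).card) : ℕ) : ℤ) ≤
          ((((B ∩ U).card + (B ∩ W).card) ^ 2 : ℕ) : ℤ) := by push_cast; linarith
      exact_mod_cast h2
    by_cases h1 : a ∈ B <;> by_cases h2 : b ∈ B <;>
      simp only [h1, h2, not_true_eq_false, not_false_eq_true, and_self, and_false, false_and,
        and_true, if_true, if_false, mul_zero, mul_one, add_zero, zero_add] at hDB ⊢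
    · exact amgm.trans (Nat.pow_le_pow_left (by omega) 2)
    · exact amgm.trans (Nat.pow_le_pow_left (by omega) 2)
    · exact amgm.trans (Nat.pow_le_pow_left (by omega) 2)
    · have hdisD : Disjoint D B := by
        rw [hDD', Finset.disjoint_insert_left, Finset.disjoint_insert_left]
        exact ⟨h1, h2, hB.2⟩
      rcases hsep B hB.1 hdisD with h | h
      · have : B ∩ W = ∅ := by
          rw [Finset.eq_empty_iff_forall_notMem]
          intro x hx
          simp only [hW, Finset.mem_inter, Finset.mem_compl, Finset.mem_union, not_or] at hx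
          exact hx.2.1 (h hx.1)
        simp [this]
      · have : B ∩ U = ∅ := Finset.disjoint_iff_inter_eq_empty.mp h.symm
        simp [this]
  have hs1 : ∀ x y : Ω, x ∉ D' → y ∉ D' → x ≠ y →
      ∑ B ∈ P, (if x ∈ B ∧ y ∉ B then 1 else 0) + lam = cnt G Γ {x} D' := by
    intro x y hx hy hxy
    rw [← hpair y x hxy.symm hy hx]
    have := cnt_split (G := G) Γ {x} D' y
    rw [← this, add_comm, ← Finset.card_filter]
    congr 1
    rw [cnt, Finset.filter_filter]
    congr 1
    ext B
    simp only [Finset.mem_filter, Finset.singleton_subset_iff, Finset.disjoint_insert_left]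
    tauto
  have hrb : cnt G Γ {b} D' = r :=
    cnt_const hj hjn Γ (by simp [hbD']) (by simp [haD']) (by simp) rfl (by simp; omega)
  have hab' : ∑ B ∈ P, (if a ∈ B ∧ b ∈ B then 1 else 0) = lam := by
    rw [← Finset.card_filter]
    rw [show lam = cnt G Γ {a, b} D' from rfl, cnt, Finset.filter_filter]
    congr 1
    ext B
    simp only [Finset.mem_filter, Finset.insert_subset_iff, Finset.singleton_subset_iff]
    tauto
  have htot := Finset.sum_le_sum hbound
  rw [← Finset.mul_sum, hLHS, Finset.sum_add_distrib, ← Finset.mul_sum, ← Finset.mul_sum,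
    Finset.sum_add_distrib, hab'] at htot
  have ea := hs1 a b haD' hbD' hab
  have eb := hs1 b a hbD' haD' hab.symm
  rw [hrb] at eb
  set Sa := ∑ B ∈ P, (if a ∈ B ∧ b ∉ B then 1 else 0)
  set Sb := ∑ B ∈ P, (if b ∈ B ∧ a ∉ B then 1 else 0)
  have hlam : 0 < lam := by
    obtain ⟨x, hx, y, hy, hxy⟩ := Finset.one_lt_card.mp (show 1 < Γ.card by omega)
    obtain ⟨E, hE, hEc⟩ := Finset.exists_subset_card_eq
      (show D'.card ≤ Γᶜ.card by rw [Finset.card_compl]; omega)
    have hd : Disjoint E Γ := Finset.disjoint_left.mpr fun z hz => Finset.mem_compl.mp (hE hz)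
    have : lam = cnt G Γ {x, y} E := by
      refine cnt_const hj hjn Γ (by simp [haD', hbD']) ?_ ?_ hEc.symm ?_
      · simp [Finset.disjoint_right.mp hd hx, Finset.disjoint_right.mp hd hy]
      · rw [Finset.card_pair hxy, Finset.card_pair hab]
      · rw [Finset.card_pair hab]; omega
    rw [this]
    exact Finset.card_pos.mpr ⟨Γ, Finset.mem_filter.mpr
      ⟨mem_translates.mpr ⟨1, by simp⟩, by simp [Finset.insert_subset_iff, hx, hy], hd⟩⟩
  -- arithmetic contradiction
  obtain ⟨k, hk⟩ : ∃ k, m = k + 2 := ⟨m - 2, by omega⟩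
  obtain ⟨u, hu⟩ : ∃ u, U.card = k + 2 + u := ⟨U.card - (k + 2), by omega⟩
  obtain ⟨w, hw'⟩ : ∃ w, W.card = k + 2 + w := ⟨W.card - (k + 2), by omega⟩
  have hv' : v = 2 * k + 6 + u + w := by omega
  rw [hk, show k + 2 - 1 = k + 1 by omega, show k + 2 - 2 = k by omega, hu, hw'] at htot
  rw [hk, hv', show k + 2 - 1 = k + 1 by omega,
    show 2 * k + 6 + u + w - 1 = 2 * k + 5 + u + w by omega] at hr
  have h1 : (k + 1) * Sa = (k + 4 + u + w) * lam := by nlinarith
  have h2 : (k + 1) * Sb = (k + 4 + u + w) * lam := by nlinarith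
  have h3 : (k + 1) ^ 2 * (Sa + Sb) = 2 * ((k + 1) * ((k + 4 + u + w) * lam)) := by
    calc (k + 1) ^ 2 * (Sa + Sb) = (k + 1) * ((k + 1) * Sa + (k + 1) * Sb) := by ring
      _ = _ := by rw [h1, h2]; ring
  rw [h3] at htot
  nlinarith [Nat.mul_pos hlam (show 0 < k + 1 by omega), Nat.zero_le (k * k * lam), Nat.zero_le (k * lam),
    Nat.zero_le (u * lam), Nat.zero_le (w * lam), Nat.zero_le (u * k * lam), Nat.zero_le (w * k * lam),
    Nat.zero_le (u * w * lam)]

/-- The complement of an avoided set is a Jordan set. -/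
theorem isJordan_compl {j : ℕ} (hj : IsMultiplyPretransitive G Ω j) (hj2 : 2 ≤ j)
    (hjn : j ≤ Fintype.card Ω) (Γ D : Finset Ω) (hΓ : IsJordan G Γ) (hD : D.card = j)
    (hm : 2 ≤ Γ.card) (hjm : j + Γ.card ≤ Fintype.card Ω)
    (hcov : ∀ w ∉ D, 0 < cnt G Γ {w} D) : IsJordan G Dᶜ := by
  classical
  have hex : ((Finset.univ : Finset (Finset Ω)).filter fun U =>
      Disjoint U D ∧ Γ.card ≤ U.card ∧ IsJordan G U).Nonempty := by
    obtain ⟨B, hB⟩ := Finset.card_pos.mp (cnt_avoid_pos hj hjn Γ D hD.le (by omega))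
    simp only [Finset.mem_filter] at hB
    exact ⟨B, Finset.mem_filter.mpr ⟨Finset.mem_univ _, hB.2.2.symm,
      (card_of_mem_translates hB.1).ge, translate_jordan hΓ hB.1⟩⟩
  obtain ⟨U, hU, hmax⟩ := Finset.exists_max_image _ Finset.card hex
  simp only [Finset.mem_filter, Finset.mem_univ, true_and] at hU hmax
  obtain ⟨hUD, hUm, hUJ⟩ := hU
  have hsep : ∀ B ∈ translates G Γ, Disjoint D B → B ⊆ U ∨ Disjoint U B := by
    intro B hB hDB
    by_cases hdis : Disjoint U B
    · exact Or.inr hdis
    left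
    obtain ⟨x, hxU, hxB⟩ := Finset.not_disjoint_iff.mp hdis
    have hJ := hUJ.union (translate_jordan hΓ hB) ⟨x, Finset.mem_inter.mpr ⟨hxU, hxB⟩⟩
    have hle := hmax (U ∪ B) ⟨Finset.disjoint_union_left.mpr ⟨hUD, hDB.symm⟩,
      hUm.trans (Finset.card_le_card Finset.subset_union_left), hJ⟩
    rw [Finset.eq_of_subset_of_card_le Finset.subset_union_left hle]
    exact Finset.subset_union_right
  suffices U = Dᶜ by rw [← this]; exact hUJ
  by_contra hne
  obtain ⟨w, hw, hwU⟩ : ∃ w, w ∈ Dᶜ ∧ w ∉ U := by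
    by_contra h
    push_neg at h
    exact hne (Finset.Subset.antisymm (fun x hx => Finset.mem_compl.mpr
      (Finset.disjoint_left.mp hUD hx)) h)
  obtain ⟨B, hB⟩ := Finset.card_pos.mp (hcov w (Finset.mem_compl.mp hw))
  simp only [Finset.mem_filter, Finset.singleton_subset_iff] at hB
  have hBU : Disjoint U B := (hsep B hB.1 hB.2.2).resolve_left fun h => hwU (h hB.2.1)
  refine not_separated hj hj2 hjn Γ D U hD hm hUD hUm ?_ hsep
  rw [← card_of_mem_translates hB.1]
  refine Finset.card_le_card fun x hx => ?_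
  simp only [Finset.mem_compl, Finset.mem_union, not_or]
  exact ⟨Finset.disjoint_right.mp hBU hx, Finset.disjoint_right.mp hB.2.2 hx⟩

theorem two_pretransitive (hprim : IsPreprimitive G Ω) (Γ : Finset Ω) (hΓ : IsJordan G Γ)
    (hm : 2 ≤ Γ.card) (hn : Γ.card < Fintype.card Ω) : IsMultiplyPretransitive G Ω 2 := by
  have hc : ((Γ : Set Ω)ᶜ).ncard = Fintype.card Ω - Γ.card := by
    rw [← Finset.coe_compl, Set.ncard_coe_finset, Finset.card_compl]
  refine hprim.is_two_pretransitive (s := (Γ : Set Ω)ᶜ) (n := Fintype.card Ω - Γ.card - 1)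
    (by omega) (by rw [Nat.card_eq_fintype_card]; omega) ⟨fun x y => ?_⟩
  have hx : (x : Ω) ∈ Γ := by
    by_contra h
    exact (SubMulAction.mem_ofFixingSubgroup_iff (M := G)).mp x.2 (by simpa using h)
  have hy : (y : Ω) ∈ Γ := by
    by_contra h
    exact (SubMulAction.mem_ofFixingSubgroup_iff (M := G)).mp y.2 (by simpa using h)
  obtain ⟨g, hg, hgxy⟩ := hΓ _ hx _ hy
  exact ⟨⟨g, (mem_fixingSubgroup_iff G).mpr fun z hz => hg z (by simpa using hz)⟩,
    Subtype.ext hgxy⟩

/-- Jordan sets of size at most half give triple transitivity. -/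
theorem three_pretransitive (hprim : IsPreprimitive G Ω) (Γ : Finset Ω) (hΓ : IsJordan G Γ)
    (hm : 2 ≤ Γ.card) (hle : 2 * Γ.card ≤ Fintype.card Ω) : IsMultiplyPretransitive G Ω 3 := by
  have h2 := two_pretransitive hprim Γ hΓ hm (by omega)
  obtain ⟨D, -, hD⟩ := Finset.exists_subset_card_eq
    (show 2 ≤ (Finset.univ : Finset Ω).card by rw [Finset.card_univ]; omega)
  refine multiplyPretransitive_succ h2 (by omega) D hD (isJordan_compl h2 le_rfl (by omega) Γ D hΓ hD
    hm (by omega) fun w hw => ?_)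
  refine exists_cover h2 (by omega) Γ D hD w hw hle (Or.inr ⟨even_two, ?_⟩)
  -- avoiding pairs are at least as frequent as contained ones
  have hApos := cnt_avoid_pos h2 (by omega) Γ D hD.le (by omega)
  obtain ⟨a, b, hab, rfl⟩ := Finset.card_eq_two.mp hD
  have h1 := cnt_split (G := G) Γ ∅ {b} a
  have h2' := cnt_split (G := G) Γ {b} ∅ a
  have h3 := cnt_split (G := G) Γ ∅ ∅ b
  have h4 : cnt G Γ {a} {b} = cnt G Γ {b} {a} :=
    cnt_const h2 (by omega) Γ (by simp [hab]) (by simp [hab.symm]) (by simp) (by simp) (by simp)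
  simp only [insert_empty_eq] at h1 h2' h3
  -- use the one point count
  have e := sum_cnt_insert_left (G := G) Γ ∅ ∅
  simp only [Finset.union_empty, Finset.compl_empty, Finset.card_empty, Nat.sub_zero,
    insert_empty_eq] at e
  have hc1 : ∀ x ∈ (Finset.univ : Finset Ω), cnt G Γ {x} ∅ = cnt G Γ {b} ∅ := fun x _ =>
    cnt_const h2 (by omega) Γ (by simp) (by simp) (by simp) rfl (by simp)
  rw [Finset.sum_congr rfl hc1, Finset.sum_const, smul_eq_mul, Finset.card_univ] at e
  have hN1 : 2 * cnt G Γ {b} ∅ ≤ cnt G Γ ∅ ∅ := by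
    refine Nat.le_of_mul_le_mul_left ?_ (show 0 < Fintype.card Ω by omega)
    calc Fintype.card Ω * (2 * cnt G Γ {b} ∅) = (2 * Γ.card) * cnt G Γ ∅ ∅ := by
          rw [mul_left_comm, e, mul_assoc]
      _ ≤ _ := Nat.mul_le_mul_right _ hle
  have hNA : cnt G Γ {a, b} ∅ ≤ cnt G Γ ∅ {a, b} := by omega
  calc (Γ.card - 2) * cnt G Γ {a, b} ∅ ≤ (Γ.card - 2) * cnt G Γ ∅ {a, b} :=
        Nat.mul_le_mul_left _ hNA
    _ < Γ.card * cnt G Γ ∅ {a, b} := Nat.mul_lt_mul_of_pos_right (by omega) hApos

/-- Marggraff: a Jordan set of fewer than half of the points gives the alternating group. -/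
theorem alternating_le_of_small [Finite G] [FaithfulSMul G Ω] (hprim : IsPreprimitive G Ω)
    (Γ : Finset Ω) (hΓ : IsJordan G Γ) (hm : 2 ≤ Γ.card)
    (hlt : 2 * Γ.card < Fintype.card Ω) :
    alternatingGroup Ω ≤ (MulAction.toPermHom G Ω).range := by
  by_contra hA
  have hk : ∀ j, 2 ≤ j → j + Γ.card ≤ Fintype.card Ω → IsMultiplyPretransitive G Ω j := by
    intro j hj2
    induction j, hj2 using Nat.le_induction with
    | base => intro _; exact two_pretransitive hprim Γ hΓ hm (by omega)
    | succ j hj2 ih =>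
      intro hjm
      have hj := ih (by omega)
      obtain ⟨D, -, hD⟩ := Finset.exists_subset_card_eq
        (show j ≤ (Finset.univ : Finset Ω).card by rw [Finset.card_univ]; omega)
      refine multiplyPretransitive_succ hj (by omega) D hD (isJordan_compl hj hj2 (by omega) Γ D hΓ
        hD hm (by omega) fun w hw => exists_cover hj (by omega) Γ D hD w hw hlt.le (Or.inl ?_))
      exact (cnt_ratio hj (by omega) Γ (by omega) hlt (by omega) j D hD (by omega) le_rfl).2 hj2
  set n := Fintype.card Ω with hn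
  set k := n - Γ.card with hk'
  have hkt := hk k (by omega) (by omega)
  -- lower bound on the order
  have hcard : n.descFactorial k ≤ Nat.card G := by
    obtain ⟨e⟩ : Nonempty (Fin k ↪ Ω) :=
      Function.Embedding.nonempty_of_card_le (by rw [Fintype.card_fin]; omega)
    rw [isMultiplyPretransitive_iff] at hkt
    have hsurj : Function.Surjective fun g : G => g • e := fun x => hkt e x
    have := Nat.card_le_card_of_surjective _ hsurj
    rwa [Nat.card_eq_fintype_card (α := Fin k ↪ Ω), Fintype.card_embedding_eq, Fintype.card_fin]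
      at this
  have hb := bochert hprim hA
  rw [← hn, ← Nat.factorial_mul_descFactorial (show k ≤ n by omega)] at hb
  have h1 : Nat.factorial ((n + 1) / 2) ≤ Nat.factorial (n - k) := by
    have hpos : 0 < n.descFactorial k := Nat.pos_of_ne_zero fun h => by
      rw [Nat.descFactorial_eq_zero_iff_lt] at h; omega
    refine Nat.le_of_mul_le_mul_left ?_ hpos
    calc n.descFactorial k * Nat.factorial ((n + 1) / 2) ≤
          Nat.card G * Nat.factorial ((n + 1) / 2) := Nat.mul_le_mul_right _ hcard
      _ ≤ _ := by rw [mul_comm (n.descFactorial k)]; exact hb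
  have : Nat.factorial (n - k) < Nat.factorial ((n + 1) / 2) :=
    (Nat.factorial_lt (by omega)).mpr (by omega)
  omega

end counting

end Cfsg.Agent.Recog71.SmallJordan
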