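import Mathlib
import Cfsg.Agent.Recog71.Bochert
import Cfsg.Agent.Recog71.JordanSet
import Cfsg.Agent.Recog71.SmallJordan

set_option autoImplicit false

/-!
Marggraff's theorem for quasiprimitive groups.
-/

namespace Cfsg.Agent.Recog71.JordanQP

open MulAction Equiv
open scoped Pointwise

universe u v

/-- A normal subgroup of the alternating group containing a three-cycle is everything. -/
theorem alternating_le_of_three_cycle {α : Type*} [Fintype α] [DecidableEq α]
    (hα : 4 ≤ Fintype.card α) (R : Subgroup (Perm α))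
    (hnorm : ∀ π ∈ alternatingGroup α, ∀ r ∈ R, π * r * π⁻¹ ∈ R)
    (c : Perm α) (hc : c.IsThreeCycle) (hcR : c ∈ R) : alternatingGroup α ≤ R := by
  let N : Subgroup (alternatingGroup α) := R.comap (alternatingGroup α).subtype
  haveI hN : N.Normal := ⟨fun r hr π => hnorm π π.2 r hr⟩
  let c' : alternatingGroup α := ⟨c, hc.mem_alternatingGroup⟩
  have hcN : c' ∈ N := hcR
  suffices N = ⊤ by
    intro x hx
    have : (⟨x, hx⟩ : alternatingGroup α) ∈ N := this ▸ Subgroup.mem_top _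
    exact this
  rcases Nat.lt_or_ge (Fintype.card α) 5 with h | h
  · -- degree four: the index of N is prime to 3
    haveI : Nontrivial α := Fintype.one_lt_card_iff_nontrivial.mp (by omega)
    have hcardA : Nat.card (alternatingGroup α) = 12 := by
      rw [nat_card_alternatingGroup, Nat.card_eq_fintype_card, show Fintype.card α = 4 by omega]
      rfl
    have h3 : orderOf c' = 3 := by rw [← Subgroup.orderOf_coe]; exact hc.orderOf
    have h3N : 3 ∣ Nat.card N := by
      rw [← h3, ← Nat.card_zpowers]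
      exact Subgroup.card_dvd_of_le (by simpa using hcN)
    have hidx : ¬ 3 ∣ N.index := by
      intro hd
      have := Nat.mul_dvd_mul h3N hd
      rw [N.card_mul_index, hcardA] at this
      norm_num at this
    have hall : ∀ x : alternatingGroup α, (x : Perm α).IsThreeCycle → x ∈ N := by
      intro x hx
      rw [← QuotientGroup.eq_one_iff]
      have h1 : orderOf (x : alternatingGroup α ⧸ N) ∣ 3 := by
        rw [← hx.orderOf, Subgroup.orderOf_coe]
        exact orderOf_map_dvd (QuotientGroup.mk' N) x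
      have h2 : orderOf (x : alternatingGroup α ⧸ N) ∣ N.index := orderOf_dvd_natCard _
      rcases (Nat.dvd_prime Nat.prime_three).mp h1 with h' | h'
      · exact orderOf_eq_one_iff.mp h'
      · exact absurd (h' ▸ h2) hidx
    rw [eq_top_iff]
    intro x _
    have hx : (x : Perm α) ∈ Subgroup.closure {σ : Perm α | σ.IsThreeCycle} := by
      rw [Equiv.Perm.closure_three_cycles_eq_alternating]; exact x.2
    have key : Subgroup.closure {σ : Perm α | σ.IsThreeCycle} ≤ N.map (alternatingGroup α).subtype := by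
      rw [Subgroup.closure_le]
      intro σ hσ
      exact ⟨⟨σ, Equiv.Perm.IsThreeCycle.mem_alternatingGroup hσ⟩, hall _ hσ, rfl⟩
    obtain ⟨y, hy, hyx⟩ := key hx
    exact Subtype.ext (a1 := y) (a2 := x) hyx ▸ hy
  · rw [eq_top_iff, ← Equiv.Perm.IsThreeCycle.alternating_normalClosure (by rw [Nat.card_eq_fintype_card]; exact h) hc]
    exact Subgroup.normalClosure_le_normal (by simpa using hcN)

/-- A permutation group of a block system containing the alternating group cannot have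
a Jordan set made of several blocks, unless the blocks are trivial. -/
theorem no_blown_up_jordan {G Ω β : Type*} [Group G] [MulAction G Ω] [MulAction G β]
    [Fintype β] [DecidableEq β] (pr : Ω → β) (hpr : ∀ (g : G) x, pr (g • x) = g • pr x)
    (hsurj : Function.Surjective pr) [IsPretransitive G Ω]
    (hbig : ∀ P : β, ∃ x y, pr x = P ∧ pr y = P ∧ x ≠ y)
    (halt : ∀ σ : Perm β, σ ∈ alternatingGroup β → ∃ g : G, toPerm g = σ)
    (hfaith : ∀ g g' : G, (∀ P : β, g • P = g' • P) → g = g')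
    (Δ : Finset β) (hΔ2 : 2 ≤ Δ.card) (hΔ : 2 * Δ.card < Fintype.card β)
    (hK : ∀ x y, pr x ∈ Δ → pr y ∈ Δ → ∃ g : G, (∀ z, pr z ∉ Δ → g • z = z) ∧ g • x = y) :
    False := by
  classical
  obtain ⟨B₀, hB₀⟩ : ∃ B₀, B₀ ∈ Δᶜ := Finset.card_pos.mp (by rw [Finset.card_compl]; omega)
  rw [Finset.mem_compl] at hB₀
  let φ : G →* Perm β := toPermHom G β
  let S : Subgroup G := stabilizer G B₀
  let R : Subgroup G :=
    { carrier := {g | ∀ x, pr x = B₀ → g • x = x}
      one_mem' := fun x _ => one_smul _ x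
      mul_mem' := fun {a b} ha hb x hx => by rw [mul_smul, hb x hx, ha x hx]
      inv_mem' := fun {a} ha x hx => by rw [inv_smul_eq_iff, ha x hx] }
  have hRS : R ≤ S := by
    intro g hg
    obtain ⟨x, hx⟩ := hsurj B₀
    show g • B₀ = B₀
    rw [← hx, ← hpr, hg x hx]
  have hSR : ∀ h ∈ S, ∀ g ∈ R, h * g * h⁻¹ ∈ R := by
    intro h hh g hg x hx
    rw [mul_smul, mul_smul, hg _ (by rw [hpr, hx]; exact mem_stabilizer_iff.mp (S.inv_mem hh)),
      smul_inv_smul]
  have hKR : ∀ g : G, (∀ z, pr z ∉ Δ → g • z = z) → g ∈ R := fun g hg x hx => hg x (hx ▸ hB₀)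
  have hKfix : ∀ g : G, (∀ z, pr z ∉ Δ → g • z = z) → ∀ P ∉ Δ, g • P = P := by
    intro g hg P hP
    obtain ⟨x, rfl⟩ := hsurj P
    rw [← hpr, hg x hP]
  -- the permutations of the other blocks
  let β₀ := {P : β // P ≠ B₀}
  have hβ₀ : Fintype.card β₀ = Fintype.card β - 1 := by
    rw [Fintype.card_subtype_compl, Fintype.card_subtype_eq]
  let ι : Perm β₀ →* Perm β := Perm.ofSubtype
  let R₀ : Subgroup (Perm β₀) := (R.map φ).comap ι
  have hιfix : ∀ π : Perm β₀, ι π B₀ = B₀ := fun π =>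
    Perm.ofSubtype_apply_of_not_mem π (by simp)
  have hnorm : ∀ π ∈ alternatingGroup β₀, ∀ r ∈ R₀, π * r * π⁻¹ ∈ R₀ := by
    intro π hπ r hr
    obtain ⟨g, hg, hgr⟩ := hr
    obtain ⟨h, hh⟩ := halt (ι π) (by
      rw [Perm.mem_alternatingGroup, Perm.sign_ofSubtype]; exact hπ)
    have hhS : h ∈ S := by
      show h • B₀ = B₀
      rw [← toPerm_apply, hh, hιfix]
    refine ⟨h * g * h⁻¹, hSR h hhS g hg, ?_⟩
    rw [map_mul, map_mul, map_inv, hgr, map_mul, map_mul, map_inv]
    simp only [φ, toPermHom_apply, hh]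
  obtain ⟨P, hP, Q, hQ, hPQ⟩ := Finset.one_lt_card.mp (show 1 < Δ.card by omega)
  obtain ⟨x, hx⟩ := hsurj P
  obtain ⟨y, hy⟩ := hsurj Q
  obtain ⟨k, hk, hkxy⟩ := hK x y (hx ▸ hP) (hy ▸ hQ)
  have hkP : k • P = Q := by rw [← hx, ← hpr, hkxy, hy]
  obtain ⟨c, hc, d, hd, hcd⟩ := Finset.one_lt_card.mp
    (show 1 < (insert B₀ Δ)ᶜ.card by
      rw [Finset.card_compl, Finset.card_insert_of_notMem hB₀]; omega)
  simp only [Finset.mem_compl, Finset.mem_insert, not_or] at hc hd
  have hP0 : P ≠ B₀ := fun e => hB₀ (e ▸ hP)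
  let P' : β₀ := ⟨P, hP0⟩
  let c' : β₀ := ⟨c, hc.1⟩
  let d' : β₀ := ⟨d, hd.1⟩
  have hPc : P ≠ c := fun e => hc.2 (e ▸ hP)
  have hPd : P ≠ d := fun e => hd.2 (e ▸ hP)
  let τ : Perm β₀ := swap P' c' * swap c' d'
  have hσ0 : ∀ z : β, (toPerm k : Perm β) z ≠ B₀ ↔ z ≠ B₀ := by
    intro z
    have hfix : k • B₀ = B₀ := hKfix k hk B₀ hB₀
    constructor
    · intro h e; exact h (by rw [e]; exact hfix)
    · intro h e
      exact h (MulAction.injective k (e.trans hfix.symm))
  let σ : Perm β₀ := (toPerm k : Perm β).subtypePerm hσ0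
  have hισ : ι σ = toPerm k := Perm.ofSubtype_subtypePerm _ fun z hz => by
    intro e
    subst e
    exact hz (hKfix k hk z hB₀)
  have hσR : σ ∈ R₀ := ⟨k, hKR k hk, hισ.symm⟩
  have h1 : P' ≠ c' := fun e => hPc (congrArg Subtype.val e)
  have h2 : c' ≠ d' := fun e => hcd (congrArg Subtype.val e)
  have h4 : P' ≠ d' := fun e => hPd (congrArg Subtype.val e)
  have hτe : τ ∈ alternatingGroup β₀ := by
    rw [Perm.mem_alternatingGroup, map_mul, Perm.sign_swap h1, Perm.sign_swap h2]; rfl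
  have hτP : τ P' = c' := by
    show swap P' c' (swap c' d' P') = c'
    rw [swap_apply_of_ne_of_ne h1 h4, swap_apply_left]
  have hcom : τ * σ * τ⁻¹ * σ⁻¹ ∈ R₀ := R₀.mul_mem (hnorm τ hτe σ hσR) (R₀.inv_mem hσR)
  have h3 := isThreeCycle_commutator_of_support_inter τ σ P' (by
      rw [hτP]; exact h1.symm)
    (by
      intro e
      have := congrArg Subtype.val e
      simp only [σ, P', Perm.subtypePerm_apply, toPerm_apply] at this
      exact hPQ (this.symm.trans hkP))
    (by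
      intro z hz1 hz2
      have hzΔ : (z : β) ∈ Δ := by
        by_contra hz
        exact hz2 (Subtype.ext (hKfix k hk z hz))
      by_contra hzP
      apply hz1
      have k1 : z ≠ c' := fun e => hc.2 (by rw [e] at hzΔ; exact hzΔ)
      have k2 : z ≠ d' := fun e => hd.2 (by rw [e] at hzΔ; exact hzΔ)
      show swap P' c' (swap c' d' z) = z
      rw [swap_apply_of_ne_of_ne k1 k2, swap_apply_of_ne_of_ne hzP k1])
  have hAlt := alternating_le_of_three_cycle (by omega) R₀ hnorm _ h3 hcom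
  -- even elements fixing a block fix it pointwise
  have heven : ∀ g ∈ S, Perm.sign (toPerm g : Perm β) = 1 → g ∈ R := by
    intro g hg hsign
    have hg0 : ∀ z : β, (toPerm g : Perm β) z ≠ B₀ ↔ z ≠ B₀ := by
      intro z
      constructor
      · intro h e; exact h (by rw [e]; exact mem_stabilizer_iff.mp hg)
      · intro h e
        exact h (MulAction.injective g (e.trans (mem_stabilizer_iff.mp hg).symm))
    have hext : ι ((toPerm g : Perm β).subtypePerm hg0) = toPerm g :=
      Perm.ofSubtype_subtypePerm _ fun z hz => by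
        intro e
        subst e
        exact hz (mem_stabilizer_iff.mp hg)
    obtain ⟨r, hr, hrg⟩ := hAlt (show (toPerm g : Perm β).subtypePerm hg0 ∈ alternatingGroup β₀ by
      rw [Perm.mem_alternatingGroup, ← Perm.sign_ofSubtype]
      show Perm.sign (ι _) = 1
      rw [hext, hsign])
    rw [hext] at hrg
    rw [hfaith g r fun P => ?_]
    · exact hr
    · exact (congrArg (fun e : Perm β => e P) hrg).symm
  -- an odd element of R
  obtain ⟨x₁, x₂, hx₁, hx₂, hx₁₂⟩ := hbig P
  obtain ⟨k', hk', hk'x⟩ := hK x₁ x₂ (hx₁ ▸ hP) (hx₂ ▸ hP)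
  have hodd : Perm.sign (toPerm k' : Perm β) = -1 := by
    rcases Int.units_eq_one_or (Perm.sign (toPerm k' : Perm β)) with h | h
    · exfalso
      obtain ⟨z, hz⟩ := hsurj B₀
      obtain ⟨a, ha⟩ := exists_smul_eq G z x₁
      have haB : a • B₀ = P := by rw [← hz, ← hpr, ha, hx₁]
      have hin : a⁻¹ * k' * a ∈ S := by
        show (a⁻¹ * k' * a) • B₀ = B₀
        rw [mul_smul, mul_smul, haB, inv_smul_eq_iff, haB, ← hx₁, ← hpr, hk'x, hx₂, hx₁]
      have hsgn : Perm.sign (toPerm (a⁻¹ * k' * a) : Perm β) = 1 := by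
        show Perm.sign (φ (a⁻¹ * k' * a)) = 1
        rw [map_mul φ, map_mul φ, map_inv φ, map_mul, map_mul, map_inv,
          show Perm.sign (φ k') = 1 from h, mul_one, inv_mul_cancel]
      have := heven _ hin hsgn z hz
      rw [mul_smul, mul_smul, ha, hk'x, inv_smul_eq_iff, ha] at this
      exact hx₁₂ this.symm
    · exact h
  have hSeq : S ≤ R := by
    intro g hg
    rcases Int.units_eq_one_or (Perm.sign (toPerm g : Perm β)) with h | h
    · exact heven g hg h
    · have h1 : g * k' ∈ R := heven _ (S.mul_mem hg (hRS (hKR k' hk'))) (by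
        show Perm.sign (φ (g * k')) = 1
        rw [map_mul φ, map_mul, show Perm.sign (φ g) = -1 from h,
          show Perm.sign (φ k') = -1 from hodd]
        rfl)
      have := R.mul_mem h1 (R.inv_mem (hKR k' hk'))
      rwa [mul_inv_cancel_right] at this
  obtain ⟨z₁, z₂, hz₁, hz₂, hz₁₂⟩ := hbig B₀
  obtain ⟨g, hg⟩ := exists_smul_eq G z₁ z₂
  have hgS : g ∈ S := by
    show g • B₀ = B₀
    rw [← hz₁, ← hpr, hg, hz₂, hz₁]
  have := hSeq hgS z₁ hz₁
  exact hz₁₂ (this.symm.trans hg)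

/-- Marggraff's theorem for quasiprimitive groups. -/
theorem alternating_le {G : Type u} [Group G] [Finite G] :
    ∀ {Ω : Type v} [Fintype Ω] [DecidableEq Ω] [MulAction G Ω] [FaithfulSMul G Ω],
    (∀ N : Subgroup G, N.Normal → N ≠ ⊥ → IsPretransitive ↥N Ω) →
    ∀ (Γ : Finset Ω), SmallJordan.IsJordan G Γ → 2 ≤ Γ.card → 2 * Γ.card < Fintype.card Ω →
    alternatingGroup Ω ≤ (toPermHom G Ω).range := by
  suffices ∀ (n : ℕ) {Ω : Type v} [Fintype Ω] [DecidableEq Ω] [MulAction G Ω] [FaithfulSMul G Ω],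
      Fintype.card Ω = n → (∀ N : Subgroup G, N.Normal → N ≠ ⊥ → IsPretransitive ↥N Ω) →
      ∀ (Γ : Finset Ω), SmallJordan.IsJordan G Γ → 2 ≤ Γ.card → 2 * Γ.card < n →
      alternatingGroup Ω ≤ (toPermHom G Ω).range by
    intro Ω _ _ _ _ hqp Γ hΓ hm hlt
    exact this _ rfl hqp Γ hΓ hm hlt
  intro n
  induction n using Nat.strong_induction_on with
  | _ n IH =>
  intro Ω _ _ _ _ hn hqp Γ hΓ hm hlt
  classical
  obtain ⟨γ, hγ, γ', hγ', hne⟩ := Finset.one_lt_card.mp (show 1 < Γ.card by omega)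
  obtain ⟨g₁, hg₁f, hg₁γ⟩ := hΓ γ hγ γ' hγ'
  have hg₁ : g₁ ≠ 1 := fun e => hne (by simpa [e] using hg₁γ)
  haveI := isPretransitive_of_quasiprimitive hqp ⟨g₁, hg₁⟩
  by_cases hprim : IsPreprimitive G Ω
  · exact SmallJordan.alternating_le_of_small hprim Γ hΓ hm (by omega)
  obtain ⟨B, hB, hγB, hBns, hBu⟩ : ∃ B : Set Ω, IsBlock G B ∧ γ ∈ B ∧ ¬ B.Subsingleton ∧
      B ≠ Set.univ := by
    by_contra h
    push_neg at h
    refine hprim (IsPreprimitive.of_isTrivialBlock_base γ fun {B} hγB hB => ?_)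
    rw [IsTrivialBlock, or_iff_not_imp_left]
    exact fun hns => h B hB hγB (Set.not_subsingleton_iff.mp hns)
  have htrans : ∀ (g : G), IsBlock G (g • B) := fun g => hB.translate g
  let β := orbit G B
  haveI : Finite β := Finite.of_injective (fun P : β => (P : Set Ω)) Subtype.val_injective
  haveI : Fintype β := Fintype.ofFinite β
  have huniq : ∀ (P Q : β) (x : Ω), x ∈ (P : Set Ω) → x ∈ (Q : Set Ω) → P = Q := by
    rintro ⟨_, g, rfl⟩ ⟨_, g', rfl⟩ x hx hx'
    apply Subtype.ext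
    show g • B = g' • B
    by_contra hne'
    exact Set.disjoint_left.mp (hB hne') hx hx'
  have hex : ∀ x : Ω, ∃ P : β, x ∈ (P : Set Ω) := by
    intro x
    obtain ⟨g, rfl⟩ := exists_smul_eq G γ x
    exact ⟨⟨g • B, g, rfl⟩, Set.smul_mem_smul_set hγB⟩
  choose pr hpr using hex
  have hpreq : ∀ (g : G) x, pr (g • x) = g • pr x := fun g x =>
    huniq _ _ _ (hpr _) (by
      show g • x ∈ g • (pr x : Set Ω)
      exact Set.smul_mem_smul_set (hpr x))
  have hprmem : ∀ (x : Ω) (P : β), x ∈ (P : Set Ω) ↔ pr x = P := fun x P =>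
    ⟨fun h => huniq _ _ x (hpr x) h, fun h => h ▸ hpr x⟩
  have hPne : ∀ P : β, (P : Set Ω).Nonempty := by
    rintro ⟨_, g, rfl⟩
    exact ⟨g • γ, Set.smul_mem_smul_set hγB⟩
  have hsurj : Function.Surjective pr := fun P => by
    obtain ⟨x, hx⟩ := hPne P
    exact ⟨x, (hprmem x P).mp hx⟩
  have hbig : ∀ P : β, ∃ x y, pr x = P ∧ pr y = P ∧ x ≠ y := by
    rintro ⟨_, g, rfl⟩
    obtain ⟨a, ha, b, hb, hab⟩ := Set.not_subsingleton_iff.mp hBns
    exact ⟨g • a, g • b, (hprmem _ _).mp (Set.smul_mem_smul_set ha),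
      (hprmem _ _).mp (Set.smul_mem_smul_set hb), fun e => hab (MulAction.injective g e)⟩
  haveI hfaith : FaithfulSMul G β := by
    refine ⟨fun {g h} hgh => ?_⟩
    let N : Subgroup G := (toPermHom G β).ker
    have hN : N = ⊥ := by
      by_contra hne'
      have htr := hqp N inferInstance hne'
      obtain ⟨y, hy⟩ := (Set.ne_univ_iff_exists_notMem B).mp hBu
      obtain ⟨⟨k, hk⟩, hky⟩ := exists_smul_eq ↥N γ y
      have h1 : k • (⟨B, mem_orbit_self B⟩ : β) = ⟨B, mem_orbit_self B⟩ :=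
        congrArg (fun e : Perm β => e ⟨B, mem_orbit_self B⟩) (show toPermHom G β k = 1 from hk)
      apply hy
      rw [← hky, ← show k • B = B from congrArg Subtype.val h1]
      exact Set.smul_mem_smul_set hγB
    have : h⁻¹ * g ∈ N := by
      show toPermHom G β (h⁻¹ * g) = 1
      ext P
      simp [mul_smul, hgh P]
    rw [hN, Subgroup.mem_bot, inv_mul_eq_one] at this
    exact this.symm
  have hqpβ : ∀ N : Subgroup G, N.Normal → N ≠ ⊥ → IsPretransitive ↥N β := by
    intro N hN hN'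
    haveI := hqp N hN hN'
    refine ⟨fun P Q => ?_⟩
    obtain ⟨x, rfl⟩ := hsurj P
    obtain ⟨y, rfl⟩ := hsurj Q
    obtain ⟨k, hk⟩ := exists_smul_eq ↥N x y
    exact ⟨k, by rw [← hk]; exact (hpreq k x).symm⟩
  -- Γ is a union of blocks
  have hnotsub : ∀ P : β, ¬ (Γ : Set Ω) ⊆ (P : Set Ω) := by
    rintro ⟨_, g, rfl⟩ hsub
    refine not_subset_block hqp (Γ : Set Ω) g₁ hg₁ (fun z hz => hg₁f z (by simpa using hz))
      (g • B) (htrans g) ?_ hsub ⟨γ, hsub hγ⟩ ?_
    · intro e
      apply hBu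
      rw [← inv_smul_smul g B, e, Set.smul_set_univ]
    · exact (htrans g).smul_eq_of_nonempty ⟨γ', ⟨γ, hsub hγ, hg₁γ⟩, hsub hγ'⟩
  have hunion : ∀ x ∈ Γ, ∀ z, pr z = pr x → z ∈ Γ := by
    intro x hx z hz
    by_contra hzΓ
    obtain ⟨g, hg⟩ : ∃ g, g • B = (pr x : Set Ω) := (pr x).2
    refine hnotsub (pr x) ?_
    refine subset_block_of_mixed (Γ : Set Ω) (fun a ha b hb => ?_) _ (hg ▸ htrans g) (hpr x) hx
      ((hprmem z _).mpr hz) hzΓ
    obtain ⟨k, hk, hkab⟩ := hΓ a ha b hb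
    exact ⟨k, fun w hw => hk w (by simpa using hw), hkab⟩
  set Δ : Finset β := Γ.image pr with hΔ
  have hmemΔ : ∀ z, pr z ∈ Δ ↔ z ∈ Γ := by
    intro z
    constructor
    · intro h
      obtain ⟨x, hx, hxz⟩ := Finset.mem_image.mp h
      exact hunion x hx z hxz.symm
    · exact fun h => Finset.mem_image_of_mem _ h
  have hJβ : SmallJordan.IsJordan G Δ := by
    intro P hP Q hQ
    obtain ⟨x, hx, rfl⟩ := Finset.mem_image.mp hP
    obtain ⟨y, hy, rfl⟩ := Finset.mem_image.mp hQ
    obtain ⟨k, hk, hkxy⟩ := hΓ x hx y hy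
    refine ⟨k, fun R hR => ?_, by rw [← hpreq, hkxy]⟩
    obtain ⟨z, rfl⟩ := hsurj R
    rw [← hpreq, hk z fun h => hR ((hmemΔ z).mpr h)]
  have hΔ2 : 2 ≤ Δ.card := by
    by_contra h
    have h' : Δ.card ≤ 1 := by omega
    refine hnotsub (pr γ) fun z hz => ?_
    exact (hprmem z _).mpr (Finset.card_le_one.mp h' _ ((hmemΔ z).mpr hz) _ ((hmemΔ γ).mpr hγ))
  -- sizes
  set b := (Finset.univ.filter fun x => pr x = pr γ).card with hb
  have hfib : ∀ P : β, (Finset.univ.filter fun x => pr x = P).card = b := by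
    intro P
    obtain ⟨x, rfl⟩ := hsurj P
    obtain ⟨g, rfl⟩ := exists_smul_eq G γ x
    refine (Finset.card_bij (fun z _ => g • z) (fun z hz => ?_) (fun z _ w _ h => MulAction.injective g h)
      (fun z hz => ⟨g⁻¹ • z, ?_, smul_inv_smul g z⟩)).symm
    · simp only [Finset.mem_filter, Finset.mem_univ, true_and] at hz ⊢
      rw [hpreq, hpreq, hz]
    · simp only [Finset.mem_filter, Finset.mem_univ, true_and] at hz ⊢
      rw [hpreq, hz, hpreq, inv_smul_smul]
  have hcardΩ : Fintype.card Ω = Fintype.card β * b := by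
    rw [← Finset.card_univ, Finset.card_eq_sum_card_fiberwise (f := pr) (t := Finset.univ)
      (fun x _ => Finset.mem_univ _)]
    simp [hfib]
  have hcardΓ : Γ.card = Δ.card * b := by
    rw [Finset.card_eq_sum_card_fiberwise (f := pr) (t := Δ) (fun x hx => (hmemΔ x).mpr hx)]
    rw [Finset.sum_congr rfl (g := fun _ => b), Finset.sum_const, smul_eq_mul]
    intro P hP
    rw [← hfib P]
    congr 1
    ext z
    simp only [Finset.mem_filter, Finset.mem_univ, true_and, and_iff_right_iff_imp]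
    intro hz
    exact (hmemΔ z).mp (hz ▸ hP)
  have hb2 : 2 ≤ b := by
    obtain ⟨x, y, hx, hy, hxy⟩ := hbig (pr γ)
    exact Finset.one_lt_card.mpr ⟨x, by simp [hx], y, by simp [hy], hxy⟩
  have hlt' : 2 * Δ.card < Fintype.card β := by
    refine Nat.lt_of_mul_lt_mul_right (a := b) ?_
    rw [← hcardΩ, mul_assoc, ← hcardΓ, hn]; exact hlt
  have hsize : Fintype.card β < n := by
    rw [← hn, hcardΩ]
    exact lt_mul_of_one_lt_right (by omega) (by omega)
  have halt := IH _ hsize (Ω := β) rfl hqpβ Δ hJβ hΔ2 hlt'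
  exfalso
  refine no_blown_up_jordan pr hpreq hsurj hbig (fun σ hσ => ?_)
    (fun g g' h => hfaith.eq_of_smul_eq_smul h) Δ hΔ2 hlt' (fun x y hx hy => ?_)
  · obtain ⟨g, hg⟩ := halt hσ
    exact ⟨g, hg⟩
  · obtain ⟨k, hk, hkxy⟩ := hΓ x ((hmemΔ x).mp hx) y ((hmemΔ y).mp hy)
    exact ⟨k, fun z hz => hk z fun h => hz ((hmemΔ z).mpr h), hkxy⟩

end Cfsg.Agent.Recog71.JordanQP
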