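import Mathlib

set_option autoImplicit false

/-!
Tables for six elements of the symplectic group of rank three over three elements. Generated by a script
and checked in `PSpSixTables`.
-/

namespace Cfsg.Agent.Recog71.PSpSix

/-- The powers of six elements, of orders 7, 13 and of orders 6, 10, 14, 15 modulo the centre. -/
def powTab : ℕ := 0x4001000400100040018582560a61994a0044144655628811a184566a926948858524a10445985a4052209686065601000400101641619882560a61995101a42a46556288118485864192694885850aa26458985a405220a98466690100040010294291a282560a61996402140146556288119a862654926948858511a09462985a405220808596400100040010004001800200080020008002a21a201191a6850505182684a84145861999822588a9a6a1585682199458699989aa66118912a26804651469565522a51184561a8a2616485a0890040200699599864644a01a6624498a8095849214555519562a991a4a6a1a1942120aa62559989a85180845aa02894655956298824912544569004001000400100040014001000400100040011854914105998a85681954aa652090925821662604165189256219602590428941858a88488610040054048a21109281410555864a4815198a6520149696116a612416514521242968aaa04289858905a8400100040010004001400100040010004001400804845a14206001400a0664991660100140020154811180900140040994661990a00140050a24241a5000014001000400100040014001000400100040011442982a2891a1805985604a69a8041a508148a4491659942811aa460564012552212926455109844a069a8045629419846aa28089148582568295564a0401220666868512604191596048a8185498481448149619a4149815652225251554212021565492a444150011a49a4001000400100040014001000400100040012668a49666465599226a664989885025991824048a55014689aa6a182684a841458619995522a51184561a8a2619562a991a4a6a1a19400100040010004001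

/-- Inverses of the matrices of cyclic vectors of the first two elements. -/
def cycInvTab : ℕ := 0x648044210658880981690224818994040061

end Cfsg.Agent.Recog71.PSpSix
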