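import Mathlib
import Cfsg.Agent.Recog71.PSpSixData

set_option autoImplicit false
set_option maxRecDepth 10000

/-!
The checks on six elements of the symplectic group of rank three over three elements.
-/

namespace Cfsg.Agent.Recog71.PSpSix

/-- The index set. -/
abbrev I6 : Type := Fin 3 ⊕ Fin 3

/-- The position of a coordinate. -/
def ix : I6 → ℕ
  | Sum.inl i => i.val
  | Sum.inr i => 3 + i.val

/-- A digit. -/
def digit (t i : ℕ) : ZMod 3 := ((t >>> (i * 2)) % 4 : ℕ)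

/-- An entry of a power of one of the elements. -/
def pv (e : ℕ) (i j : I6) : ZMod 3 := digit powTab (e * 36 + (6 * ix i + ix j))

/-- An entry of the inverse of a matrix of cyclic vectors. -/
def kv (s : ℕ) (i : Fin 6) (j : I6) : ZMod 3 := digit cycInvTab (s * 36 + (6 * i.val + ix j))

/-- An entry of the identity. -/
def ev (i j : I6) : ZMod 3 := if i = j then 1 else 0

/-- The sum over the coordinates. -/
def sumI (f : I6 → ZMod 3) : ZMod 3 :=
  f (Sum.inl 0) + f (Sum.inl 1) + f (Sum.inl 2) + (f (Sum.inr 0) + f (Sum.inr 1) + f (Sum.inr 2))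

theorem sumI_eq (f : I6 → ZMod 3) : sumI f = ∑ k, f k := by
  rw [Fintype.sum_sum_type, Fin.sum_univ_three, Fin.sum_univ_three]; rfl

/-- The cyclic vector. -/
def e0 : I6 := Sum.inl 0

theorem pow_base : ∀ e ∈ [0, 8, 22, 29, 40, 55], ∀ i j : I6, pv e i j = ev i j := by
  decide +kernel

theorem pow_symp : ∀ e ∈ [1, 9, 23, 30, 41, 56],
    Matrix.of (pv e) * Matrix.J (Fin 3) (ZMod 3) * (Matrix.of (pv e)).transpose =
      Matrix.J (Fin 3) (ZMod 3) := by
  decide +kernel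

theorem pow_step : ∀ p ∈ [(0, 7), (8, 13), (22, 6), (29, 10), (40, 14), (55, 15)], ∀ (e : Fin p.2) (i j : I6),
    (sumI fun k => pv (p.1 + e.val) i k * pv (p.1 + 1) k j) = pv (p.1 + (e.val + 1)) i j := by
  decide +kernel

theorem pow_end : (∀ e ∈ [7, 21], ∀ i j : I6, pv e i j = ev i j) ∧
    ∀ e ∈ [28, 39, 54, 70], (∀ i j : I6, pv e i j = ev i j) ∨ ∀ i j : I6, pv e i j = -ev i j := by
  decide +kernel

theorem pow_ne : ∀ e ∈ [1, 9, 24, 25, 31, 34, 42, 47, 58, 60],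
    (∃ i j : I6, pv e i j ≠ ev i j) ∧ ∃ i j : I6, pv e i j ≠ -ev i j := by
  decide +kernel

theorem cyc_valid : ∀ p ∈ [(0, 0), (1, 8)], ∀ i j : I6,
    kv p.1 0 j * pv (p.2 + 0) i e0 + kv p.1 1 j * pv (p.2 + 1) i e0 + kv p.1 2 j * pv (p.2 + 2) i e0 +
      (kv p.1 3 j * pv (p.2 + 3) i e0 + kv p.1 4 j * pv (p.2 + 4) i e0 + kv p.1 5 j * pv (p.2 + 5) i e0) =
        ev i j := by
  decide +kernel

/-- The value at the cyclic vector of a combination of powers of the element of order thirteen. -/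
def comb13 (a : Fin 6 → ZMod 3) (f : ℕ → ℕ) (i : I6) : ZMod 3 :=
  a 0 * pv (8 + f 0) i e0 + a 1 * pv (8 + f 1) i e0 + a 2 * pv (8 + f 2) i e0 +
    (a 3 * pv (8 + f 3) i e0 + a 4 * pv (8 + f 4) i e0 + a 5 * pv (8 + f 5) i e0)

theorem fixed_algebra : ∀ a0 a1 a2 a3 a4 a5 : ZMod 3,
    (∀ i : I6, comb13 ![a0, a1, a2, a3, a4, a5] (fun k => k) i =
      comb13 ![a0, a1, a2, a3, a4, a5] (fun k => (13 - k) % 13) i) →
    (∀ i : I6, a0 * comb13 ![a0, a1, a2, a3, a4, a5] (fun k => (0 + k) % 13) i +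
      a1 * comb13 ![a0, a1, a2, a3, a4, a5] (fun k => (1 + k) % 13) i +
      a2 * comb13 ![a0, a1, a2, a3, a4, a5] (fun k => (2 + k) % 13) i +
      (a3 * comb13 ![a0, a1, a2, a3, a4, a5] (fun k => (3 + k) % 13) i +
      a4 * comb13 ![a0, a1, a2, a3, a4, a5] (fun k => (4 + k) % 13) i +
      a5 * comb13 ![a0, a1, a2, a3, a4, a5] (fun k => (5 + k) % 13) i) = ev i e0) →
    (a0 = 1 ∨ a0 = -1) ∧ a1 = 0 ∧ a2 = 0 ∧ a3 = 0 ∧ a4 = 0 ∧ a5 = 0 := by
  decide +kernel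

end Cfsg.Agent.Recog71.PSpSix
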