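import Cfsg.Prelude.Def_Classical
import Cfsg.Agent.Recog71.PSpSixTables
import Cfsg.Agent.Lib.Symplectic.Card

set_option autoImplicit false

/-!
Centralisers of elements of order 7 and 13 in the symplectic group of rank three over three elements,
and the element orders of the product of two primes in the projective group.
-/

namespace Cfsg.Agent.Recog71.PSpSix

open Cfsg Cfsg.Agent.Symplectic

/-- The symplectic group. -/
abbrev G0 : Type := Sp 3 (ZMod 3)

/-- The matrix. -/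
abbrev mt (g : G0) : Matrix I6 I6 (ZMod 3) := g.val

theorem card_G0 : Nat.card G0 = 9170703360 := by
  rw [card_Sp (ZMod.card 3) 3]; norm_num [Finset.prod_range_succ]

theorem exists_el (e : ℕ) (he : e ∈ [1, 9, 23, 30, 41, 56]) : ∃ g : G0, mt g = Matrix.of (pv e) :=
  ⟨⟨Matrix.of (pv e), SymplecticGroup.mem_iff.mpr (pow_symp e he)⟩, rfl⟩

theorem of_ev : Matrix.of ev = (1 : Matrix I6 I6 (ZMod 3)) := by
  ext i j
  rw [Matrix.of_apply, ev, Matrix.one_apply]

theorem mt_pow_table {g : G0} {off n : ℕ} (hp : (off, n) ∈ [(0, 7), (8, 13), (22, 6), (29, 10), (40, 14), (55, 15)])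
    (hg : mt g = Matrix.of (pv (off + 1))) : ∀ k ≤ n, mt (g ^ k) = Matrix.of (pv (off + k)) := by
  intro k hk
  induction k with
  | zero =>
    have hb : off ∈ [0, 8, 22, 29, 40, 55] := by
      simp only [List.mem_cons, Prod.mk.injEq, List.not_mem_nil, or_false] at hp
      rcases hp with h | h | h | h | h | h <;> simp [h.1]
    rw [pow_zero, add_zero, show Matrix.of (pv off) = Matrix.of ev from Matrix.ext (pow_base off hb), of_ev]
    rfl
  | succ k ih =>
    rw [pow_succ, show mt (g ^ k * g) = mt (g ^ k) * mt g from rfl, ih (by omega), hg]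
    ext i j
    rw [Matrix.mul_apply, ← sumI_eq]
    exact pow_step (off, n) hp ⟨k, by omega⟩ i j

section Cyclic

variable {g : G0} {s off n : ℕ} (hs : (s, off) ∈ [(0, 0), (1, 8)])
  (hv : ∀ l : Fin 6, mt (g ^ l.val) = Matrix.of (pv (off + l.val)))

include hs hv in
theorem basis_eq (i j : I6) : ∑ l : Fin 6, kv s l j * mt (g ^ l.val) i e0 = ev i j := by
  rw [← cyc_valid (s, off) hs i j, Fin.sum_univ_six]
  simp only [hv, Matrix.of_apply]
  simp
  ring

include hs hv in
theorem cyc_ext {M M' : Matrix I6 I6 (ZMod 3)} (hM : Commute (mt g) M) (hM' : Commute (mt g) M')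
    (h : ∀ i, M i e0 = M' i e0) : M = M' := by
  have key : ∀ N : Matrix I6 I6 (ZMod 3), Commute (mt g) N → ∀ i j,
      N i j = ∑ l : Fin 6, kv s l j * ∑ k, mt (g ^ l.val) i k * N k e0 := by
    intro N hN i j
    calc N i j = (N * Matrix.of ev) i j := by rw [of_ev, mul_one]
      _ = ∑ l : Fin 6, kv s l j * (N * mt (g ^ l.val)) i e0 := by
        simp only [Matrix.mul_apply, Matrix.of_apply, ← basis_eq hs hv, Finset.mul_sum]
        rw [Finset.sum_comm]
        exact Finset.sum_congr rfl fun l _ => Finset.sum_congr rfl fun k _ => by ring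
      _ = _ := by
        refine Finset.sum_congr rfl fun l _ => ?_
        rw [show mt (g ^ l.val) = mt g ^ l.val from SubmonoidClass.coe_pow g _, ← (hN.pow_left l.val).eq,
          Matrix.mul_apply]
  ext i j
  rw [key M hM, key M' hM']
  simp only [h]

include hs hv in
theorem exists_combination {c : G0} (hc : Commute g c) :
    ∃ a : Fin 6 → ZMod 3, mt c = ∑ l : Fin 6, a l • mt (g ^ l.val) := by
  refine ⟨fun l => ∑ k, kv s l k * mt c k e0, cyc_ext hs hv (congrArg Subtype.val hc.eq) ?_ fun i => ?_⟩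
  · refine Commute.sum_right _ _ _ fun l _ => ?_
    rw [show mt (g ^ l.val) = mt g ^ l.val from SubmonoidClass.coe_pow g _]
    exact ((Commute.refl _).pow_right _).smul_right _
  · rw [Matrix.sum_apply]
    simp only [Matrix.smul_apply, smul_eq_mul, Finset.sum_mul]
    rw [Finset.sum_comm]
    calc mt c i e0 = (Matrix.of ev * mt c) i e0 := by rw [of_ev, one_mul]
      _ = _ := by
        simp only [Matrix.mul_apply, Matrix.of_apply, ← basis_eq hs hv, Finset.sum_mul]
        exact Finset.sum_congr rfl fun k _ => Finset.sum_congr rfl fun l _ => by ring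

end Cyclic

theorem inv_combination {c g : G0} {a : Fin 6 → ZMod 3}
    (h : mt c = ∑ l : Fin 6, a l • mt (g ^ l.val)) :
    mt c⁻¹ = ∑ l : Fin 6, a l • mt (g⁻¹ ^ l.val) := by
  have e : ∀ x : G0, mt x⁻¹ = -Matrix.J (Fin 3) (ZMod 3) * (mt x).transpose * Matrix.J (Fin 3) (ZMod 3) :=
    fun x => SymplecticGroup.coe_inv x
  rw [e, h, Matrix.transpose_sum, Finset.mul_sum, Finset.sum_mul]
  refine Finset.sum_congr rfl fun l _ => ?_
  rw [inv_pow, e, Matrix.transpose_smul, Matrix.mul_smul, Matrix.smul_mul]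

theorem frobenius_combination {c g : G0} {a : Fin 6 → ZMod 3}
    (h : mt c = ∑ l : Fin 6, a l • mt (g ^ l.val)) :
    mt (c ^ 27) = ∑ l : Fin 6, a l • mt ((g ^ 27) ^ l.val) := by
  haveI : Fact (Nat.Prime 3) := ⟨Nat.prime_three⟩
  have hA : mt c = Polynomial.aeval (mt g) (∑ l : Fin 6, Polynomial.C (a l) * Polynomial.X ^ l.val) := by
    rw [h, map_sum]
    refine Finset.sum_congr rfl fun l _ => ?_
    rw [map_mul, map_pow, Polynomial.aeval_C, Polynomial.aeval_X, Algebra.smul_def,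
      show mt (g ^ l.val) = mt g ^ l.val from SubmonoidClass.coe_pow g _]
  rw [show mt (c ^ 27) = mt c ^ (3 ^ 3) from SubmonoidClass.coe_pow c 27, hA, ← map_pow,
    sum_pow_char_pow 3 3, map_sum]
  refine Finset.sum_congr rfl fun l _ => ?_
  have ha : a l ^ 3 ^ 3 = a l := by
    rw [pow_succ, pow_succ, pow_succ, pow_zero, one_mul, pow_mul, pow_mul, ZMod.pow_card, ZMod.pow_card,
      ZMod.pow_card]
  rw [mul_pow, ← Polynomial.C_pow, ha, map_mul, map_pow, map_pow, Polynomial.aeval_C, Polynomial.aeval_X,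
    Algebra.smul_def, show mt ((g ^ 27) ^ l.val) = (mt g ^ 27) ^ l.val by
      rw [show mt ((g ^ 27) ^ l.val) = mt (g ^ 27) ^ l.val from SubmonoidClass.coe_pow _ _,
        show mt (g ^ 27) = mt g ^ 27 from SubmonoidClass.coe_pow g 27]]
  rw [← pow_mul, ← pow_mul, mul_comm l.val (3 ^ 3)]
  norm_num

theorem mt_inj {x y : G0} (h : mt x = mt y) : x = y := Subtype.ext h

theorem exists_seven : ∃ g : G0, orderOf g = 7 ∧ ∀ c : G0, Commute g c → c ^ 28 = 1 := by
  obtain ⟨g, hg⟩ := exists_el 1 (by simp)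
  have hp := mt_pow_table (off := 0) (n := 7) (by simp) hg
  have h7 : g ^ 7 = 1 := mt_inj (by
    rw [hp 7 le_rfl, zero_add, show Matrix.of (pv 7) = Matrix.of ev from Matrix.ext (pow_end.1 7 (by simp)),
      of_ev]
    rfl)
  haveI : Fact (Nat.Prime 7) := ⟨by norm_num⟩
  refine ⟨g, orderOf_eq_prime h7 fun e => ?_, fun c hc => ?_⟩
  · obtain ⟨i, j, h⟩ := (pow_ne 1 (by simp)).1
    rw [e] at hg
    exact h (by rw [← Matrix.of_apply (f := pv 1), ← hg, ← Matrix.of_apply (f := ev), of_ev]; rfl)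
  obtain ⟨a, ha⟩ := exists_combination (s := 0) (off := 0) (by simp) (fun l => hp l.val (by omega)) hc
  have e27 : g ^ 27 = g⁻¹ := eq_inv_of_mul_eq_one_left (by
    rw [← pow_succ, show 27 + 1 = 7 * 4 by norm_num, pow_mul, h7, one_pow])
  have h := frobenius_combination ha
  rw [e27, ← inv_combination ha] at h
  rw [pow_succ, mt_inj h, inv_mul_cancel]

theorem exists_thirteen : ∃ g : G0, orderOf g = 13 ∧ ∀ c : G0, Commute g c →
    c ^ 26 = 1 ∧ c ^ 13 ∈ Subgroup.center G0 := by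
  obtain ⟨g, hg⟩ := exists_el 9 (by simp)
  have hp := mt_pow_table (off := 8) (n := 13) (by simp) hg
  have h13 : g ^ 13 = 1 := mt_inj (by
    rw [hp 13 le_rfl, show Matrix.of (pv (8 + 13)) = Matrix.of ev from Matrix.ext (pow_end.1 21 (by simp)),
      of_ev]
    rfl)
  haveI : Fact (Nat.Prime 13) := ⟨by norm_num⟩
  refine ⟨g, orderOf_eq_prime h13 fun e => ?_, fun c hc => ?_⟩
  · obtain ⟨i, j, h⟩ := (pow_ne 9 (by simp)).1
    rw [e] at hg
    exact h (by rw [← Matrix.of_apply (f := pv 9), ← hg, ← Matrix.of_apply (f := ev), of_ev]; rfl)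
  have hcomb := fun (x : G0) (hx : Commute g x) =>
    exists_combination (s := 1) (off := 8) (by simp) (fun l => hp l.val (by omega)) hx
  obtain ⟨a, ha⟩ := hcomb c hc
  have e27 : g ^ 27 = g := by
    rw [show 27 = 13 * 2 + 1 by norm_num, pow_succ, pow_mul, h13, one_pow, one_mul]
  have h26 : c ^ 26 = 1 := by
    have h := frobenius_combination ha
    rw [e27, ← ha] at h
    have := mt_inj h
    rw [pow_succ] at this
    exact mul_eq_right.mp this
  refine ⟨h26, ?_⟩
  set y := c ^ 13 with hy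
  have hyy : y * y = 1 := by rw [hy, ← pow_add]; exact h26
  obtain ⟨b, hb⟩ := hcomb y (hc.pow_right 13)
  have hgm : ∀ m : ℕ, mt (g ^ m) = Matrix.of (pv (8 + m % 13)) := fun m => by
    rw [← hp (m % 13) (Nat.le_of_lt (Nat.mod_lt _ (by norm_num))), ← pow_eq_pow_mod _ h13]
  have hinv : ∀ l : Fin 6, g⁻¹ ^ l.val = g ^ ((13 - l.val) % 13) := fun l => by
    rw [← pow_eq_pow_mod _ h13, inv_pow]
    exact inv_eq_of_mul_eq_one_right (by rw [← pow_add, Nat.add_sub_cancel' (by omega), h13])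
  have h1 : ∀ i : I6, comb13 b (fun k => k) i =
      comb13 b (fun k => (13 - k) % 13) i := by
    intro i
    have e : mt y i e0 = mt y⁻¹ i e0 := by rw [inv_eq_of_mul_eq_one_right hyy]
    rw [inv_combination hb, hb] at e
    simp only [hinv, hgm, Matrix.sum_apply, Matrix.smul_apply, Matrix.of_apply, smul_eq_mul,
      Fin.sum_univ_six] at e
    simp only [comb13]
    norm_num at e ⊢
    linear_combination e
  have h2 : ∀ i : I6, b 0 * comb13 b (fun k => (0 + k) % 13) i +
      b 1 * comb13 b (fun k => (1 + k) % 13) i +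
      b 2 * comb13 b (fun k => (2 + k) % 13) i +
      (b 3 * comb13 b (fun k => (3 + k) % 13) i +
      b 4 * comb13 b (fun k => (4 + k) % 13) i +
      b 5 * comb13 b (fun k => (5 + k) % 13) i) = ev i e0 := by
    intro i
    have e : (∑ l : Fin 6, b l • mt (g ^ l.val)) * (∑ m : Fin 6, b m • mt (g ^ m.val)) = Matrix.of ev := by
      rw [← hb, of_ev, show mt y * mt y = mt (y * y) from (Submonoid.coe_mul _ y y).symm, hyy]; exact Submonoid.coe_one _
    have hmm : ∀ l m : Fin 6, mt (g ^ l.val) * mt (g ^ m.val) = Matrix.of (pv (8 + (l.val + m.val) % 13)) :=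
      fun l m => by rw [← hgm, pow_add]; rfl
    rw [Finset.sum_mul] at e
    simp only [Matrix.smul_mul, Finset.mul_sum, Matrix.mul_smul, hmm] at e
    have e' := congrFun (congrFun e i) e0
    simp only [Matrix.sum_apply, Matrix.smul_apply, Matrix.of_apply, smul_eq_mul, Fin.sum_univ_six] at e'
    simp only [comb13]
    norm_num at e' ⊢
    linear_combination e'
  have hb' : ![b 0, b 1, b 2, b 3, b 4, b 5] = b := by funext l; fin_cases l <;> rfl
  obtain ⟨h0, hb1, hb2, hb3, hb4, hb5⟩ := fixed_algebra (b 0) (b 1) (b 2) (b 3) (b 4) (b 5)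
    (by rw [hb']; exact h1) (by rw [hb']; exact h2)
  rw [Symplectic.mem_center_iff]
  have hy0 : mt y = b 0 • (1 : Matrix I6 I6 (ZMod 3)) := by
    rw [hb, Fin.sum_univ_six, hb1, hb2, hb3, hb4, hb5]
    simp
  rcases h0 with h0 | h0 <;> rw [h0] at hy0
  · exact Or.inl (mt_inj (hy0.trans (one_smul _ _)))
  · refine Or.inr (mt_inj ?_)
    rw [hy0, neg_smul, one_smul]
    simp [negOne]

/-- Transfer of centraliser facts between subgroups of prime order. -/
theorem exists_conj_commute {p : ℕ} [Fact p.Prime] (hsq : ¬ p ^ 2 ∣ Nat.card G0) {g₀ g : G0}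
    (h₀ : orderOf g₀ = p) (hg : orderOf g = p) :
    ∃ h : G0, ∀ c : G0, Commute g c → Commute g₀ (h * c * h⁻¹) := by
  have hp : p.Prime := Fact.out
  have hsyl : ∀ x : G0, orderOf x = p → ∃ P : Sylow p G0, (P : Subgroup G0) = Subgroup.zpowers x := by
    intro x hx
    have hx' : Nat.card (Subgroup.zpowers x) = p := (Nat.card_zpowers x).trans hx
    obtain ⟨P, hP⟩ := (IsPGroup.of_card (n := 1) (hx'.trans (pow_one p).symm)).exists_le_sylow
    obtain ⟨n, hn⟩ := P.2.exists_card_eq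
    have hn1 : n ≤ 1 := by
      by_contra h
      exact hsq ((pow_dvd_pow p (by omega : 2 ≤ n)).trans (hn ▸ Subgroup.card_subgroup_dvd_card _))
    refine ⟨P, (Subgroup.eq_of_le_of_card_ge hP ?_).symm⟩
    rw [hx', hn]
    calc p ^ n ≤ p ^ 1 := Nat.pow_le_pow_right hp.pos hn1
      _ = p := pow_one p
  obtain ⟨P, hP⟩ := hsyl g hg
  obtain ⟨Q, hQ⟩ := hsyl g₀ h₀
  obtain ⟨h, hh⟩ := MulAction.exists_smul_eq G0 P Q
  refine ⟨h, fun c hc => ?_⟩
  have hmem : g₀ ∈ ((P : Subgroup G0)).map (MulAut.conj h).toMonoidHom := by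
    have : g₀ ∈ (Q : Subgroup G0) := hQ ▸ Subgroup.mem_zpowers g₀
    rw [← hh, Sylow.coe_subgroup_smul] at this
    exact this
  obtain ⟨x, hx, rfl⟩ := Subgroup.mem_map.mp hmem
  rw [hP] at hx
  obtain ⟨k, rfl⟩ := Subgroup.mem_zpowers_iff.mp hx
  exact (hc.zpow_left k).map (MulAut.conj h).toMonoidHom

theorem centraliser_seven {g : G0} (hg : orderOf g = 7) {c : G0} (hc : Commute g c) : c ^ 28 = 1 := by
  haveI : Fact (Nat.Prime 7) := ⟨by norm_num⟩
  obtain ⟨g₀, h₀, hC⟩ := exists_seven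
  obtain ⟨h, hh⟩ := exists_conj_commute (by rw [card_G0]; norm_num) h₀ hg
  have := hC _ (hh c hc)
  rwa [conj_pow, conj_eq_one_iff] at this

theorem centraliser_thirteen {g : G0} (hg : orderOf g = 13) {c : G0} (hc : Commute g c) :
    c ^ 26 = 1 ∧ c ^ 13 ∈ Subgroup.center G0 := by
  haveI : Fact (Nat.Prime 13) := ⟨by norm_num⟩
  obtain ⟨g₀, h₀, hC⟩ := exists_thirteen
  obtain ⟨h, hh⟩ := exists_conj_commute (by rw [card_G0]; norm_num) h₀ hg
  obtain ⟨e1, e2⟩ := hC _ (hh c hc)
  rw [conj_pow] at e1 e2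
  refine ⟨conj_eq_one_iff.mp e1, ?_⟩
  have := Subgroup.Normal.conj_mem inferInstance _ e2 h⁻¹
  simpa [mul_assoc] using this

/-- The projective group. -/
abbrev P0 : Type := PSp 3 (ZMod 3)

theorem card_P0 : Nat.card P0 = 4585351680 := by
  have h := card_PSp (F := ZMod 3) (ZMod.card 3) (show 1 ≤ 3 by norm_num)
  norm_num [Finset.prod_range_succ] at h
  change 2 * Nat.card P0 = _ at h
  omega

theorem center_sq {z : G0} (hz : z ∈ Subgroup.center G0) : z ^ 2 = 1 := by
  rcases Symplectic.mem_center_iff.mp hz with rfl | rfl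
  · exact one_pow 2
  · refine mt_inj ?_
    simp [negOne, pow_two]

theorem mk_pow_eq_one {s : G0} {n : ℕ} :
    (QuotientGroup.mk s : P0) ^ n = 1 ↔ s ^ n ∈ Subgroup.center G0 := by
  rw [← QuotientGroup.mk_pow, QuotientGroup.eq_one_iff]

theorem exists_orderOf_two_primes (p q off : ℕ) (hp : p.Prime) (hq : q.Prime)
    (hpq : (p, q, off) ∈ [(3, 2, 22), (5, 2, 29), (7, 2, 40), (5, 3, 55)]) :
    ∃ x : P0, orderOf x = p * q := by
  simp only [List.mem_cons, Prod.mk.injEq, List.not_mem_nil, or_false] at hpq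
  have hmem : (off, p * q) ∈ [(0, 7), (8, 13), (22, 6), (29, 10), (40, 14), (55, 15)] ∧
      off + 1 ∈ [1, 9, 23, 30, 41, 56] ∧ off + p * q ∈ [28, 39, 54, 70] ∧
      off + p ∈ [1, 9, 24, 25, 31, 34, 42, 47, 58, 60] ∧ off + q ∈ [1, 9, 24, 25, 31, 34, 42, 47, 58, 60] := by
    rcases hpq with ⟨rfl, rfl, rfl⟩ | ⟨rfl, rfl, rfl⟩ | ⟨rfl, rfl, rfl⟩ | ⟨rfl, rfl, rfl⟩ <;> simp
  obtain ⟨hm, h1, hend, hne1, hne2⟩ := hmem
  obtain ⟨s, hs⟩ := exists_el _ h1
  have ht := mt_pow_table hm hs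
  have hneg : mt (negOne : G0) = -Matrix.of ev := by rw [of_ev]; simp [negOne]
  have hnot : ∀ k, k ≤ p * q → off + k ∈ [1, 9, 24, 25, 31, 34, 42, 47, 58, 60] →
      (QuotientGroup.mk s : P0) ^ k ≠ 1 := by
    intro k hk hmem h
    obtain ⟨⟨i, j, hne⟩, i', j', hne'⟩ := pow_ne _ hmem
    rcases Symplectic.mem_center_iff.mp (mk_pow_eq_one.mp h) with e | e
    · have := congrArg mt e
      rw [ht k hk, show mt 1 = Matrix.of ev from of_ev.symm] at this
      exact hne (congrFun (congrFun this i) j)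
    · have := congrArg mt e
      rw [ht k hk, hneg] at this
      exact hne' (congrFun (congrFun this i') j')
  refine ⟨QuotientGroup.mk s, orderOf_eq_of_pow_and_pow_div_prime (Nat.mul_pos hp.pos hq.pos)
    (mk_pow_eq_one.mpr (Symplectic.mem_center_iff.mpr ?_)) fun r hr hd => ?_⟩
  · rcases pow_end.2 _ hend with e | e
    · exact Or.inl (mt_inj ((ht _ le_rfl).trans ((Matrix.ext e).trans of_ev)))
    · exact Or.inr (mt_inj ((ht _ le_rfl).trans ((Matrix.ext e).trans hneg.symm)))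
  · rcases hr.dvd_mul.mp hd with hd' | hd'
    · rw [(Nat.prime_dvd_prime_iff_eq hr hp).mp hd', Nat.mul_div_cancel_left _ hp.pos]
      exact hnot q (Nat.le_mul_of_pos_left q hp.pos) hne2
    · rw [(Nat.prime_dvd_prime_iff_eq hr hq).mp hd', Nat.mul_div_cancel _ hq.pos]
      exact hnot p (Nat.le_mul_of_pos_right p hq.pos) hne1

theorem seven_mul {r : ℕ} {x : P0} (hx : orderOf x = 7 * r) (hr : r ≠ 0) : 7 * r ∣ 28 := by
  obtain ⟨s, rfl⟩ := QuotientGroup.mk_surjective x
  haveI : Fact (Nat.Prime 7) := ⟨by norm_num⟩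
  have hz : s ^ (7 * r) ∈ Subgroup.center G0 := mk_pow_eq_one.mp (hx ▸ pow_orderOf_eq_one _)
  have ht : orderOf (s ^ (2 * r)) = 7 := by
    refine orderOf_eq_prime (by rw [← pow_mul, show 2 * r * 7 = 7 * r * 2 by ring, pow_mul, center_sq hz]) ?_
    intro e
    have : orderOf (QuotientGroup.mk s : P0) ∣ 2 * r :=
      orderOf_dvd_of_pow_eq_one (mk_pow_eq_one.mpr (e ▸ one_mem _))
    rw [hx] at this
    have h2 := (Nat.mul_dvd_mul_iff_right (Nat.pos_of_ne_zero hr)).mp this
    norm_num at h2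
  have h28 := centraliser_seven ht (Commute.pow_self s _)
  exact hx ▸ orderOf_dvd_of_pow_eq_one (mk_pow_eq_one.mpr (h28 ▸ one_mem _))

theorem thirteen_mul {r : ℕ} {x : P0} (hx : orderOf x = 13 * r) (hr : r ≠ 0) (hr2 : ¬ 13 ∣ 2 * r) :
    r = 1 := by
  obtain ⟨s, rfl⟩ := QuotientGroup.mk_surjective x
  haveI : Fact (Nat.Prime 13) := ⟨by norm_num⟩
  have hz : s ^ (13 * r) ∈ Subgroup.center G0 := mk_pow_eq_one.mp (hx ▸ pow_orderOf_eq_one _)
  have ht : orderOf (s ^ (2 * r)) = 13 := by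
    refine orderOf_eq_prime (by rw [← pow_mul, show 2 * r * 13 = 13 * r * 2 by ring, pow_mul, center_sq hz]) ?_
    intro e
    have : orderOf (QuotientGroup.mk s : P0) ∣ 2 * r :=
      orderOf_dvd_of_pow_eq_one (mk_pow_eq_one.mpr (e ▸ one_mem _))
    rw [hx] at this
    exact hr2 ((dvd_mul_right 13 r).trans this)
  have h13 := (centraliser_thirteen ht (Commute.pow_self s _)).2
  have : 13 * r ∣ 13 := hx ▸ orderOf_dvd_of_pow_eq_one (mk_pow_eq_one.mpr h13)
  have := Nat.le_of_dvd (by norm_num) this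
  omega

end Cfsg.Agent.Recog71.PSpSix
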