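import Cfsg.Agent.Recog71.SzEightExt
import Cfsg.Agent.Recog71.PSpSixGroup

set_option autoImplicit false

/-!
The prime graph of `PSp(6,3)` and groups of unbounded order sharing it.
-/

namespace Cfsg.Agent.Recog71.PSpSix

open Cfsg Cfsg.Agent.Symplectic

theorem prime_dvd_card {r : ℕ} (hr : r.Prime) : r ∣ Nat.card P0 ↔ r ∈ [2, 3, 5, 7, 13] := by
  rw [card_P0, show (4585351680 : ℕ) = 2 ^ 9 * (3 ^ 9 * (5 * (7 * 13))) by norm_num,
    hr.dvd_mul, hr.dvd_mul, hr.dvd_mul, hr.dvd_mul]
  simp only [List.mem_cons, List.not_mem_nil, or_false]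
  constructor
  · rintro (h | h | h | h | h)
    · exact .inl ((Nat.prime_dvd_prime_iff_eq hr Nat.prime_two).mp (hr.dvd_of_dvd_pow h))
    · exact .inr (.inl ((Nat.prime_dvd_prime_iff_eq hr Nat.prime_three).mp (hr.dvd_of_dvd_pow h)))
    · exact .inr (.inr (.inl ((Nat.prime_dvd_prime_iff_eq hr Nat.prime_five).mp h)))
    · exact .inr (.inr (.inr (.inl ((Nat.prime_dvd_prime_iff_eq hr (by norm_num)).mp h))))
    · exact .inr (.inr (.inr (.inr ((Nat.prime_dvd_prime_iff_eq hr (by norm_num)).mp h))))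
  · rintro (rfl | rfl | rfl | rfl | rfl) <;> norm_num

theorem edge {r s : ℕ} (hr : r.Prime) (hs : s.Prime) (hne : r ≠ s) :
    (∃ x : P0, orderOf x = r * s) ↔ r * s ∈ [6, 10, 14, 15] := by
  constructor
  · rintro ⟨x, hx⟩
    have hd : r * s ∣ Nat.card P0 := hx ▸ orderOf_dvd_natCard x
    have hr' := (prime_dvd_card hr).mp ((dvd_mul_right r s).trans hd)
    have hs' := (prime_dvd_card hs).mp ((dvd_mul_left s r).trans hd)
    simp only [List.mem_cons, List.not_mem_nil, or_false] at hr' hs' ⊢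
    have hA : r = 7 → 7 * s ∣ 28 := fun e => seven_mul (hx.trans (by rw [e])) hs.ne_zero
    have hB : s = 7 → 7 * r ∣ 28 := fun e => seven_mul (hx.trans (by rw [e, mul_comm])) hr.ne_zero
    have hC : r = 13 → ¬ 13 ∣ 2 * s → s = 1 := fun e h =>
      thirteen_mul (hx.trans (by rw [e])) hs.ne_zero h
    have hD : s = 13 → ¬ 13 ∣ 2 * r → r = 1 := fun e h =>
      thirteen_mul (hx.trans (by rw [e, mul_comm])) hr.ne_zero h
    clear hd hx
    rcases hr' with rfl | rfl | rfl | rfl | rfl <;> rcases hs' with rfl | rfl | rfl | rfl | rfl <;>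
      revert hne hA hB hC hD <;> norm_num
  · intro h
    simp only [List.mem_cons, List.not_mem_nil, or_false] at h
    rcases h with e | e | e | e <;> rw [e]
    · exact exists_orderOf_two_primes 3 2 22 Nat.prime_three Nat.prime_two (by simp)
    · exact exists_orderOf_two_primes 5 2 29 Nat.prime_five Nat.prime_two (by simp)
    · exact exists_orderOf_two_primes 7 2 40 (by norm_num) Nat.prime_two (by simp)
    · exact exists_orderOf_two_primes 5 3 55 Nat.prime_five Nat.prime_three (by simp)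

theorem main {F : Type*} [Field F] [Fintype F] (hF : Fintype.card F = 3) (N : ℕ) :
    ∃ (H : Type) (_ : Group H) (_ : Finite H), N < Nat.card H ∧
      ((∀ p : ℕ, p.Prime → (p ∣ Nat.card (PSp 3 F) ↔ p ∣ Nat.card H)) ∧
      (∀ p q : ℕ, p.Prime → q.Prime → p ≠ q →
        ((∃ g : PSp 3 F, orderOf g = p * q) ↔ (∃ g : H, orderOf g = p * q)))) := by
  classical
  let e : ZMod 3 ≃+* F := FiniteField.ringEquivOfCardEq ((ZMod.card 3).trans hF.symm)
  let f : G0 ≃* Sp 3 F :=
    { toFun := fun g => ⟨g.1.map e, SymplecticGroup.map_mem g.2 e⟩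
      invFun := fun g => ⟨g.1.map e.symm, SymplecticGroup.map_mem g.2 e.symm⟩
      left_inv := fun g => Subtype.ext (Matrix.ext fun i j => e.symm_apply_apply _)
      right_inv := fun g => Subtype.ext (Matrix.ext fun i j => e.apply_symm_apply _)
      map_mul' := fun g h => Subtype.ext (Matrix.map_mul (f := e)) }
  have hcen : (Subgroup.center G0).map f.toMonoidHom = Subgroup.center (Sp 3 F) := by
    ext z
    simp only [Subgroup.mem_map, Subgroup.mem_center_iff]
    constructor
    · rintro ⟨w, hw, rfl⟩ g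
      obtain ⟨g, rfl⟩ := f.surjective g
      show f g * f w = f w * f g
      rw [← map_mul, ← map_mul, hw]
    · intro hz
      exact ⟨f.symm z, fun g => f.injective (by rw [map_mul, map_mul, f.apply_symm_apply]; exact hz _),
        f.apply_symm_apply z⟩
  let E : P0 ≃* PSp 3 F := QuotientGroup.congr _ _ f hcen
  refine ⟨SzEight.Ext (N + 1), inferInstance, inferInstance, SzEight.lt_card N, fun p hp => ?_,
    fun p q hp hq hne => ?_⟩
  · rw [← Nat.card_congr E.toEquiv, prime_dvd_card hp, SzEight.prime_dvd_card hp]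
  · rw [SzEight.edge hp hq hne, ← edge hp hq hne]
    constructor
    · rintro ⟨g, hg⟩
      exact ⟨E.symm g, by rw [MulEquiv.orderOf_eq, hg]⟩
    · rintro ⟨g, hg⟩
      exact ⟨E g, by rw [MulEquiv.orderOf_eq, hg]⟩

end Cfsg.Agent.Recog71.PSpSix
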