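import Mathlib
import Cfsg.Agent.RecogB.Socle

set_option autoImplicit false

/-!
The socle of a finite primitive permutation group.
-/

namespace Cfsg.Agent.Recog71.Socle

open MulAction Cfsg.Agent

universe u

variable {G : Type u} [Group G] {N T : Subgroup G} [hNn : N.Normal]

section Projection

variable (h : RecogB.IsFactor N T)
  (hmin : ∀ M : Subgroup G, M.Normal → M ≤ N → M = ⊥ ∨ M = N)

/-- The component of an element of `N` in the factor `T`. -/
noncomputable def part (n : N) : T :=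
  ⟨(h.decomp hmin n.2).choose, (h.decomp hmin n.2).choose_spec.1⟩

theorem part_eq (n : N) (t : T) (b : G) (hb : b ∈ Subgroup.centralizer (T : Set G))
    (e : (n : G) = t * b) : part h hmin n = t := by
  obtain ⟨ht', b', hb', e'⟩ := (h.decomp hmin n.2).choose_spec
  exact Subtype.ext (h.decomp_unique ht' t.2 hb'.2 hb (e'.symm.trans e)).1

/-- The projection onto a factor. -/
noncomputable def proj : N →* T :=
  MonoidHom.mk' (part h hmin) fun m n => by
    obtain ⟨-, b, hb, eb⟩ := (h.decomp hmin m.2).choose_spec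
    obtain ⟨-, c, hc, ec⟩ := (h.decomp hmin n.2).choose_spec
    refine part_eq h hmin _ _ (b * c) (mul_mem hb.2 hc.2) ?_
    have hcm : b * (part h hmin n : G) = (part h hmin n : G) * b :=
      (Subgroup.mem_centralizer_iff.mp hb.2 _ (part h hmin n).2).symm
    calc ((m * n : N) : G) = (part h hmin m : G) * b * ((part h hmin n : G) * c) := by
          rw [Subgroup.coe_mul]; exact congrArg₂ (· * ·) eb ec
      _ = (part h hmin m : G) * (part h hmin n : G) * (b * c) := by
          rw [mul_assoc, ← mul_assoc b, hcm]; group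

theorem proj_of_mem (n : N) (hn : (n : G) ∈ T) : proj h hmin n = ⟨n, hn⟩ :=
  part_eq h hmin _ _ 1 (one_mem _) (by simp)

theorem proj_eq_one_iff (n : N) :
    proj h hmin n = 1 ↔ (n : G) ∈ Subgroup.centralizer (T : Set G) := by
  constructor
  · intro h1
    obtain ⟨-, b, hb, eb⟩ := (h.decomp hmin n.2).choose_spec
    have h2 : (h.decomp hmin n.2).choose = 1 := congrArg Subtype.val h1
    rw [h2, one_mul] at eb
    rw [eb]; exact hb.2
  · intro h1
    exact part_eq h hmin _ 1 n h1 (by simp)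

end Projection

/-- A finite group has a copy in `Type`. -/
theorem exists_small_copy (H : Type u) [Group H] [Finite H] :
    ∃ (H₀ : Type) (_ : Group H₀), Nonempty (H ≃* H₀) := by
  obtain ⟨n, ⟨e⟩⟩ := Finite.exists_equiv_fin H
  let e' : {i : Fin n // True} ≃ H := (Equiv.subtypeUnivEquiv fun _ => trivial).trans e.symm
  letI := e'.group
  exact ⟨{i : Fin n // True}, e'.group, ⟨(e'.mulEquiv).symm⟩⟩

/-- A non-abelian minimal normal subgroup is a power of a simple group. -/
theorem exists_mulEquiv_pi [Finite G] (hN : N ≠ ⊥)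
    (hmin : ∀ M : Subgroup G, M.Normal → M ≤ N → M = ⊥ ∨ M = N) (hna : ¬ IsMulCommutative N) :
    ∃ (T₀ : Type) (_ : Group T₀) (ι : Type u) (_ : Finite ι) (_ : Nonempty ι),
      IsSimpleGroup T₀ ∧ ¬ IsMulCommutative T₀ ∧ Nonempty (N ≃* (ι → T₀)) := by
  classical
  obtain ⟨T, hT⟩ := RecogB.exists_isFactor hN hmin hna
  obtain ⟨T₀, hT₀, ⟨e₀⟩⟩ := exists_small_copy T
  let ι : Type u := ↥(Set.range fun g : G => RecogB.cj g T)
  have hfac : ∀ i : ι, RecogB.IsFactor N (i : Subgroup G) := by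
    rintro ⟨_, g, rfl⟩; exact hT.cj g
  let Φ : N →* (∀ i : ι, (i : Subgroup G)) :=
    MonoidHom.mk' (fun x i => proj (hfac i) hmin x) fun x y => by
      funext i; exact map_mul (proj (hfac i) hmin) x y
  have hinj : Function.Injective Φ := by
    rw [injective_iff_map_eq_one]
    intro x hx
    have hC : ∀ g : G, RecogB.cj g T ≤ Subgroup.centralizer ({(x : G)} : Set G) := by
      intro g y hy
      rw [Subgroup.mem_centralizer_iff]
      rintro _ rfl
      exact (Subgroup.mem_centralizer_iff.mp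
        ((proj_eq_one_iff (hfac ⟨RecogB.cj g T, g, rfl⟩) hmin x).mp
          (congrFun hx ⟨RecogB.cj g T, g, rfl⟩)) y hy).symm
    have hNx : N ≤ Subgroup.centralizer ({(x : G)} : Set G) := by
      exact (hT.generate hmin).ge.trans (iSup_le hC)
    rcases hmin (N ⊓ Subgroup.centralizer (N : Set G)) inferInstance inf_le_left with hb | hb
    · have : (x : G) ∈ N ⊓ Subgroup.centralizer (N : Set G) :=
        ⟨x.2, Subgroup.mem_centralizer_iff.mpr fun y hy =>
          (Subgroup.mem_centralizer_iff.mp (hNx hy) _ rfl).symm⟩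
      rw [hb, Subgroup.mem_bot] at this
      exact Subtype.ext this
    · exact absurd ⟨⟨fun a b => Subtype.ext
        (Subgroup.mem_centralizer_iff.mp (hb.symm ▸ b.2 : (b : G) ∈ N ⊓ _).2 a a.2)⟩⟩ hna
  have hsurj : Function.Surjective Φ := by
    intro f
    have : f ∈ Φ.range := by
      refine Subgroup.pi_mem_of_mulSingle_mem _ fun i => ?_
      refine ⟨⟨f i, (hfac i).le (f i).2⟩, ?_⟩
      funext j
      by_cases hj : j = i
      · subst hj
        rw [Pi.mulSingle_eq_same]
        exact proj_of_mem (hfac j) hmin _ (f j).2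
      · rw [Pi.mulSingle_eq_of_ne hj]
        exact (proj_eq_one_iff (hfac j) hmin _).mpr
          ((hfac j).le_centralizer_of_ne (hfac i) (fun e => hj (Subtype.ext e.symm)) (f i).2)
    exact this
  have hiso : ∀ i : ι, Nonempty ((i : Subgroup G) ≃* T₀) := by
    rintro ⟨_, g, rfl⟩
    exact ⟨(T.equivMapOfInjective _ (MulAut.conj g).injective).symm.trans e₀⟩
  haveI := hT.simple
  haveI : Nontrivial T₀ := e₀.symm.toEquiv.nontrivial
  refine ⟨T₀, hT₀, ι, inferInstance, ⟨⟨_, 1, rfl⟩⟩,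
    IsSimpleGroup.isSimpleGroup_of_surjective e₀.toMonoidHom e₀.surjective, fun hc => ?_, ?_⟩
  · refine hT.nonab ⟨⟨fun a b => e₀.injective ?_⟩⟩
    rw [map_mul, map_mul]; exact hc.is_comm.comm _ _
  · exact ⟨(MulEquiv.ofBijective Φ ⟨hinj, hsurj⟩).trans
      (MulEquiv.piCongrRight fun i => (hiso i).some)⟩

section Primitive

variable {Ω : Type*} [MulAction G Ω] [FaithfulSMul G Ω]

omit hNn

theorem eq_one_of_fixed {x : G} {M : Subgroup G} [IsPretransitive M Ω]
    (hx : ∀ m ∈ M, m * x = x * m) {a : Ω} (ha : x • a = a) : x = 1 := by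
  refine FaithfulSMul.eq_of_smul_eq_smul (fun ω : Ω => ?_)
  obtain ⟨⟨m, hm⟩, rfl⟩ := exists_smul_eq M a ω
  show x • m • a = (1 : G) • m • a
  rw [one_smul, ← mul_smul, ← hx m hm, mul_smul, ha]

/-- Commuting transitive subgroups are isomorphic. -/
theorem nonempty_mulEquiv_of_commute [Nonempty Ω] {M M' : Subgroup G} [IsPretransitive M Ω]
    [IsPretransitive M' Ω] (hc : ∀ m ∈ M, ∀ n ∈ M', m * n = n * m) : Nonempty (M ≃* M') := by
  obtain ⟨a⟩ := ‹Nonempty Ω›
  have hsmul : ∀ (m : M) (n : M') (ω : Ω), (m : G) • (n : G) • ω = (n : G) • (m : G) • ω :=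
    fun m n ω => by rw [← mul_smul, hc m m.2 n n.2, mul_smul]
  have hex : ∀ m : M, ∃ n : M', (n : G) • a = (m : G)⁻¹ • a := fun m => exists_smul_eq M' a _
  choose f hf using hex
  have huniq : ∀ n n' : M', (n : G) • a = (n' : G) • a → n = n' := by
    intro n n' h
    have h1 : ((n' : G)⁻¹ * n) = 1 :=
      eq_one_of_fixed (M := M) (fun m hm => hc m hm _ (mul_mem (inv_mem n'.2) n.2))
        (a := a) (by rw [mul_smul, h, inv_smul_smul])
    exact Subtype.ext (inv_mul_eq_one.mp h1).symm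
  have hmul : ∀ m₁ m₂ : M, f (m₁ * m₂) = f m₁ * f m₂ := by
    intro m₁ m₂
    refine huniq _ _ ?_
    rw [hf, Subgroup.coe_mul, mul_inv_rev, mul_smul, Subgroup.coe_mul, mul_smul, hf m₂, ← hf m₁]
    exact hsmul m₂⁻¹ (f m₁) a
  refine ⟨MulEquiv.ofBijective (MonoidHom.mk' f hmul) ⟨fun m m' h => ?_, fun n => ?_⟩⟩
  · have h1 : (m : G)⁻¹ • a = (m' : G)⁻¹ • a := by rw [← hf, ← hf]; exact congrArg (fun z : M' => (z : G) • a) h
    have h2 : ((m' : G) * (m : G)⁻¹) = 1 :=
      eq_one_of_fixed (M := M')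
        (fun n hn => (hc _ (mul_mem m'.2 (inv_mem m.2)) n hn).symm)
        (a := a) (by rw [mul_smul, h1, smul_inv_smul])
    exact Subtype.ext (mul_inv_eq_one.mp h2).symm
  · obtain ⟨m, hm⟩ := exists_smul_eq M a ((n : G) • a)
    refine ⟨m⁻¹, huniq _ _ ?_⟩
    show (f m⁻¹ : G) • a = (n : G) • a
    rw [hf, InvMemClass.coe_inv, inv_inv]
    exact hm

/-- The socle of a finite primitive group. -/
theorem socle_cases [Finite G] [Finite Ω] (hprim : IsPreprimitive G Ω) (N : Subgroup G)
    (hN : N = sSup {V : Subgroup G | V.Normal ∧ V ≠ ⊥ ∧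
      ∀ M : Subgroup G, M.Normal → M ≤ V → M = ⊥ ∨ M = V}) :
    (∃ p : ℕ, p.Prime ∧ IsMulCommutative N ∧ (∀ x : N, x ^ p = 1) ∧
      IsPretransitive N Ω ∧ ∀ ω : Ω, MulAction.stabilizer N ω = ⊥) ∨
    (∃ (T : Type) (_ : Group T) (m : ℕ), 1 ≤ m ∧ IsSimpleGroup T ∧ ¬ IsMulCommutative T ∧
      Nonempty (N ≃* (Fin m → T))) := by
  classical
  set S := {V : Subgroup G | V.Normal ∧ V ≠ ⊥ ∧
      ∀ M : Subgroup G, M.Normal → M ≤ V → M = ⊥ ∨ M = V} with hS
  rcases subsingleton_or_nontrivial Ω with hΩ | hΩ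
  · haveI : Subsingleton G :=
      ⟨fun a b => FaithfulSMul.eq_of_smul_eq_smul (fun ω : Ω => Subsingleton.elim _ _)⟩
    exact Or.inl ⟨2, Nat.prime_two, ⟨⟨fun _ _ => Subsingleton.elim _ _⟩⟩,
      fun _ => Subsingleton.elim _ _, ⟨fun x y => ⟨1, Subsingleton.elim _ _⟩⟩,
      fun _ => Subsingleton.elim _ _⟩
  haveI := hprim
  have htrans : ∀ V ∈ S, IsPretransitive V Ω := by
    intro V hV
    haveI := hV.1
    refine IsQuasiPreprimitive.isPretransitive_of_normal fun e => hV.2.1 ?_
    rw [eq_bot_iff]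
    intro x hx
    rw [Subgroup.mem_bot]
    refine FaithfulSMul.eq_of_smul_eq_smul (fun ω : Ω => ?_)
    have : ω ∈ fixedPoints V Ω := by rw [e]; trivial

    rw [one_smul]; exact this ⟨x, hx⟩
  have hcomm : ∀ V ∈ S, ∀ W ∈ S, V ≠ W → ∀ v ∈ V, ∀ w ∈ W, v * w = w * v := by
    intro V hV W hW hne v hv w hw
    haveI := hV.1
    haveI := hW.1
    refine Subgroup.commute_of_normal_of_disjoint V W inferInstance inferInstance ?_ v w hv hw
    rw [disjoint_iff]
    rcases hV.2.2 _ inferInstance (inf_le_left (b := W)) with h | h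
    · exact h
    · rcases hW.2.2 _ hV.1 (inf_eq_left.mp h) with h' | h'
      · exact absurd h' hV.2.1
      · exact absurd h' hne
  have hGne : Nontrivial G := by
    by_contra h
    haveI := not_nontrivial_iff_subsingleton.mp h
    obtain ⟨x, y, hxy⟩ := exists_pair_ne Ω
    obtain ⟨g, hg⟩ := exists_smul_eq G x y
    exact hxy (by rw [← hg, Subsingleton.elim g 1, one_smul])
  obtain ⟨M, -, hM⟩ := exists_minimal_le_of_wellFoundedLT
    (fun V : Subgroup G => V.Normal ∧ V ≠ ⊥) ⊤ ⟨inferInstance, top_ne_bot⟩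
  obtain ⟨⟨hMn, hMne⟩, hMmin⟩ := hM
  have hMS : M ∈ S := ⟨hMn, hMne, fun V hV hle => by
    by_cases hb : V = ⊥
    · exact Or.inl hb
    · exact Or.inr (le_antisymm hle (hMmin ⟨hV, hb⟩ hle))⟩
  haveI := hMn
  haveI := htrans M hMS
  by_cases hone : ∀ V ∈ S, V = M
  · have hNM : N = M := hN.trans (le_antisymm (sSup_le fun V hV => (hone V hV).le) (le_sSup hMS))
    subst hNM
    by_cases hab : IsMulCommutative N
    · obtain ⟨p, hp, hpow⟩ := Perm.exists_prime_exponent N hMne hMS.2.2 hab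
      refine Or.inl ⟨p, hp, hab, fun x => Subtype.ext (by simpa using hpow x x.2), htrans N hMS,
        fun ω => ?_⟩
      rw [eq_bot_iff]
      intro x hx
      rw [Subgroup.mem_bot]
      refine Subtype.ext (eq_one_of_fixed (M := N) (fun m hm => ?_) (a := ω) hx)
      exact congrArg Subtype.val (hab.is_comm.comm (⟨m, hm⟩ : N) x)
    · obtain ⟨T, hTg, ι, hι, hne, hs, hna, ⟨e⟩⟩ := exists_mulEquiv_pi hMne hMS.2.2 hab
      obtain ⟨m, ⟨em⟩⟩ := Finite.exists_equiv_fin ι
      refine Or.inr ⟨T, hTg, m, ?_, hs, hna, ⟨e.trans (MulEquiv.arrowCongr em (MulEquiv.refl T))⟩⟩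
      rcases Nat.eq_zero_or_pos m with h0 | h0
      · subst h0; exact (IsEmpty.false (em hne.some)).elim
      · exact h0
  push Not at hone
  obtain ⟨M', hM'S, hM'ne⟩ := hone
  haveI := htrans M' hM'S
  haveI := hM'S.1
  have hMM' : ∀ m ∈ M, ∀ n ∈ M', m * n = n * m := hcomm M hMS M' hM'S hM'ne.symm
  have hnab : ¬ IsMulCommutative M := by
    intro hab
    suffices hle : M ≤ M' by
      rcases hM'S.2.2 M hMn hle with h | h
      · exact hMne h
      · exact hM'ne h.symm
    intro x hx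
    obtain ⟨a, -, -⟩ := exists_pair_ne Ω
    obtain ⟨n, hn⟩ := exists_smul_eq M' a (x • a)
    have : (n : G)⁻¹ * x = 1 := eq_one_of_fixed (M := M) (fun m hm => by
      have h1 : Commute m x := congrArg Subtype.val (hab.is_comm.comm (⟨m, hm⟩ : M) ⟨x, hx⟩)
      have h2 : Commute m (n : G) := hMM' m hm n n.2
      exact (h2.inv_right.mul_right h1).eq) (a := a)
      (by rw [mul_smul, inv_smul_eq_iff]; exact hn.symm)
    rw [← inv_mul_eq_one.mp this]; exact n.2
  have hall : ∀ V ∈ S, V = M ∨ V = M' := by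
    intro V hV
    by_contra hne
    push Not at hne
    haveI := htrans V hV
    have hle : V ≤ M' := by
      intro x hx
      obtain ⟨a, -, -⟩ := exists_pair_ne Ω
      obtain ⟨n, hn⟩ := exists_smul_eq M' a (x • a)
      have : (n : G)⁻¹ * x = 1 := eq_one_of_fixed (M := M) (fun m hm => by
        have h1 : Commute m x := hcomm M hMS V hV hne.1.symm m hm x hx
        have h2 : Commute m (n : G) := hMM' m hm n n.2
        exact (h2.inv_right.mul_right h1).eq) (a := a)
        (by rw [mul_smul, inv_smul_eq_iff]; exact hn.symm)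
      rw [← inv_mul_eq_one.mp this]; exact n.2
    rcases hM'S.2.2 V hV.1 hle with h | h
    · exact hV.2.1 h
    · exact hne.2 h
  have hNsup : N = M ⊔ M' := hN.trans (le_antisymm (sSup_le fun V hV => by
      rcases hall V hV with rfl | rfl
      · exact le_sup_left
      · exact le_sup_right) (sup_le (le_sSup hMS) (le_sSup hM'S)))
  let φ : M × M' →* G := MonoidHom.noncommCoprod M.subtype M'.subtype fun m n => hMM' m m.2 n n.2
  have hdisj : M ⊓ M' = ⊥ := by
    rcases hMS.2.2 _ inferInstance (inf_le_left (b := M')) with h | h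
    · exact h
    · rcases hM'S.2.2 M hMn (inf_eq_left.mp h) with h' | h'
      · exact absurd h' hMne
      · exact absurd h'.symm hM'ne
  have hφ : Function.Injective φ := by
    rw [injective_iff_map_eq_one]
    rintro ⟨m, n⟩ h
    have h' : (m : G) * n = 1 := h
    have hm : (m : G) ∈ M ⊓ M' := ⟨m.2, by rw [mul_eq_one_iff_eq_inv.mp h']; exact M'.inv_mem n.2⟩
    rw [hdisj, Subgroup.mem_bot] at hm
    rw [hm, one_mul] at h'
    exact Prod.ext (Subtype.ext hm) (Subtype.ext h')
  have hrange : φ.range = N := by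
    rw [hNsup]
    exact (MonoidHom.noncommCoprod_range _ _ _).trans
      (by rw [Subgroup.range_subtype, Subgroup.range_subtype])
  obtain ⟨T, hTg, ι, hι, hne, hs, hna, ⟨e⟩⟩ := exists_mulEquiv_pi hMne hMS.2.2 hnab
  haveI : Nonempty Ω := inferInstance
  obtain ⟨e'⟩ := nonempty_mulEquiv_of_commute (Ω := Ω) hMM'
  obtain ⟨m, ⟨em⟩⟩ := Finite.exists_equiv_fin (ι ⊕ ι)
  refine Or.inr ⟨T, hTg, m, ?_, hs, hna, ⟨?_⟩⟩
  · rcases Nat.eq_zero_or_pos m with h0 | h0
    · subst h0; exact (IsEmpty.false (em (Sum.inl hne.some))).elim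
    · exact h0
  · let e₂ : (ι → T) × (ι → T) ≃* (ι ⊕ ι → T) :=
      { (Equiv.sumArrowEquivProdArrow ι ι T).symm with
        map_mul' := fun f g => by funext i; cases i <;> rfl }
    exact ((((MulEquiv.subgroupCongr hrange).symm.trans (MonoidHom.ofInjective hφ).symm).trans
      (MulEquiv.prodCongr e (e'.symm.trans e))).trans e₂).trans
      (MulEquiv.arrowCongr em (MulEquiv.refl T))

end Primitive

end Cfsg.Agent.Recog71.Socle
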