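import Mathlib
import Cfsg.Agent.Recog71.SL2Orders

set_option autoImplicit false

/-!
A group `V : (2 × PSL(2, q))` with element orders dividing `6`, `9`, `q - 1` or `(q + 1) / 2`, for `q` an
odd power of `3`: the module is a sum of copies of the natural module tensored with its Frobenius twist.
-/

namespace Cfsg.Agent.Recog71.ReeCube

open Matrix
open scoped MatrixGroups

universe u

variable {F : Type u} [Field F]

theorem cayley (A : Matrix (Fin 2) (Fin 2) F) : A * A + A.det • (1 : Matrix (Fin 2) (Fin 2) F) = A.trace • A := by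
  ext i j
  fin_cases i <;> fin_cases j <;>
    simp [Matrix.mul_apply, Fin.sum_univ_two, Matrix.trace_fin_two, Matrix.det_fin_two] <;> ring

theorem cayley_one {A : Matrix (Fin 2) (Fin 2) F} (h : A.det = 1) : A * A + 1 = A.trace • A := by
  have := cayley A
  rwa [h, one_smul] at this

/-- The trace identity behind fixed-point-freeness. -/
theorem trace_of_fixed {A B M : Matrix (Fin 2) (Fin 2) F} (hA : A.det = 1) (hB : B.det = 1)
    (hM : M ≠ 0) {c : F} (hc : c * c = 1) (h : A * M * B = c • M) : B.trace = c * A.trace := by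
  have h2 : A * A * M * (B * B) = M := by
    rw [show A * A * M * (B * B) = A * (A * M * B) * B by simp only [mul_assoc], h, mul_smul_comm,
      smul_mul_assoc, h, smul_smul, hc, one_smul]
  have e1 : M + M * (B * B) = (c * A.trace) • (M * B) := by
    have e : (A * A + 1) * M * (B * B) = (A.trace • A) * M * (B * B) := by rw [cayley_one hA]
    rw [add_mul, add_mul, one_mul, h2, smul_mul_assoc, smul_mul_assoc, ← mul_assoc (A * M) B B, h,
      smul_mul_assoc, smul_smul, mul_comm A.trace c] at e
    exact e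
  have e2 : M + M * (B * B) = B.trace • (M * B) := by
    have e : M * (B * B + 1) = M * (B.trace • B) := by rw [cayley_one hB]
    rw [mul_add, mul_one, mul_smul_comm, add_comm] at e
    exact e
  by_contra hne
  have h0 : (B.trace - c * A.trace) • (M * B) = 0 := by rw [sub_smul, ← e1, ← e2, sub_self]
  rcases smul_eq_zero.mp h0 with h1 | h1
  · exact hne (sub_eq_zero.mp h1)
  · exact hM (by
      have hu : IsUnit B := (Matrix.isUnit_iff_isUnit_det B).mpr (by rw [hB]; exact isUnit_one)
      exact hu.mul_left_eq_zero.mp h1)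

variable [CharP F 3]

/-- The module. -/
abbrev V (F : Type u) (n : ℕ) : Type u := Fin n → Matrix (Fin 2) (Fin 2) F

/-- The twisting matrix of an element. -/
def tw (x : SL(2, F)) : Matrix (Fin 2) (Fin 2) F :=
  ((x : Matrix (Fin 2) (Fin 2) F).map (frobenius F 3))ᵀ

theorem det_tw (x : SL(2, F)) : (tw x).det = 1 := by
  rw [tw, Matrix.det_transpose, ← RingHom.mapMatrix_apply, ← RingHom.map_det, x.det_coe, map_one]

theorem trace_tw (x : SL(2, F)) : (tw x).trace = (x : Matrix (Fin 2) (Fin 2) F).trace ^ 3 := by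
  simp [tw, Matrix.trace_fin_two, frobenius_def, add_pow_char]

theorem tw_mul (x y : SL(2, F)) : tw (x * y) = tw y * tw x := by
  simp [tw, ← Matrix.transpose_mul, Matrix.map_mul]

theorem tw_one : tw (1 : SL(2, F)) = 1 := by
  simp [tw, Matrix.map_one]

variable (n : ℕ)

/-- The additive action of an element. -/
def actAdd (x : SL(2, F)) : AddAut (V F n) where
  toFun v i := (x : Matrix (Fin 2) (Fin 2) F) * v i * tw x
  invFun v i := ((x⁻¹ : SL(2, F)) : Matrix (Fin 2) (Fin 2) F) * v i * tw x⁻¹
  left_inv v := funext fun i => by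
    show ((x⁻¹ : SL(2, F)) : Matrix (Fin 2) (Fin 2) F) * ((x : Matrix (Fin 2) (Fin 2) F) * v i * tw x) * tw x⁻¹ = v i
    rw [show ((x⁻¹ : SL(2, F)) : Matrix (Fin 2) (Fin 2) F) * ((x : Matrix (Fin 2) (Fin 2) F) * v i * tw x) * tw x⁻¹
      = (((x⁻¹ : SL(2, F)) : Matrix (Fin 2) (Fin 2) F) * (x : Matrix (Fin 2) (Fin 2) F)) * v i * (tw x * tw x⁻¹) by
        simp only [mul_assoc], ← Matrix.SpecialLinearGroup.coe_mul, ← tw_mul, inv_mul_cancel, tw_one,
      Matrix.SpecialLinearGroup.coe_one, one_mul, mul_one]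
  right_inv v := funext fun i => by
    show (x : Matrix (Fin 2) (Fin 2) F) * (((x⁻¹ : SL(2, F)) : Matrix (Fin 2) (Fin 2) F) * v i * tw x⁻¹) * tw x = v i
    rw [show (x : Matrix (Fin 2) (Fin 2) F) * (((x⁻¹ : SL(2, F)) : Matrix (Fin 2) (Fin 2) F) * v i * tw x⁻¹) * tw x
      = ((x : Matrix (Fin 2) (Fin 2) F) * ((x⁻¹ : SL(2, F)) : Matrix (Fin 2) (Fin 2) F)) * v i * (tw x⁻¹ * tw x) by
        simp only [mul_assoc], ← Matrix.SpecialLinearGroup.coe_mul, ← tw_mul, mul_inv_cancel, tw_one,
      Matrix.SpecialLinearGroup.coe_one, one_mul, mul_one]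
  map_add' v w := funext fun i => by
    show _ * (v i + w i) * _ = _
    rw [mul_add, add_mul]; rfl

/-- The multiplicative module. -/
abbrev A (F : Type u) (n : ℕ) : Type u := Multiplicative (V F n)

/-- The action. -/
def psi : SL(2, F) →* MulAut (A F n) where
  toFun x := AddEquiv.toMultiplicative (actAdd n x)
  map_one' := MulEquiv.ext fun v => by
    refine Multiplicative.toAdd.injective (funext fun i => ?_)
    show ((1 : SL(2, F)) : Matrix (Fin 2) (Fin 2) F) * Multiplicative.toAdd v i * tw 1 = _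
    rw [tw_one, Matrix.SpecialLinearGroup.coe_one, one_mul, mul_one]
    rfl
  map_mul' x y := MulEquiv.ext fun v => by
    refine Multiplicative.toAdd.injective (funext fun i => ?_)
    show ((x * y : SL(2, F)) : Matrix (Fin 2) (Fin 2) F) * Multiplicative.toAdd v i * tw (x * y) =
      (x : Matrix (Fin 2) (Fin 2) F) * ((y : Matrix (Fin 2) (Fin 2) F) * Multiplicative.toAdd v i * tw y) * tw x
    rw [Matrix.SpecialLinearGroup.coe_mul, tw_mul]
    simp only [mul_assoc]

/-- The inversion. -/
def eps : MulAut (A F n) := MulEquiv.inv (A F n)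

theorem eps_apply (v : A F n) : eps n v = v⁻¹ := rfl

theorem eps_comm (g : MulAut (A F n)) : eps n * g = g * eps n :=
  MulEquiv.ext fun v => (map_inv g v).symm

theorem eps_sq : eps n * eps n = (1 : MulAut (A F n)) := MulEquiv.ext fun v => inv_inv v

/-- The group of automorphisms. -/
def L : Subgroup (MulAut (A F n)) where
  carrier := {g | ∃ x : SL(2, F), g = psi n x ∨ g = eps n * psi n x}
  one_mem' := ⟨1, Or.inl (map_one _).symm⟩
  mul_mem' := by
    rintro a b ⟨x, hx⟩ ⟨y, hy⟩
    refine ⟨x * y, ?_⟩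
    rcases hx with rfl | rfl <;> rcases hy with rfl | rfl
    · exact Or.inl (map_mul _ _ _).symm
    · right; rw [← mul_assoc, ← eps_comm, mul_assoc, map_mul]
    · right; rw [mul_assoc, map_mul]
    · left
      rw [show eps n * psi n x * (eps n * psi n y) = eps n * (psi n x * eps n) * psi n y by
        simp only [mul_assoc], ← eps_comm, ← mul_assoc, eps_sq, one_mul, map_mul]
  inv_mem' := by
    rintro a ⟨x, hx⟩
    refine ⟨x⁻¹, ?_⟩
    rcases hx with rfl | rfl
    · exact Or.inl (map_inv _ _).symm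
    · right
      rw [_root_.mul_inv_rev, map_inv, eps_comm n]
      rw [inv_eq_of_mul_eq_one_left (eps_sq (F := F) n)]

/-- The group. -/
abbrev X (F : Type u) [Field F] [CharP F 3] (n : ℕ) : Type u :=
  A F n ⋊[(L (F := F) n).subtype] ↥(L (F := F) n)

theorem psi_apply (x : SL(2, F)) (v : A F n) (i : Fin n) : Multiplicative.toAdd (psi n x v) i =
    (x : Matrix (Fin 2) (Fin 2) F) * Multiplicative.toAdd v i * tw x := rfl

theorem psi_neg_one : psi n (-1 : SL(2, F)) = 1 := MulEquiv.ext fun v => by
  refine Multiplicative.toAdd.injective (funext fun i => ?_)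
  rw [psi_apply]
  simp [tw, Matrix.map_neg, Matrix.map_one]

theorem pow_three_left (a : A F n) : a ^ 3 = 1 := by
  refine Multiplicative.toAdd.injective (funext fun i => ?_)
  show ((3 : ℕ) • Multiplicative.toAdd a) i = 0
  ext k l
  simp only [Pi.smul_apply, Matrix.smul_apply, nsmul_eq_mul, CharP.cast_eq_zero, zero_mul]
  rfl

theorem mul_left_eq (g h : X F n) : (g * h).left = g.left * (g.right : MulAut (A F n)) h.left := rfl

theorem pow_of_right (ξ : X F n) {k : ℕ} (h : ξ.right ^ k = 1) : ξ ^ (3 * k) = 1 := by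
  have hr : (ξ ^ k).right = 1 := by
    rw [← SemidirectProduct.rightHom_eq_right, map_pow]; exact h
  have e : ξ ^ k = SemidirectProduct.inl (ξ ^ k).left :=
    SemidirectProduct.ext rfl (by rw [hr]; rfl)
  rw [mul_comm, pow_mul, e, ← map_pow, pow_three_left, map_one]

theorem pow_of_right_eps (ξ : X F n) {k : ℕ} (h : ((ξ.right ^ k : L (F := F) n) : MulAut (A F n)) = eps n) :
    ξ ^ (2 * k) = 1 := by
  have hr : (ξ ^ k).right = ξ.right ^ k := by
    rw [← SemidirectProduct.rightHom_eq_right, map_pow]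
  rw [mul_comm, pow_mul, sq]
  refine SemidirectProduct.ext ?_ ?_
  · rw [mul_left_eq, hr, h, eps_apply, mul_inv_cancel]; rfl
  · show (ξ ^ k).right * (ξ ^ k).right = 1
    rw [hr]
    exact Subtype.ext (by rw [Subgroup.coe_mul, h, eps_sq]; rfl)

theorem pow_of_free [Finite F] (ξ : X F n) {k : ℕ} (h : ξ.right ^ k = 1)
    (hfree : ∀ v, (ξ.right : MulAut (A F n)) v = v → v = 1) : ξ ^ k = 1 := by
  have hinj : Function.Injective fun v : A F n => v * ((ξ.right : MulAut (A F n)) v)⁻¹ := by
    intro v w e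
    simp only at e
    have := hfree (v / w) (by
      rw [map_div, div_eq_div_iff_mul_eq_mul]
      rw [mul_inv_eq_iff_eq_mul, mul_right_comm, eq_mul_inv_iff_mul_eq] at e
      rw [mul_comm, ← e, mul_comm])
    exact div_eq_one.mp this
  obtain ⟨v, hv⟩ := (Finite.injective_iff_surjective.mp hinj) ξ.left
  have e : ξ = SemidirectProduct.inl v * SemidirectProduct.inr ξ.right * (SemidirectProduct.inl v)⁻¹ := by
    refine SemidirectProduct.ext ?_ ?_
    · simp [← hv]
    · simp
  rw [e, conj_pow, ← map_pow, h, map_one, mul_one, mul_inv_cancel]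

theorem eq_pm_one_of_sq {y : SL(2, F)} (h : y * y = 1) : y = 1 ∨ y = -1 := by
  have h2 : (2 : F) ≠ 0 := fun e => by
    have : ((2 : ℕ) : F) = 0 := by exact_mod_cast e
    rw [CharP.cast_eq_zero_iff F 3] at this
    omega
  have hc := cayley_one y.det_coe
  rw [← Matrix.SpecialLinearGroup.coe_mul, h, Matrix.SpecialLinearGroup.coe_one] at hc
  have e00 := congrFun (congrFun hc 0) 0
  have e01 := congrFun (congrFun hc 0) 1
  have e10 := congrFun (congrFun hc 1) 0
  have e11 := congrFun (congrFun hc 1) 1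
  simp [one_add_one_eq_two] at e00 e01 e10 e11
  have ht : (y : Matrix (Fin 2) (Fin 2) F).trace ≠ 0 := by
    intro e
    rw [e, zero_mul] at e00
    exact h2 e00
  have h01 : y 0 1 = 0 := e01.resolve_left ht
  have h10 : y 1 0 = 0 := e10.resolve_left ht
  have heq : y 0 0 = y 1 1 := mul_left_cancel₀ ht (by rw [← e00, ← e11])
  have hd : y 0 0 * y 0 0 = 1 := by
    have := y.det_coe
    rw [Matrix.det_fin_two, h01, zero_mul, sub_zero, ← heq] at this
    exact this
  rcases mul_self_eq_one_iff.mp hd with e | e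
  · left
    ext i j; fin_cases i <;> fin_cases j <;> simp [e, h01, h10, ← heq]
  · right
    ext i j; fin_cases i <;> fin_cases j <;> simp [e, h01, h10, ← heq]

theorem psi_pow_eq_one {x : SL(2, F)} {k : ℕ} (h : x ^ (2 * k) = 1) : psi n x ^ k = 1 := by
  rw [mul_comm, pow_mul, sq] at h
  rcases eq_pm_one_of_sq h with e | e
  · rw [← map_pow, e, map_one]
  · rw [← map_pow, e, psi_neg_one]

variable [Fintype F] {m : ℕ}

theorem not_sq (hF : Fintype.card F = 3 ^ (2 * m + 1)) (t : F) : t ^ 2 ≠ -1 := fun h => by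
  have h' := FiniteField.isSquare_neg_one_iff.mp (⟨t, by rw [← h, sq]⟩ : IsSquare (-1 : F))
  rw [hF, Nat.pow_mod] at h'
  have : ∀ k, (3 % 4) ^ (2 * k + 1) % 4 = 3 := fun k => by
    rw [pow_succ, pow_mul, Nat.mul_mod, Nat.pow_mod]; norm_num
  exact h' (this m)

theorem card_facts (hF : Fintype.card F = 3 ^ (2 * m + 1)) : ∃ s l,
    Fintype.card F - 1 = 2 * s ∧ Odd s ∧ Fintype.card F + 1 = 2 * (2 * l) := by
  have h4 : 3 ^ (2 * m + 1) % 4 = 3 := by
    rw [pow_succ, pow_mul, Nat.mul_mod, Nat.pow_mod]; norm_num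
  refine ⟨(Fintype.card F - 1) / 2, (Fintype.card F + 1) / 4, ?_, ?_, ?_⟩
  · rw [hF]; omega
  · rw [hF, Nat.odd_iff]; omega
  · rw [hF]; omega

theorem orderOf_X_dvd (hF : Fintype.card F = 3 ^ (2 * m + 1)) (ξ : X F n) :
    orderOf ξ ∣ 6 ∨ orderOf ξ ∣ 9 ∨ orderOf ξ ∣ Fintype.card F - 1 ∨
      orderOf ξ ∣ (Fintype.card F + 1) / 2 := by
  obtain ⟨s, l, hs, -, hl⟩ := card_facts hF
  obtain ⟨x, hx⟩ := ξ.right.2
  have hsq : ∀ k, psi n x ^ k = 1 → (ξ.right : MulAut (A F n)) ^ k = 1 ∨
      (ξ.right : MulAut (A F n)) ^ k = eps n := by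
    intro k hk
    rcases hx with e | e
    · exact Or.inl (by rw [e, hk])
    · rw [e, (Commute.mul_pow (eps_comm n _) k), hk, mul_one]
      rcases Nat.even_or_odd k with ⟨j, rfl⟩ | ⟨j, rfl⟩
      · left; rw [← two_mul, pow_mul, sq, eps_sq, one_pow]
      · right; rw [pow_succ, pow_mul, sq, eps_sq, one_pow, one_mul]
  have hev : ∀ k, psi n x ^ k = 1 → ξ.right ^ (2 * k) = 1 := by
    intro k hk
    refine Subtype.ext ?_
    rw [Subgroup.coe_pow, mul_comm, pow_mul]
    rcases hsq k hk with e | e <;> rw [e]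
    · simp
    · rw [sq, eps_sq]; rfl
  by_cases h2 : psi n x ^ 2 = 1
  · left
    have : ξ.right ^ 2 = 1 := by
      refine Subtype.ext ?_
      rw [Subgroup.coe_pow]
      rcases hx with e | e <;> rw [e]
      · exact h2
      · rw [(Commute.mul_pow (eps_comm n _) 2), h2, sq, eps_sq, mul_one]; rfl
    exact orderOf_dvd_of_pow_eq_one (pow_of_right n ξ this)
  by_cases h3 : psi n x ^ 3 = 1
  · rcases hsq 3 h3 with e | e
    · right; left
      exact orderOf_dvd_of_pow_eq_one
        (pow_of_right n ξ (k := 3) (Subtype.ext (by rw [Subgroup.coe_pow, e]; rfl)))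
    · left
      exact orderOf_dvd_of_pow_eq_one
        (pow_of_right_eps n ξ (k := 3) (by rw [Subgroup.coe_pow, e]))
  have hfree : ∀ v, (ξ.right : MulAut (A F n)) v = v → v = 1 := by
    intro v hv
    refine Multiplicative.toAdd.injective (funext fun i => ?_)
    by_contra hne
    obtain ⟨c, hc, hfix⟩ : ∃ c : F, (c = 1 ∨ c = -1) ∧
        (x : Matrix (Fin 2) (Fin 2) F) * Multiplicative.toAdd v i * tw x = c • Multiplicative.toAdd v i := by
      rcases hx with e | e
      · refine ⟨1, Or.inl rfl, ?_⟩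
        rw [one_smul, ← psi_apply]
        exact congrArg (fun w : A F n => Multiplicative.toAdd w i) (by rw [← e]; exact hv)
      · refine ⟨-1, Or.inr rfl, ?_⟩
        rw [e] at hv
        have h' : psi n x v = v⁻¹ := by
          rw [← _root_.inv_inj, inv_inv, ← eps_apply]; exact hv
        rw [neg_one_smul, ← psi_apply, h']
        rfl
    have ht := trace_of_fixed x.det_coe (det_tw x) hne
      (by rcases hc with rfl | rfl <;> ring) hfix
    rw [trace_tw] at ht
    set t := (x : Matrix (Fin 2) (Fin 2) F).trace with htdef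
    have hch := cayley_one x.det_coe
    rw [← htdef] at hch
    by_cases ht0 : t = 0
    · apply h2
      rw [ht0, zero_smul, add_eq_zero_iff_eq_neg] at hch
      rw [← map_pow, show x ^ 2 = -1 by
        refine Subtype.ext ?_
        rw [Matrix.SpecialLinearGroup.coe_pow, sq, hch]; simp, psi_neg_one]
    · have ht2 : t ^ 2 = c := mul_right_cancel₀ ht0 (by rw [← ht]; ring)
      rcases hc with rfl | rfl
      · apply h3
        apply psi_pow_eq_one
        rw [pow_two] at ht2
        rcases mul_self_eq_one_iff.mp ht2 with e | e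
        · rw [e, one_smul] at hch
          refine Subtype.ext ?_
          rw [Matrix.SpecialLinearGroup.coe_pow, Matrix.SpecialLinearGroup.coe_one]
          set a := (x : Matrix (Fin 2) (Fin 2) F)
          have hc3 : a ^ 3 = -1 := by
            have ha : a ^ 2 = a - 1 := by rw [sq]; exact eq_sub_of_add_eq hch
            rw [pow_succ, ha, sub_mul, one_mul, ← sq, ha]; abel
          rw [mul_comm, pow_mul, hc3]; simp
        · rw [e, neg_one_smul] at hch
          refine Subtype.ext ?_
          rw [Matrix.SpecialLinearGroup.coe_pow, Matrix.SpecialLinearGroup.coe_one]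
          set a := (x : Matrix (Fin 2) (Fin 2) F)
          have hc3 : a ^ 3 = 1 := by
            have ha : a ^ 2 = -a - 1 := by rw [sq]; exact eq_sub_of_add_eq hch
            rw [pow_succ, ha, sub_mul, one_mul, neg_mul, ← sq, ha]; abel
          rw [mul_comm, pow_mul, hc3]; simp
      · exact not_sq hF t ht2
  right; right
  rcases sl2_pow_cases 3 x with h | h | h | h
  · left
    rw [hs]
    refine orderOf_dvd_of_pow_eq_one (pow_of_free n ξ (hev s (psi_pow_eq_one n ?_)) hfree)
    rw [← hs]
    exact Subtype.ext (by rw [Matrix.SpecialLinearGroup.coe_pow, h]; rfl)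
  · right
    rw [hl, Nat.mul_div_cancel_left _ two_pos]
    refine orderOf_dvd_of_pow_eq_one (pow_of_free n ξ ?_ hfree)
    have hp : psi n x ^ (2 * l) = 1 := psi_pow_eq_one n (by
      rw [← hl]
      exact Subtype.ext (by rw [Matrix.SpecialLinearGroup.coe_pow, h]; rfl))
    refine Subtype.ext ?_
    rw [Subgroup.coe_pow]
    rcases hx with e | e <;> rw [e]
    · exact hp
    · rw [(Commute.mul_pow (eps_comm n _) _), hp, mul_one, pow_mul, sq, eps_sq, one_pow]; rfl
  · exact absurd (show psi n x ^ 3 = 1 by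
      rw [← map_pow, show x ^ 3 = 1 from Subtype.ext (by
        rw [Matrix.SpecialLinearGroup.coe_pow, h]; rfl), map_one]) h3
  · exact absurd (show psi n x ^ 3 = 1 by
      rw [← map_pow, show x ^ 3 = -1 from Subtype.ext (by
        rw [Matrix.SpecialLinearGroup.coe_pow, h]; simp), psi_neg_one]) h3

end Cfsg.Agent.Recog71.ReeCube
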