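import Cfsg.Agent.Recog71.ReeCubeWitness

set_option autoImplicit false

/-!
Arbitrarily large groups with the element orders of a cube, given the spectrum of the factor.
-/

namespace Cfsg.Agent.Recog71.ReeCube

universe u v w

/-- Two groups have the same element orders if each element order of one divides one of the other. -/
theorem range_orderOf_eq_of_dvd {G : Type v} {H : Type w} [Group G] [Finite G] [Group H] [Finite H]
    (h₁ : ∀ g : G, ∃ h : H, orderOf g ∣ orderOf h) (h₂ : ∀ h : H, ∃ g : G, orderOf h ∣ orderOf g) :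
    Set.range (orderOf : G → ℕ) = Set.range (orderOf : H → ℕ) := by
  ext d
  constructor
  · rintro ⟨g, rfl⟩
    obtain ⟨h, c, hc⟩ := h₁ g
    exact ⟨h ^ c, by
      have hc0 : c ≠ 0 := fun e => by
        rw [e, mul_zero] at hc; exact (orderOf_pos h).ne' hc
      rw [orderOf_pow' h hc0, hc, Nat.gcd_mul_left_left, Nat.mul_div_cancel _ (Nat.pos_of_ne_zero hc0)]⟩
  · rintro ⟨h, rfl⟩
    obtain ⟨g, c, hc⟩ := h₂ h
    exact ⟨g ^ c, by
      have hc0 : c ≠ 0 := fun e => by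
        rw [e, mul_zero] at hc; exact (orderOf_pos g).ne' hc
      rw [orderOf_pow' g hc0, hc, Nat.gcd_mul_left_left, Nat.mul_div_cancel _ (Nat.pos_of_ne_zero hc0)]⟩

/-- A type with as many points as `Fin k`, without arithmetic. -/
structure Copy (k : ℕ) where
  /-- The point. -/
  pt : Fin k

/-- Every finite group has a copy in `Type`. -/
theorem exists_small_copy (G : Type u) [Group G] [Fintype G] :
    ∃ (H : Type) (_ : Group H) (_ : Fintype H), Fintype.card H = Fintype.card G ∧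
      Set.range (orderOf : H → ℕ) = Set.range (orderOf : G → ℕ) := by
  let e : Copy (Fintype.card G) ≃ G :=
    (show Copy (Fintype.card G) ≃ Fin (Fintype.card G) from ⟨Copy.pt, Copy.mk, fun _ => rfl, fun _ => rfl⟩).trans
      (Fintype.equivFin G).symm
  letI : Group (Copy (Fintype.card G)) := e.group
  letI : Fintype (Copy (Fintype.card G)) := Fintype.ofEquiv G e.symm
  let e' : Copy (Fintype.card G) ≃* G := { e with map_mul' := fun x y => e.apply_symm_apply (e x * e y) }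
  refine ⟨Copy (Fintype.card G), inferInstance, inferInstance, Fintype.card_congr e, ?_⟩
  exact range_orderOf_eq_of_dvd (fun x => ⟨e' x, (e'.orderOf_eq x).symm.dvd⟩)
    fun x => ⟨e'.symm x, (e'.symm.orderOf_eq x).symm.dvd⟩

/-- The covering of triples of divisors by one element of `{6, 9, a, b}` and two others. -/
theorem triple_cover {y₁ y₂ y₃ a b c d : ℕ}
    (h : ∀ y ∈ [y₁, y₂, y₃], y ∣ 6 ∨ y ∣ 9 ∨ y ∣ a ∨ y ∣ b ∨ y ∣ c ∨ y ∣ d) :
    ∃ ξ z w, ξ ∈ [1, 6, 9, a, b] ∧ z ∈ [y₁, y₂, y₃, c, d] ∧ w ∈ [y₁, y₂, y₃, c, d] ∧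
      Nat.lcm y₁ (Nat.lcm y₂ y₃) ∣ Nat.lcm ξ (Nat.lcm z w) := by
  have hX : ∀ ξ z w, y₁ ∣ Nat.lcm ξ (Nat.lcm z w) → y₂ ∣ Nat.lcm ξ (Nat.lcm z w) →
      y₃ ∣ Nat.lcm ξ (Nat.lcm z w) → Nat.lcm y₁ (Nat.lcm y₂ y₃) ∣ Nat.lcm ξ (Nat.lcm z w) :=
    fun _ _ _ p q r => Nat.lcm_dvd p (Nat.lcm_dvd q r)
  have hl : ∀ ξ z w : ℕ, ξ ∣ Nat.lcm ξ (Nat.lcm z w) := fun _ _ _ => Nat.dvd_lcm_left _ _
  have hm : ∀ ξ z w : ℕ, z ∣ Nat.lcm ξ (Nat.lcm z w) := fun _ _ _ =>
    (Nat.dvd_lcm_left _ _).trans (Nat.dvd_lcm_right _ _)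
  have hr : ∀ ξ z w : ℕ, w ∣ Nat.lcm ξ (Nat.lcm z w) := fun _ _ _ =>
    (Nat.dvd_lcm_right _ _).trans (Nat.dvd_lcm_right _ _)
  have hsplit : ∀ y ∈ [y₁, y₂, y₃], (∃ ξ ∈ [1, 6, 9, a, b], y ∣ ξ) ∨ y ∣ c ∨ y ∣ d := by
    intro y hy
    rcases h y hy with p | p | p | p | p | p
    · exact Or.inl ⟨6, by simp, p⟩
    · exact Or.inl ⟨9, by simp, p⟩
    · exact Or.inl ⟨a, by simp, p⟩
    · exact Or.inl ⟨b, by simp, p⟩
    · exact Or.inr (Or.inl p)
    · exact Or.inr (Or.inr p)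
  rcases hsplit y₁ (by simp) with ⟨ξ, hξ, hd⟩ | h1
  · exact ⟨ξ, y₂, y₃, hξ, by simp, by simp, hX _ _ _ (hd.trans (hl _ _ _)) (hm _ _ _) (hr _ _ _)⟩
  rcases hsplit y₂ (by simp) with ⟨ξ, hξ, hd⟩ | h2
  · exact ⟨ξ, y₁, y₃, hξ, by simp, by simp, hX _ _ _ (hm _ _ _) (hd.trans (hl _ _ _)) (hr _ _ _)⟩
  rcases hsplit y₃ (by simp) with ⟨ξ, hξ, hd⟩ | h3
  · exact ⟨ξ, y₁, y₂, hξ, by simp, by simp, hX _ _ _ (hm _ _ _) (hr _ _ _) (hd.trans (hl _ _ _))⟩
  refine ⟨1, c, d, by simp, by simp, by simp, hX _ _ _ ?_ ?_ ?_⟩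
  · exact h1.elim (·.trans (hm _ _ _)) (·.trans (hr _ _ _))
  · exact h2.elim (·.trans (hm _ _ _)) (·.trans (hr _ _ _))
  · exact h3.elim (·.trans (hm _ _ _)) (·.trans (hr _ _ _))

theorem exists_large {F : Type u} [Field F] [Fintype F] {m : ℕ} (hF : Fintype.card F = 3 ^ (2 * m + 1))
    {R : Type v} [Group R] [Finite R] (r c d : ℕ) (hr : r = Fintype.card F)
    (hspec : ∀ k : ℕ, (∃ g : R, orderOf g = k) ↔
      (k ∣ 6 ∨ k ∣ 9 ∨ k ∣ r - 1 ∨ k ∣ (r + 1) / 2 ∨ k ∣ c ∨ k ∣ d)) (N : ℕ) :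
    ∃ (H : Type) (_ : Group H) (_ : Fintype H), N < Fintype.card H ∧
      Set.range (orderOf : H → ℕ) = Set.range (orderOf : R × R × R → ℕ) := by
  classical
  subst hr
  haveI : CharP F 3 := by
    obtain ⟨p, _⟩ := CharP.exists F
    haveI := Fact.mk (CharP.char_is_prime F p)
    obtain ⟨k, hp, hk⟩ := FiniteField.card F p
    rw [hF] at hk
    have : p = 3 := by
      have h3 : p ∣ 3 ^ (2 * m + 1) := hk ▸ dvd_pow_self p (PNat.ne_zero k)
      exact (Nat.prime_dvd_prime_iff_eq hp Nat.prime_three).mp (hp.dvd_of_dvd_pow h3)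
    subst this
    assumption
  haveI : Fintype R := Fintype.ofFinite R
  letI : Finite (MulAut (A F (N + 1))) :=
    Finite.of_injective (fun g : MulAut (A F (N + 1)) => (g : A F (N + 1) → A F (N + 1))) DFunLike.coe_injective
  haveI : Finite (X F (N + 1)) :=
    Finite.of_injective (fun ξ : X F (N + 1) => (ξ.left, ξ.right))
      fun x y h => SemidirectProduct.ext (congrArg Prod.fst h) (congrArg Prod.snd h)
  letI : Fintype (X F (N + 1)) := Fintype.ofFinite _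
  obtain ⟨H, _, _, hcard, hH⟩ := exists_small_copy (X F (N + 1) × R × R)
  refine ⟨H, inferInstance, inferInstance, ?_, hH.trans (range_orderOf_eq_of_dvd ?_ ?_)⟩
  · rw [hcard, Fintype.card_prod]
    exact lt_of_lt_of_le (le_card (F := F) N) (Nat.le_mul_of_pos_right _ Fintype.card_pos)
  · rintro ⟨ξ, s, t⟩
    obtain ⟨g, hg⟩ := (hspec (orderOf ξ)).mpr (by
      rcases orderOf_X_dvd (N + 1) hF ξ with h | h | h | h
      · exact Or.inl h
      · exact Or.inr (Or.inl h)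
      · exact Or.inr (Or.inr (Or.inl h))
      · exact Or.inr (Or.inr (Or.inr (Or.inl h))))
    exact ⟨(g, s, t), by simp only [Prod.orderOf]; rw [hg]⟩
  · rintro ⟨g₁, g₂, g₃⟩
    have hall : ∀ y ∈ [orderOf g₁, orderOf g₂, orderOf g₃],
        y ∣ 6 ∨ y ∣ 9 ∨ y ∣ Fintype.card F - 1 ∨ y ∣ (Fintype.card F + 1) / 2 ∨ y ∣ c ∨ y ∣ d := by
      intro y hy
      simp only [List.mem_cons, List.not_mem_nil, or_false] at hy
      rcases hy with rfl | rfl | rfl <;> exact (hspec _).mp ⟨_, rfl⟩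
    obtain ⟨ξ₀, z, w, hξ, hz, hw, hdvd⟩ := triple_cover hall
    obtain ⟨ξ, hξo⟩ : ∃ ξ : X F (N + 1), orderOf ξ = ξ₀ := by
      simp only [List.mem_cons, List.not_mem_nil, or_false] at hξ
      rcases hξ with rfl | rfl | rfl | rfl | rfl
      · exact ⟨1, orderOf_one⟩
      · exact exists_order_six _ (Nat.succ_pos _)
      · exact exists_order_nine _ (Nat.succ_pos _)
      · exact exists_order_split _ (Nat.succ_pos _) hF
      · exact exists_order_rot _ (Nat.succ_pos _) hF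
    have hR : ∀ y ∈ [orderOf g₁, orderOf g₂, orderOf g₃, c, d], ∃ g : R, orderOf g = y := by
      intro y hy
      simp only [List.mem_cons, List.not_mem_nil, or_false] at hy
      rcases hy with rfl | rfl | rfl | rfl | rfl
      · exact ⟨_, rfl⟩
      · exact ⟨_, rfl⟩
      · exact ⟨_, rfl⟩
      · exact (hspec _).mpr (Or.inr (Or.inr (Or.inr (Or.inr (Or.inl dvd_rfl)))))
      · exact (hspec _).mpr (Or.inr (Or.inr (Or.inr (Or.inr (Or.inr dvd_rfl)))))
    obtain ⟨sz, hsz⟩ := hR z hz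
    obtain ⟨sw, hsw⟩ := hR w hw
    exact ⟨(ξ, sz, sw), by simp only [Prod.orderOf, hξo, hsz, hsw]; exact hdvd⟩

end Cfsg.Agent.Recog71.ReeCube
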