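import Cfsg.Agent.Recog71.ReeCubeModule
import Cfsg.Agent.Lib.Ree.Rotations

set_option autoImplicit false

/-!
Elements of orders `6`, `9`, `q - 1` and `(q + 1) / 2` in the group of `ReeCubeModule`, and its size.
-/

namespace Cfsg.Agent.Recog71.ReeCube

open Matrix
open scoped MatrixGroups

universe u

variable {F : Type u} [Field F] [CharP F 3] (n : ℕ)

theorem two_ne : (2 : F) ≠ 0 := fun e => by
  have : ((2 : ℕ) : F) = 0 := by exact_mod_cast e
  rw [CharP.cast_eq_zero_iff F 3] at this
  omega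

/-- The element with the same matrix in every coordinate. -/
def konst (M : Matrix (Fin 2) (Fin 2) F) : A F n := Multiplicative.ofAdd fun _ => M

theorem psi_konst (x : SL(2, F)) (M : Matrix (Fin 2) (Fin 2) F) :
    psi n x (konst n M) = konst n ((x : Matrix (Fin 2) (Fin 2) F) * M * tw x) := rfl

theorem konst_inv (M : Matrix (Fin 2) (Fin 2) F) : (konst n M)⁻¹ = konst n (-M) := rfl

theorem konst_injective (hn : 0 < n) : Function.Injective (konst (F := F) n) := fun _ _ h =>
  congrFun (congrArg Multiplicative.toAdd h) ⟨0, hn⟩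

theorem eq_pm_one_of_psi (hn : 0 < n) {y : SL(2, F)} (h : psi n y = 1) : y = 1 ∨ y = -1 := by
  have key : ∀ M, (y : Matrix (Fin 2) (Fin 2) F) * M * tw y = M := fun M =>
    konst_injective n hn (by rw [← psi_konst, h]; rfl)
  have h1 := key 1
  rw [mul_one] at h1
  have h1' := mul_eq_one_comm.mp h1
  have hc : ∀ M : Matrix (Fin 2) (Fin 2) F, (y : Matrix (Fin 2) (Fin 2) F) * M = M * (y : Matrix (Fin 2) (Fin 2) F) := by
    intro M
    calc (y : Matrix (Fin 2) (Fin 2) F) * M
        = (y : Matrix (Fin 2) (Fin 2) F) * M * (tw y * (y : Matrix (Fin 2) (Fin 2) F)) := by rw [h1', mul_one]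
      _ = M * (y : Matrix (Fin 2) (Fin 2) F) := by rw [← mul_assoc, key M]
  have a := hc !![0, 1; 0, 0]
  have a01 := congrFun (congrFun a 0) 1
  have a00 := congrFun (congrFun a 0) 0
  have b := hc !![0, 0; 1, 0]
  have b00 := congrFun (congrFun b 0) 0
  simp [Matrix.mul_apply, Fin.sum_univ_two] at a01 a00 b00
  have hd := y.det_coe
  rw [Matrix.det_fin_two, b00, ← a01] at hd
  have hd' : y 0 0 * y 0 0 = 1 := by simpa using hd
  rcases mul_self_eq_one_iff.mp hd' with e | e
  · left
    ext i j; fin_cases i <;> fin_cases j <;> simp [e, ← a01, ← a00, b00]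
  · right
    ext i j; fin_cases i <;> fin_cases j <;> simp [e, ← a01, ← a00, b00]

theorem psi_mem (x : SL(2, F)) : psi n x ∈ L (F := F) n := ⟨x, Or.inl rfl⟩

theorem eps_mul_psi_mem (x : SL(2, F)) : eps n * psi n x ∈ L (F := F) n := ⟨x, Or.inr rfl⟩

theorem orderOf_inr (g : L (F := F) n) :
    orderOf (SemidirectProduct.inr g : X F n) = orderOf (g : MulAut (A F n)) := by
  rw [orderOf_injective _ SemidirectProduct.inr_injective, Subgroup.orderOf_coe]

/-- An upper unitriangular element. -/
def upperOne : SL(2, F) := ⟨!![1, 1; 0, 1], by simp [Matrix.det_fin_two_of]⟩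

theorem upperOne_pow (k : ℕ) :
    ((upperOne : SL(2, F)) ^ k : SL(2, F)).1 = !![1, (k : F); 0, 1] := by
  induction k with
  | zero => simp [Matrix.one_fin_two]
  | succ k ih =>
    rw [pow_succ, Matrix.SpecialLinearGroup.coe_mul, ih]
    simp [upperOne, Matrix.mul_fin_two, add_comm]

theorem psi_upperOne_ne (hn : 0 < n) : psi n (upperOne (F := F) ^ 2) ≠ 1 := by
  intro h
  rcases eq_pm_one_of_psi n hn h with e | e <;>
  · have := congrArg (fun y : SL(2, F) => y.1 0 1) e
    simp only [upperOne_pow] at this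
    simp [two_ne] at this

theorem eps_ne_one (hn : 0 < n) : eps n ≠ (1 : MulAut (A F n)) := by
  intro h
  have := DFunLike.congr_fun h (konst n 1)
  rw [eps_apply, konst_inv, MulAut.one_apply] at this
  have := congrFun (congrFun (konst_injective n hn this) 0) 0
  simp at this
  exact two_ne (F := F) (by linear_combination -this)

theorem exists_order_six (hn : 0 < n) : ∃ ξ : X F n, orderOf ξ = 6 := by
  refine ⟨SemidirectProduct.inr ⟨_, eps_mul_psi_mem n upperOne⟩, ?_⟩
  rw [orderOf_inr]
  have h3 : (upperOne (F := F)) ^ 3 = 1 := Subtype.ext (by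
    rw [upperOne_pow, Nat.cast_ofNat, show (3 : F) = 0 from CharP.ofNat_eq_zero F 3]
    simp [Matrix.one_fin_two])
  have hpow : ∀ k, (eps n * psi n (upperOne (F := F))) ^ k = eps n ^ k * psi n (upperOne ^ k) :=
    fun k => by rw [Commute.mul_pow (eps_comm n _), map_pow]
  have h6 : (eps n * psi n (upperOne (F := F))) ^ 6 = 1 := by
    rw [hpow, show 6 = 2 * 3 by norm_num, pow_mul, sq, eps_sq, one_pow, mul_comm 2 3, pow_mul, h3,
      one_pow, map_one, one_mul]
  have hd := orderOf_dvd_of_pow_eq_one h6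
  set g := eps n * psi n (upperOne (F := F)) with hg
  have n2 : g ^ 2 ≠ 1 := by
    rw [hpow, sq, eps_sq, one_mul]
    exact psi_upperOne_ne n hn
  have n3 : g ^ 3 ≠ 1 := by
    rw [hpow, h3, map_one, mul_one, pow_succ, sq, eps_sq, one_mul]
    exact eps_ne_one n hn
  show orderOf g = 6
  have hle : orderOf g ≤ 6 := Nat.le_of_dvd (by norm_num) hd
  have hk : ∀ k, orderOf g = k → g ^ k = 1 := fun k e => e ▸ pow_orderOf_eq_one g
  interval_cases h : orderOf g
  · norm_num at hd
  · exact absurd (orderOf_dvd_iff_pow_eq_one.mp (h ▸ one_dvd 2)) n2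
  · exact absurd (hk 2 rfl) n2
  · exact absurd (hk 3 rfl) n3
  · norm_num at hd
  · norm_num at hd
  · rfl

theorem exists_order_nine (hn : 0 < n) : ∃ ξ : X F n, orderOf ξ = 9 := by
  let g : L (F := F) n := ⟨_, psi_mem n upperOne⟩
  let ξ : X F n := ⟨konst n !![0, 0; 0, 1], g⟩
  have h3 : (upperOne (F := F)) ^ 3 = 1 := Subtype.ext (by
    rw [upperOne_pow, Nat.cast_ofNat, show (3 : F) = 0 from CharP.ofNat_eq_zero F 3]
    simp [Matrix.one_fin_two])
  have hg3 : g ^ 3 = 1 := Subtype.ext (by
    rw [Subgroup.coe_pow]; show psi n upperOne ^ 3 = 1; rw [← map_pow, h3, map_one])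
  refine ⟨ξ, ?_⟩
  have h9 : ξ ^ 9 = 1 := pow_of_right n ξ hg3
  haveI : Fact (Nat.Prime 3) := ⟨Nat.prime_three⟩
  refine orderOf_eq_prime_pow (n := 1) (p := 3) ?_ h9
  intro h
  have hl := congrArg SemidirectProduct.left h
  rw [show 3 ^ 1 = 2 + 1 by norm_num, pow_succ, sq, mul_left_eq, mul_left_eq,
    SemidirectProduct.one_left] at hl
  have hr : ((ξ * ξ).right : MulAut (A F n)) = psi n (upperOne ^ 2) := by
    rw [map_pow, sq]; rfl
  rw [hr, show (ξ.right : MulAut (A F n)) = psi n upperOne from rfl,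
    show ξ.left = konst n !![0, 0; 0, 1] from rfl, psi_konst, psi_konst] at hl
  have t1 : tw (upperOne : SL(2, F)) = !![1, 0; 1, 1] := by
    ext i j; fin_cases i <;> fin_cases j <;> simp [tw, upperOne, frobenius_def]
  have t2 : tw ((upperOne : SL(2, F)) ^ 2) = !![1, 0; 2, 1] := by
    have e : frobenius F 3 (2 : F) = 2 := map_ofNat _ 2
    rw [tw, upperOne_pow]
    ext i j
    fin_cases i <;> fin_cases j <;> simp [e]
  rw [t1, t2, upperOne_pow] at hl
  have := congrFun (congrFun (congrFun (congrArg Multiplicative.toAdd hl) ⟨0, hn⟩) 0) 0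
  simp [konst, upperOne, Matrix.mul_apply, Fin.sum_univ_two] at this
  have h5 : (5 : F) = 0 := by linear_combination this
  have h5' : ((5 : ℕ) : F) = 0 := by exact_mod_cast h5
  rw [CharP.cast_eq_zero_iff F 3] at h5'
  omega

variable [Fintype F] {m : ℕ}

theorem exists_order_split (hn : 0 < n) (hF : Fintype.card F = 3 ^ (2 * m + 1)) :
    ∃ ξ : X F n, orderOf ξ = Fintype.card F - 1 := by
  classical
  obtain ⟨l, hl⟩ := IsCyclic.exists_generator (α := Fˣ)
  let x : SL(2, F) := ⟨!![(l : F), 0; 0, ((l⁻¹ : Fˣ) : F)], by simp [Matrix.det_fin_two_of]⟩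
  refine ⟨SemidirectProduct.inr ⟨_, eps_mul_psi_mem n x⟩, ?_⟩
  rw [orderOf_inr]
  show orderOf (eps n * psi n x) = _
  have hord : orderOf l = Fintype.card F - 1 := by
    rw [orderOf_eq_card_of_forall_mem_zpowers hl, Nat.card_eq_fintype_card, Fintype.card_units]
  have hx : ∀ k : ℕ, (x ^ k : SL(2, F)).1 = !![((l ^ k : Fˣ) : F), 0; 0, (((l⁻¹) ^ k : Fˣ) : F)] := by
    intro k
    induction k with
    | zero => simp [Matrix.one_fin_two]
    | succ k ih =>
      rw [pow_succ, Matrix.SpecialLinearGroup.coe_mul, ih]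
      simp [x, Matrix.mul_fin_two, pow_succ]
  obtain ⟨s, t, hs, -, -⟩ := card_facts hF
  refine Nat.dvd_antisymm ?_ ?_
  · apply orderOf_dvd_of_pow_eq_one
    rw [Commute.mul_pow (eps_comm n _), hs, pow_mul (eps n), sq, eps_sq, one_pow, one_mul,
      mul_comm 2 s, pow_mul, psi_pow_eq_one n ?_, one_pow]
    rw [← hs]
    refine Subtype.ext ?_
    rw [hx, ← hord, inv_pow, pow_orderOf_eq_one]
    simp [Matrix.one_fin_two]
  · set g := eps n * psi n x with hgdef
    have h := pow_orderOf_eq_one g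
    generalize orderOf g = k at h ⊢
    rw [hgdef, Commute.mul_pow (eps_comm n _), ← map_pow] at h
    rw [← hord, orderOf_dvd_iff_pow_eq_one]
    rcases Nat.even_or_odd k with ⟨j, rfl⟩ | ⟨j, rfl⟩
    · rw [← two_mul, pow_mul, sq, eps_sq, one_pow, one_mul] at h
      rcases eq_pm_one_of_psi n hn h with e | e
      · refine Units.ext ?_
        have := congrArg (fun y : SL(2, F) => y.1 0 0) e
        simp only [hx] at this
        simpa [← two_mul] using this
      · exfalso
        have := congrArg (fun y : SL(2, F) => y.1 0 0) e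
        simp only [hx] at this
        simp at this
        exact not_sq hF ((l : F) ^ j) (by rw [← pow_mul, mul_comm, this])
    · exfalso
      rw [pow_succ, pow_mul, sq, eps_sq, one_pow, one_mul] at h
      have := DFunLike.congr_fun h (konst n !![0, 1; 0, 0])
      rw [MulAut.mul_apply, psi_konst, eps_apply, konst_inv, MulAut.one_apply] at this
      have ht : tw (x ^ (2 * j + 1)) = !![((l ^ (2 * j + 1) : Fˣ) : F) ^ 3, 0; 0,
          (((l⁻¹) ^ (2 * j + 1) : Fˣ) : F) ^ 3] := by
        rw [tw, hx]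
        ext a b
        fin_cases a <;> fin_cases b <;> simp [frobenius_def]
      rw [ht, hx] at this
      have := congrFun (congrFun (konst_injective n hn this) 0) 1
      simp [Matrix.mul_apply, Fin.sum_univ_two] at this
      refine not_sq hF ((l : F) ^ (2 * j + 1) / ((l : F) ^ (2 * j + 1)) ^ 2) ?_
      have hl0 : (l : F) ^ (2 * j + 1) ≠ 0 := pow_ne_zero _ l.ne_zero
      generalize (l : F) ^ (2 * j + 1) = u at this hl0 ⊢
      field_simp at this ⊢
      linear_combination -this

theorem exists_order_rot (hn : 0 < n) (hF : Fintype.card F = 3 ^ (2 * m + 1)) :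
    ∃ ξ : X F n, orderOf ξ = (Fintype.card F + 1) / 2 := by
  haveI := ReeSL2.isCyclic_rot (F := F) (not_sq hF)
  obtain ⟨x, hx⟩ := IsCyclic.exists_ofOrder_eq_natCard (α := ReeSL2.rot F)
  rw [ReeSL2.card_rot (not_sq hF) two_ne, ← Subgroup.orderOf_coe] at hx
  refine ⟨SemidirectProduct.inr ⟨_, psi_mem n (x : SL(2, F))⟩, ?_⟩
  rw [orderOf_inr]
  show orderOf (psi n (x : SL(2, F))) = _
  obtain ⟨s, t, -, -, ht⟩ := card_facts hF
  rw [ht, Nat.mul_div_cancel_left _ two_pos]
  refine Nat.dvd_antisymm (orderOf_dvd_of_pow_eq_one (psi_pow_eq_one n ?_)) ?_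
  · rw [← ht, ← hx, pow_orderOf_eq_one]
  · have h := pow_orderOf_eq_one (psi n (x : SL(2, F)))
    rw [← map_pow] at h
    refine Nat.dvd_of_mul_dvd_mul_left two_pos ?_
    rw [← ht, ← hx]
    apply orderOf_dvd_of_pow_eq_one
    rw [mul_comm, pow_mul]
    rcases eq_pm_one_of_psi n hn h with e | e
    · rw [e, one_pow]
    · rw [e, sq]; exact Subtype.ext (by simp)

theorem le_card (N : ℕ) [Fintype (X F (N + 1))] : N < Fintype.card (X F (N + 1)) := by
  have h := Fintype.card_le_of_injective (SemidirectProduct.inl : A F (N + 1) → X F (N + 1))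
    SemidirectProduct.inl_injective
  refine lt_of_lt_of_le ?_ h
  rw [Fintype.card_multiplicative, Fintype.card_fun, Fintype.card_fin]
  exact N.lt_succ_self.trans (Nat.lt_pow_self Fintype.one_lt_card)

end Cfsg.Agent.Recog71.ReeCube
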