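import Cfsg.Agent.SporB.Suz.Main
import Cfsg.Agent.SporStruct.OuterRigid
import Cfsg.Agent.Recog71.SuzOut.CheckA
import Cfsg.Agent.Recog71.SuzOut.CheckB
import Cfsg.Agent.Recog71.SuzOut.CheckC
import Cfsg.Agent.Recog71.SuzOut.CheckD
import Cfsg.Prelude.Def_KGroupFacts

/-!
The outer automorphism group of `Suz` has order 2.
-/

set_option autoImplicit false
set_option maxRecDepth 100000
set_option linter.style.haveILetI false

namespace Cfsg.Agent.Recog71.SuzOut

open Cfsg.Agent.CosetEnum
open Cfsg.Agent.Recog71.Colour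
open Cfsg.Agent.SporStruct

local notation "GS" => Suz.pres.Gp

/-- The value of a word. -/
noncomputable def ev (W : List ℕ) : GS := evalWord Suz.pres.val W

theorem okW_lt {W : List ℕ} (h : okW W = true) : ∀ l ∈ W, l < Suz.Rep.tbl.nl :=
  fun l hl => Nat.le_of_ble_eq_true (List.all_eq_true.mp h l hl)

theorem ok_all : okW aW = true ∧ okW bW = true ∧ okW uW = true ∧ okW uW2 = true ∧
    (∀ W ∈ cwB, okW W = true) ∧ (∀ W ∈ esOne, okW W = true) ∧ (∀ W ∈ esTwo, okW W = true) ∧
    ∀ W ∈ sigW, okW W = true := by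
  simpa [Bool.and_eq_true, List.all_eq_true, and_assoc] using words_ok

theorem okW_append {U V : List ℕ} (hU : okW U = true) (hV : okW V = true) : okW (U ++ V) = true := by
  rw [okW, List.all_append, Bool.and_eq_true]
  exact ⟨hU, hV⟩

theorem okW_rep {U : List ℕ} (hU : okW U = true) : ∀ m, okW (repWord U m) = true
  | 0 => rfl
  | m + 1 => okW_append hU (okW_rep hU m)

theorem okW_reverse {U : List ℕ} (hU : okW U = true) : okW U.reverse = true := by
  simpa [okW] using hU

theorem ev_append (U V : List ℕ) : ev (U ++ V) = ev U * ev V := evalWord_append _ U V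

theorem ev_rep (U : List ℕ) (m : ℕ) : ev (repWord U m) = ev U ^ m := evalWord_repWord _ U m

theorem ev_val_inv (l : ℕ) : (Suz.pres.val l)⁻¹ = Suz.pres.val l := by
  refine inv_eq_of_mul_eq_one_right ?_
  rcases Nat.lt_or_ge l Suz.pres.gens.length with h | h
  · rw [InvPres.val, letterVal_of_lt _ _ h]
    exact Suz.pres.sq_val _
  · simp [InvPres.val, letterVal, List.getElem?_eq_none_iff.mpr h]

theorem ev_reverse : ∀ W : List ℕ, ev W.reverse = (ev W)⁻¹
  | [] => by simp [ev, evalWord]
  | l :: W => by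
    rw [List.reverse_cons, ev_append, ev_reverse W]
    show _ * (Suz.pres.val l * 1) = (Suz.pres.val l * ev W)⁻¹
    rw [mul_inv_rev, mul_one, ev_val_inv]

theorem base_eq {g h : GS} (hg : ∀ p ∈ basePts, ap Suz.rep Suz.nodup g p = ap Suz.rep Suz.nodup h p) :
    g = h := by
  haveI := Suz.finite
  refine eq_of_base Suz.Rep.slp_ok Suz.Rep.levels_ok
    (Suz.card_eq.1.trans Suz.Rep.levels_prod.symm) Suz.card_eq.2 fun L hL => hg L.b ?_
  have hb : Suz.Rep.levels.map Level.b = basePts := rfl
  rw [← hb]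
  exact List.mem_map_of_mem hL

theorem base_lt {p : ℕ} (hp : p ∈ basePts) : p < Suz.Rep.tbl.n := by
  have h : ∀ x ∈ basePts, x < 1782 := by decide
  exact h p hp

theorem ev_eq {U V : List ℕ} (hU : okW U = true) (hV : okW V = true) (h : sameBase U V = true) :
    ev U = ev V := by
  refine base_eq fun p hp => ?_
  rw [ev, ev, ap_word (okW_lt hU) (base_lt hp), ap_word (okW_lt hV) (base_lt hp)]
  exact Nat.eq_of_beq_eq_true (List.all_eq_true.mp h p hp)

theorem ev_ne {U V : List ℕ} (hU : okW U = true) (hV : okW V = true) (h : sameBase U V = false) :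
    ev U ≠ ev V := by
  intro e
  have : sameBase U V = true := List.all_eq_true.mpr fun p hp => by
    rw [Nat.beq_eq, ← ap_word (R := Suz.rep) (hnd := Suz.nodup) (okW_lt hU) (base_lt hp),
      ← ap_word (R := Suz.rep) (hnd := Suz.nodup) (okW_lt hV) (base_lt hp)]
    exact congrArg (fun g => ap Suz.rep Suz.nodup g p) e
  rw [h] at this
  exact Bool.noConfusion this

theorem colouring_ok : Colouring Suz.rep Suz.nodup col :=
  colouring Suz.Rep.ws_ok Suz.stab_closure lab_ok reach_ok

/-- The element of order 11. -/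
noncomputable def ea : GS := ev aW

/-- The element of order 10 normalising it. -/
noncomputable def eb : GS := ev bW

/-- The third generator. -/
noncomputable def eu : GS := ev uW

theorem ea_pow : ea ^ 11 = 1 := by
  rw [ea, ← ev_rep]
  exact ev_eq (okW_rep ok_all.1 11) rfl a_pow

theorem ea_order : orderOf ea = 11 := by
  haveI : Fact (Nat.Prime 11) := ⟨by norm_num⟩
  exact orderOf_eq_prime ea_pow (ev_ne ok_all.1 rfl a_ne)

theorem eb_conj : eb * ea * eb⁻¹ = ea ^ 6 := by
  rw [eb, ea, ← ev_reverse, ← ev_rep, mul_assoc, ← ev_append, ← ev_append]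
  exact ev_eq (okW_append ok_all.2.1 (okW_append ok_all.1 (okW_reverse ok_all.2.1)))
    (okW_rep ok_all.1 6) ab_rel

theorem comm_A {y : GS} (hy : Commute y ea) : Comm Suz.pres Suz.Rep.tbl y cwA := by
  intro W hW
  obtain ⟨i, -, rfl⟩ := List.mem_map.mp hW
  refine ⟨okW_lt (okW_rep ok_all.1 _), ?_⟩
  show Commute y (ev (repWord aW (i + 1)))
  rw [ev_rep]
  exact hy.pow_right _

/-- The centraliser of `a` is the cyclic group or has a twisted part. -/
theorem cent_a_cases {y : GS} (hy : Commute y ea) : ∃ i : ℕ, i < 11 ∧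
    (y = ea ^ i ∨ Agrees Suz.rep Suz.nodup (y * (ea ^ i)⁻¹) (pairsA 1049 detA1)) := by
  have h21 : 21 < Suz.Rep.tbl.n := show 21 < 1782 by omega
  have hm := image_mem colouring_ok (agrees_nil y) (comm_A hy) h21 a_cands
  have key : ∀ (i t : ℕ), t < 1782 →
      ap Suz.rep Suz.nodup y 21 = Suz.Rep.tbl.run (repWord aW i) t →
      Agrees Suz.rep Suz.nodup (y * (ea ^ i)⁻¹) (ext Suz.Rep.tbl [] cwA 21 t) := by
    intro i t ht h
    refine (agrees_nil _).ext (comm_A (hy.mul_left ((Commute.refl ea).pow_left i).inv_left)) h21 ?_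
    rw [ap_mul _ _ h21, h, ea, ← ev_rep aW i]
    show ap Suz.rep Suz.nodup (ev (repWord aW i))⁻¹ _ = t
    rw [← ap_word (R := Suz.rep) (hnd := Suz.nodup) (okW_lt (okW_rep ok_all.1 i)) ht]
    exact ap_inv_apply _ ht
  rcases List.mem_append.mp hm with h | h <;>
    obtain ⟨i, hi, hq⟩ := List.mem_map.mp h <;> rw [List.mem_range] at hi
  · refine ⟨i, hi, Or.inl ?_⟩
    have hc := comm_A (hy.mul_left ((Commute.refl ea).pow_left i).inv_left)
    have hd := det_sound colouring_ok hc detA0 _ a_det0 (key i 21 (by omega) hq.symm)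
    have h1 : y * (ea ^ i)⁻¹ = 1 := base_eq fun p hp => by
      rw [ap_one (base_lt hp)]
      obtain ⟨e, he, h2⟩ := List.any_eq_true.mp (List.all_eq_true.mp a_fix p hp)
      simp only [Bool.and_eq_true, Nat.beq_eq] at h2
      have h3 := (hd e he).2
      rw [h2.1, h2.2] at h3
      exact h3
    exact mul_inv_eq_one.mp h1
  · have hc := comm_A (hy.mul_left ((Commute.refl ea).pow_left i).inv_left)
    exact ⟨i, hi, Or.inr (det_sound colouring_ok hc detA1 _ a_det1 (key i 1049 (by omega) hq.symm))⟩

theorem pow_six_inj : ∀ i j : Fin 10, 6 ^ i.val % 11 = 6 ^ j.val % 11 → i = j := by decide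

/-- The centraliser of `a` is cyclic: otherwise the number of Sylow subgroups would be wrong. -/
theorem cent_a (y : GS) (hy : y * ea = ea * y) : y ∈ Subgroup.zpowers ea := by
  haveI := Suz.finite
  haveI : Fact (Nat.Prime 11) := ⟨by norm_num⟩
  by_contra hne
  set C := Subgroup.centralizer ({ea} : Set GS) with hC
  obtain ⟨i0, -, h0⟩ := cent_a_cases hy
  have h0' := h0.resolve_left fun h => hne (h ▸ pow_mem (Subgroup.mem_zpowers ea) i0)
  set w := y * (ea ^ i0)⁻¹
  have hle : Nat.card C ≤ 22 := by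
    have hsurj : ∀ c : C, ∃ k : Fin 11 × Fin 2, (c : GS) = w ^ k.2.val * ea ^ k.1.val := by
      intro c
      obtain ⟨i, hi, h | h⟩ :=
        cent_a_cases (show Commute (c : GS) ea from Subgroup.mem_centralizer_singleton_iff.mp c.2)
      · exact ⟨(⟨i, hi⟩, 0), by simpa using h⟩
      · refine ⟨(⟨i, hi⟩, 1), ?_⟩
        have e : (c : GS) * (ea ^ i)⁻¹ = w := base_eq fun p hp => by
          obtain ⟨e, he, h2⟩ := List.any_eq_true.mp (List.all_eq_true.mp a_all p hp)
          rw [Nat.beq_eq] at h2
          rw [← h2, (h e he).2, (h0' e he).2]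
        simp [← e]
    choose k hk using hsurj
    have hinj : Function.Injective k := fun c d h => Subtype.ext (by rw [hk c, hk d, h])
    have := Nat.card_le_card_of_injective k hinj
    simpa using this
  have hzC : Subgroup.zpowers ea ≤ C :=
    Subgroup.zpowers_le.mpr (Subgroup.mem_centralizer_singleton_iff.mpr rfl)
  have hyC : y ∈ C := Subgroup.mem_centralizer_singleton_iff.mpr hy
  have hcardC : Nat.card C = 22 := by
    have hd : 11 ∣ Nat.card C := by
      have := Subgroup.card_dvd_of_le hzC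
      rwa [Nat.card_zpowers, ea_order] at this
    have hgt : 11 < Nat.card C := by
      by_contra hle11
      have h11 : Nat.card C ≤ Nat.card (Subgroup.zpowers ea) := by
        rw [Nat.card_zpowers, ea_order]; omega
      exact hne (Subgroup.eq_of_le_of_card_ge hzC h11 ▸ hyC)
    omega
  obtain ⟨Q, hQ⟩ : ∃ Q : Sylow 11 GS, (Q : Subgroup GS) = Subgroup.zpowers ea := by
    refine ⟨(IsPGroup.of_card (n := 1) (by rw [Nat.card_zpowers, ea_order, pow_one])).toSylow
      (P := Subgroup.zpowers ea) ?_, rfl⟩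
    have h := Subgroup.card_mul_index (Subgroup.zpowers ea)
    rw [Nat.card_zpowers, ea_order, Suz.card_eq.1] at h
    rw [show (Subgroup.zpowers ea).index = 40758681600 by omega]
    norm_num
  have hN : Nat.card (Subgroup.normalizer (Subgroup.zpowers ea : Set GS)) = 220 := by
    have hmem : ∀ g : GS, g ∈ Subgroup.normalizer (Subgroup.zpowers ea : Set GS) ↔
        g * ea * g⁻¹ ∈ Subgroup.zpowers ea := by
      intro g
      refine ⟨fun h => (Subgroup.mem_normalizer_iff.1 h ea).1 (Subgroup.mem_zpowers ea), fun h => ?_⟩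
      have hmap : (Subgroup.zpowers ea).map (MulAut.conj g).toMonoidHom = Subgroup.zpowers ea := by
        refine Subgroup.eq_of_le_of_card_ge ?_
          (le_of_eq (Subgroup.card_map_of_injective (f := (MulAut.conj g).toMonoidHom)
            (MulAut.conj g).injective).symm)
        rw [MonoidHom.map_zpowers]
        exact Subgroup.zpowers_le.mpr h
      refine Subgroup.mem_normalizer_iff.2 fun x => ?_
      conv_rhs => rw [← hmap]
      rw [Subgroup.mem_map_equiv]
      simp [MulAut.conj_symm_apply, mul_assoc]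
    let f : Fin 10 × C → Subgroup.normalizer (Subgroup.zpowers ea : Set GS) := fun jc =>
      ⟨eb ^ jc.1.val * (jc.2 : GS), (hmem _).mpr (by
        have hc : (jc.2 : GS) * ea * (jc.2 : GS)⁻¹ = ea := by
          rw [(Subgroup.mem_centralizer_singleton_iff.mp jc.2.2), mul_inv_cancel_right]
        have e : eb ^ jc.1.val * (jc.2 : GS) * ea * (eb ^ jc.1.val * (jc.2 : GS))⁻¹ =
            eb ^ jc.1.val * ea ^ 1 * (eb ^ jc.1.val)⁻¹ := by
          conv_rhs => rw [pow_one, ← hc]
          group
        rw [e, OuterRigid.conj_pow_rel' eb_conj]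
        exact pow_mem (Subgroup.mem_zpowers ea) _)⟩
    have hf : Function.Bijective f := by
      constructor
      · rintro ⟨j, c⟩ ⟨k, d⟩ h
        have h' : eb ^ j.val * (c : GS) = eb ^ k.val * (d : GS) := congrArg Subtype.val h
        have hconj : ∀ (j : Fin 10) (c : C), (eb ^ j.val * (c : GS)) * ea * (eb ^ j.val * (c : GS))⁻¹ =
            ea ^ (6 ^ j.val) := by
          intro j c
          have hc : (c : GS) * ea * (c : GS)⁻¹ = ea := by
            rw [(Subgroup.mem_centralizer_singleton_iff.mp c.2), mul_inv_cancel_right]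
          rw [show 6 ^ j.val = 1 * 6 ^ j.val from (one_mul _).symm,
            ← OuterRigid.conj_pow_rel' eb_conj]
          conv_rhs => rw [pow_one, ← hc]
          group
        have e := hconj j c
        rw [h', hconj k d] at e
        rw [← pow_mod_orderOf ea (6 ^ j.val), ← pow_mod_orderOf ea (6 ^ k.val), ea_order] at e
        have hjk : j = k := pow_six_inj j k (pow_injOn_Iio_orderOf
          (Set.mem_Iio.2 (ea_order.symm ▸ Nat.mod_lt _ (by omega)))
          (Set.mem_Iio.2 (ea_order.symm ▸ Nat.mod_lt _ (by omega))) e).symm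
        subst hjk
        exact Prod.ext rfl (Subtype.ext (mul_left_cancel h'))
      · classical
        rintro ⟨g, hg⟩
        obtain ⟨k, hk, e⟩ := (IsOfFinOrder.mem_zpowers_iff_mem_range_orderOf
          (isOfFinOrder_of_finite ea)).1 ((hmem g).1 hg) |> Finset.mem_image.1
        rw [Finset.mem_range, ea_order] at hk
        have hk0 : k ≠ 0 := by
          rintro rfl
          rw [pow_zero] at e
          have h1 : ea = 1 := by
            calc ea = g⁻¹ * (g * ea * g⁻¹) * g := by group
              _ = 1 := by rw [← e]; group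
          have := ea_order
          rw [h1, orderOf_one] at this
          omega
        have hsurj : ∀ k < 11, k ≠ 0 → ∃ j < 10, 6 ^ j % 11 = k := by decide
        obtain ⟨j, hj, hjk⟩ := hsurj k hk hk0
        have e' : eb ^ j * ea * (eb ^ j)⁻¹ = g * ea * g⁻¹ := by
          have h := OuterRigid.conj_pow_rel' eb_conj j 1
          rw [pow_one, one_mul, ← pow_mod_orderOf ea (6 ^ j), ea_order, hjk] at h
          rw [h, e]
        have hc : (eb ^ j)⁻¹ * g ∈ C := Subgroup.mem_centralizer_singleton_iff.mpr (by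
          calc (eb ^ j)⁻¹ * g * ea = (eb ^ j)⁻¹ * (g * ea * g⁻¹) * g := by group
            _ = (eb ^ j)⁻¹ * (eb ^ j * ea * (eb ^ j)⁻¹) * g := by rw [e']
            _ = ea * ((eb ^ j)⁻¹ * g) := by group)
        exact ⟨(⟨j, hj⟩, ⟨_, hc⟩), Subtype.ext (mul_inv_cancel_left _ _)⟩
    rw [← Nat.card_congr (Equiv.ofBijective f hf), Nat.card_prod, Nat.card_fin, hcardC]
  have hs := card_sylow_modEq_one 11 GS
  have hidx : Nat.card (Sylow 11 GS) =
      (Subgroup.normalizer (Subgroup.zpowers ea : Set GS)).index := by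
    rw [Q.card_eq_index_normalizer, ← hQ]
    rfl
  have hmul := Subgroup.card_mul_index (Subgroup.normalizer (Subgroup.zpowers ea : Set GS))
  rw [hN, Suz.card_eq.1] at hmul
  rw [hidx, show (Subgroup.normalizer (Subgroup.zpowers ea : Set GS)).index = 2037934080 by omega] at hs
  exact absurd hs (by decide)

theorem comm_B {y : GS} (hy : Commute y (eb * eb)) : Comm Suz.pres Suz.Rep.tbl y cwB := by
  intro W hW
  refine ⟨okW_lt (ok_all.2.2.2.2.1 W hW), ?_⟩
  obtain ⟨i, hi, rfl⟩ := List.getElem_of_mem hW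
  have h := cwB_eq
  simp only [Bool.and_eq_true, beq_iff_eq, List.all_eq_true, List.mem_range] at h
  rw [h.1] at hi
  have e := ev_eq (ok_all.2.2.2.2.1 _ (List.getElem_mem (h.1.symm ▸ hi : i < cwB.length)))
    (okW_rep (okW_append ok_all.2.1 ok_all.2.1) (i + 1))
    (List.getD_eq_getElem cwB [] (h.1.symm ▸ hi : i < cwB.length) ▸ h.2 i hi)
  show Commute y (ev _)
  rw [e, ev_rep, ev_append]
  exact hy.pow_right _

theorem es_commute {e : List ℕ} (he : e ∈ esOne ++ esTwo) : Commute (ev e) (eb * eb) := by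
  have hok : okW e = true :=
    (List.mem_append.mp he).elim (ok_all.2.2.2.2.2.1 e) (ok_all.2.2.2.2.2.2.1 e)
  have hbb := okW_append ok_all.2.1 ok_all.2.1
  have h := ev_eq (okW_append hok hbb) (okW_append hbb hok) (List.all_eq_true.mp es_comm e he)
  rw [ev_append, ev_append, ev_append] at h
  exact h

theorem es_cw {e : List ℕ} (he : e ∈ esOne ++ esTwo) : ∀ W ∈ cwB,
    Commute (evalWord Suz.pres.val e) (evalWord Suz.pres.val W) :=
  fun W hW => (comm_B (es_commute he) W hW).2

/-- The centraliser of the square of `b`. -/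
theorem cent_b {y : GS} (hy : Commute y (eb * eb)) : ∃ W ∈ combos, okW W = true ∧ y = ev W := by
  have h335 : 335 < Suz.Rep.tbl.n := show 335 < 1782 by omega
  have hc := comm_B hy
  have hm := image_mem colouring_ok (agrees_nil y) hc h335 b_cands
  have finish : ∀ (q t1 t2 : ℕ) (L : List (ℕ × ℕ)), ap Suz.rep Suz.nodup y 335 = q →
      detOK Suz.Rep.tbl col cwB (ext Suz.Rep.tbl [] cwB 335 q) [(1281, if q = 335 then 1281 else 335)] = true →
      roundOK Suz.Rep.tbl col (pairsB q) cwB esOne 2 t1 = true →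
      roundOK Suz.Rep.tbl col (ext Suz.Rep.tbl (pairsB q) cwB 2 t1) cwB esTwo 9 t2 = true →
      detOK Suz.Rep.tbl col cwB (pairsRounds q t1 t2) L = true →
      ∃ e2 ∈ esTwo, ∃ e1 ∈ esOne, Commute (y * (ev e1)⁻¹ * (ev e2)⁻¹) (eb * eb) ∧
        Agrees Suz.rep Suz.nodup (y * (ev e1)⁻¹ * (ev e2)⁻¹) (pairsDone q t1 t2 L) := by
    intro q t1 t2 L hq h2 hr1 hr2 hd
    have a1 := det_sound colouring_ok hc _ _ h2 ((agrees_nil y).ext hc h335 hq)
    obtain ⟨e1, he1, -, hc1, a2⟩ := round colouring_ok a1 hc hr1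
      fun e he => es_cw (List.mem_append_left _ he)
    obtain ⟨e2, he2, -, hc2, a3⟩ := round colouring_ok a2 hc1 hr2
      fun e he => es_cw (List.mem_append_right _ he)
    exact ⟨e2, he2, e1, he1,
      (hy.mul_left (es_commute (List.mem_append_left _ he1)).inv_left).mul_left
        (es_commute (List.mem_append_right _ he2)).inv_left,
      det_sound colouring_ok hc2 _ _ hd a3⟩
  simp only [List.mem_cons, List.not_mem_nil, or_false] at hm
  rcases hm with hq | hq
  · obtain ⟨e2, he2, e1, he1, -, ha⟩ := finish 335 2 9 detB0 hq b_second0 b_round0 b_next0 b_det0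
    refine ⟨e2 ++ e1, List.mem_flatMap.mpr ⟨e2, he2, List.mem_map.mpr ⟨e1, he1, rfl⟩⟩,
      okW_append (ok_all.2.2.2.2.2.2.1 e2 he2) (ok_all.2.2.2.2.2.1 e1 he1), ?_⟩
    have h1 : y * (ev e1)⁻¹ * (ev e2)⁻¹ = 1 := base_eq fun p hp => by
      rw [ap_one (base_lt hp)]
      obtain ⟨e, he, h2⟩ := List.any_eq_true.mp (List.all_eq_true.mp b_fix p hp)
      simp only [Bool.and_eq_true, Nat.beq_eq] at h2
      have h3 := (ha e he).2
      rw [h2.1, h2.2] at h3
      exact h3
    rw [ev_append]
    exact mul_inv_eq_iff_eq_mul.mp (mul_inv_eq_one.mp h1)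
  · exfalso
    obtain ⟨e2, he2, e1, he1, hv, ha⟩ :=
      finish 1281 514 1424 detB1 hq b_second1 b_round1 b_next1 b_det1
    set v := y * (ev e1)⁻¹ * (ev e2)⁻¹
    have hva : v * ea = ea * v := base_eq fun p hp => by
      have hla := okW_lt ok_all.1
      obtain ⟨e, he, h2⟩ := List.any_eq_true.mp (List.all_eq_true.mp b_comm_a p hp)
      simp only [Bool.and_eq_true, Nat.beq_eq, List.any_eq_true] at h2
      obtain ⟨h3, e', he', h4, h5⟩ := h2
      have hp' := base_lt hp
      rw [ap_mul v ea hp', ap_mul ea v hp', ← h3, (ha e he).2, ea, ev,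
        ap_word hla (h3 ▸ hp' : e.1 < Suz.Rep.tbl.n)]
      rw [show Suz.Rep.tbl.run aW e.1 = e'.1 by rw [h3, h4], (ha e' he').2, h5, ap_word hla]
      have hlt := ap_lt (R := Suz.rep) (hnd := Suz.nodup) v (h3 ▸ hp' : e.1 < Suz.Rep.tbl.n)
      rwa [(ha e he).2] at hlt
    obtain ⟨i, hi⟩ := Subgroup.mem_zpowers_iff.1 (cent_a v hva)
    have hbb : eb * eb * ea * (eb * eb)⁻¹ = ea ^ 36 := by
      have h := OuterRigid.conj_pow_rel' eb_conj 2 1
      rw [pow_one, pow_two, one_mul] at h
      exact h
    have hi' : ea ^ ((36 : ℤ) * i) = ea ^ i := by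
      have h := OuterRigid.mul_zpow_conj hbb i
      rw [hi, ← hv.eq] at h
      rw [hi]
      exact mul_right_cancel h.symm
    rw [zpow_eq_zpow_iff_modEq, ea_order, Int.modEq_iff_dvd] at hi'
    have h0 : v = 1 := by
      rw [← hi, ← zpow_zero ea, zpow_eq_zpow_iff_modEq, ea_order, Int.modEq_iff_dvd]
      omega
    obtain ⟨e, he, h2⟩ := List.any_eq_true.mp b_moved
    simp only [Bool.and_eq_true, Nat.beq_eq] at h2
    have h3 := (ha e he).2
    rw [h0, h2.1, h2.2, ap_one h335] at h3
    omega

theorem eu_comm : Commute eu (eb * eb) := by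
  have hbb := okW_append ok_all.2.1 ok_all.2.1
  have h := ev_eq (okW_append ok_all.2.2.1 hbb) (okW_append hbb ok_all.2.2.1) u_comm
  rw [ev_append, ev_append, ev_append] at h
  exact h

theorem okW_relWord {W : List ℕ} (hW : okW W = true) : ∀ k, okW (relWord W k) = true
  | 2 => okW_rep hW 3
  | 3 => okW_rep (okW_append ok_all.1 hW) 13
  | 0 => okW_rep (okW_append ok_all.2.1 hW) 10
  | 1 => okW_rep (okW_append ok_all.2.1 hW) 10
  | _ + 4 => okW_rep (okW_append ok_all.2.1 hW) 10

/-- An automorphism fixing `a` and `b` sends `u` to one of two elements. -/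
theorem image_u (α : MulAut GS) (ha : α ea = ea) (hb : α eb = eb) :
    α eu = eu ∨ α eu = ev uW2 := by
  have hc : Commute (α eu) (eb * eb) := by
    have h := eu_comm.map α
    rwa [map_mul, hb] at h
  obtain ⟨W, hW, hok, hWe⟩ := cent_b hc
  have hv := verdicts
  rw [Bool.and_eq_true, beq_iff_eq] at hv
  obtain ⟨k, hk, rfl⟩ := List.getElem_of_mem hW
  have h := allRange_spec hv.2 k (Nat.zero_le _) (by omega)
  rw [List.getD_eq_getElem _ _ hk] at h
  generalize codes.getD k (2, 4) = c at h
  obtain ⟨c1, c2⟩ := c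
  have r2 : eu ^ 3 = 1 := by
    rw [eu, ← ev_rep]; exact ev_eq (okW_relWord ok_all.2.2.1 2) rfl u_rel2
  have r3 : (ea * eu) ^ 13 = 1 := by
    rw [ea, eu, ← ev_append, ← ev_rep]; exact ev_eq (okW_relWord ok_all.2.2.1 3) rfl u_rel3
  have r4 : (eb * eu) ^ 10 = 1 := by
    rw [eb, eu, ← ev_append, ← ev_rep]; exact ev_eq (okW_relWord ok_all.2.2.1 4) rfl u_rel4
  match c1, h with
  | 0, h => left; rw [hWe]; exact ev_eq hok ok_all.2.2.1 h
  | 1, h => right; rw [hWe]; exact ev_eq hok ok_all.2.2.2.1 h
  | j + 2, h =>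
    exfalso
    have hone : ev (relWord combos[k] (j + 2)) = 1 := by
      match j with
      | 0 =>
        show ev (repWord _ 3) = 1
        rw [ev_rep, ← hWe, ← map_pow, r2, map_one]
      | 1 =>
        show ev (repWord (aW ++ _) 13) = 1
        rw [ev_rep, ev_append, ← hWe, show ev aW = α ea from ha.symm, ← map_mul, ← map_pow, r3, map_one]
      | i + 2 =>
        show ev (repWord (bW ++ _) 10) = 1
        rw [ev_rep, ev_append, ← hWe, show ev bW = α eb from hb.symm, ← map_mul, ← map_pow, r4, map_one]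
    simp only [verdict, Bool.not_eq_true'] at h
    refine Nat.ne_of_beq_eq_false h ?_
    have hlt : basePts.getD c2 0 < Suz.Rep.tbl.n := by
      rcases Nat.lt_or_ge c2 basePts.length with h' | h'
      · rw [List.getD_eq_getElem _ _ h']; exact base_lt (List.getElem_mem h')
      · rw [List.getD_eq_default _ _ h']; exact Suz.rep.ok.pos
    rw [← ap_word (R := Suz.rep) (hnd := Suz.nodup) (okW_lt (okW_relWord hok (j + 2))) hlt]
    show ap Suz.rep Suz.nodup (ev _) _ = _
    rw [hone, ap_one hlt]

theorem threeWord_ok {V : List ℕ} : okW (threeWord V) = true := by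
  rw [okW, List.all_eq_true]
  intro l hl
  obtain ⟨k, -, hk⟩ := List.mem_flatMap.mp hl
  have hall : ∀ k, okW (threeW.getD k []) = true := fun k =>
    match k with
    | 0 => ok_all.1
    | 1 => okW_reverse ok_all.1
    | 2 => ok_all.2.1
    | 3 => okW_reverse ok_all.2.1
    | 4 => ok_all.2.2.1
    | 5 => okW_reverse ok_all.2.2.1
    | _ + 6 => rfl
  exact List.all_eq_true.mp (hall k) l hk

/-- The three elements generate. -/
theorem gens_top : Subgroup.closure ({ea, eb, eu} : Set GS) = ⊤ := by
  rw [eq_top_iff, ← Suz.pres.closure_val, Subgroup.closure_le]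
  rintro _ ⟨l, hl, rfl⟩
  have hl' : l < 7 := hl
  have h := gens_three
  simp only [Bool.and_eq_true, beq_iff_eq, List.all_eq_true, List.mem_range] at h
  have e : ev (threeWord (genW.getD l [])) = ev [l] :=
    ev_eq threeWord_ok (by simp [okW, Nat.blt, Nat.ble_eq]; omega) (h.2 l hl')
  rw [SetLike.mem_coe, show Suz.pres.val l = ev [l] from (mul_one _).symm, ← e]
  have hK : ∀ V : List ℕ, ev (threeWord V) ∈ Subgroup.closure ({ea, eb, eu} : Set GS) := by
    intro V
    induction V with
    | nil => exact one_mem _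
    | cons k V ih =>
      rw [show threeWord (k :: V) = threeW.getD k [] ++ threeWord V from rfl, ev_append]
      refine mul_mem ?_ ih
      match k with
      | 0 => exact Subgroup.subset_closure (Or.inl rfl)
      | 1 =>
        show ev aW.reverse ∈ _
        rw [ev_reverse]; exact inv_mem (Subgroup.subset_closure (Or.inl rfl))
      | 2 => exact Subgroup.subset_closure (Or.inr (Or.inl rfl))
      | 3 =>
        show ev bW.reverse ∈ _
        rw [ev_reverse]; exact inv_mem (Subgroup.subset_closure (Or.inr (Or.inl rfl)))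
      | 4 => exact Subgroup.subset_closure (Or.inr (Or.inr rfl))
      | 5 =>
        show ev uW.reverse ∈ _
        rw [ev_reverse]; exact inv_mem (Subgroup.subset_closure (Or.inr (Or.inr rfl)))
      | _ + 6 => exact one_mem _
  exact hK _

theorem aut_ext {f g : MulAut GS} (ha : f ea = g ea) (hb : f eb = g eb) (hu : f eu = g eu) : f = g := by
  refine MulEquiv.ext fun x => ?_
  have hx : x ∈ Subgroup.closure ({ea, eb, eu} : Set GS) := gens_top.symm ▸ Subgroup.mem_top x
  induction hx using Subgroup.closure_induction with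
  | mem x hx =>
    rcases hx with rfl | rfl | rfl
    exacts [ha, hb, hu]
  | one => simp
  | mul a b _ _ h1 h2 => rw [map_mul, map_mul, h1, h2]
  | inv a _ h1 => rw [map_inv, map_inv, h1]

/-! ### The outer automorphism -/

theorem subst_ok (W : List ℕ) : okW (subst W) = true := by
  rw [okW, List.all_eq_true]
  intro m hm
  obtain ⟨l, -, hl⟩ := List.mem_flatMap.mp hm
  rcases Nat.lt_or_ge l sigW.length with h | h
  · rw [List.getD_eq_getElem _ _ h] at hl
    exact List.all_eq_true.mp (ok_all.2.2.2.2.2.2.2 _ (List.getElem_mem h)) m hl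
  · rw [List.getD_eq_default _ _ h] at hl
    exact absurd hl List.not_mem_nil

/-- The images of the generators. -/
noncomputable def sigImg (x : Cfsg.Spor.Suz.Gen) : GS := ev (sigW.getD (Suz.genList.idxOf x) [])

theorem sigImg_word : ∀ W : List ℕ, (∀ l ∈ W, l < 7) →
    evalWord (letterVal Suz.pres.gens sigImg) W = ev (subst W)
  | [], _ => rfl
  | l :: W, h => by
    have hl : l < 7 := h l List.mem_cons_self
    show letterVal Suz.pres.gens sigImg l * _ = _
    rw [show subst (l :: W) = sigW.getD l [] ++ subst W from rfl, ev_append,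
      sigImg_word W fun m hm => h m (List.mem_cons_of_mem _ hm)]
    congr 1
    interval_cases l <;> rfl

theorem sigImg_kills : ∀ W ∈ Suz.pres.relWords, evalWord (letterVal Suz.pres.gens sigImg) W = 1 := by
  intro W hW
  rw [Suz.Rep.rels_eq] at hW
  have h := List.all_eq_true.mp sig_rels W hW
  rw [Bool.and_eq_true, List.all_eq_true] at h
  rw [sigImg_word W fun l hl => Nat.le_of_ble_eq_true (h.1 l hl)]
  exact ev_eq (subst_ok W) rfl h.2

/-- The endomorphism underlying the outer automorphism. -/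
noncomputable def sigHom : GS →* GS := PresentedGroup.toGroup (Suz.pres.kills sigImg sigImg_kills)

theorem sigHom_ev {W : List ℕ} (hW : okW W = true) : sigHom (ev W) = ev (subst W) := by
  rw [← sigImg_word W (okW_lt hW)]
  clear hW
  induction W with
  | nil => exact map_one _
  | cons l W ih =>
    show sigHom (Suz.pres.val l * ev W) = letterVal Suz.pres.gens sigImg l * _
    rw [map_mul, ih]
    congr 1
    unfold InvPres.val letterVal
    cases Suz.pres.gens[l]? with
    | none => exact map_one _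
    | some x => exact PresentedGroup.toGroup.of _

theorem sigHom_ea : sigHom ea = ea := by
  rw [ea, sigHom_ev ok_all.1]; exact ev_eq (subst_ok _) ok_all.1 sig_a

theorem sigHom_bijective : Function.Bijective sigHom := by
  haveI := Suz.finite
  haveI := Suz.simple
  have hinj : Function.Injective sigHom := by
    rw [← MonoidHom.ker_eq_bot_iff]
    refine (inferInstance : sigHom.ker.Normal).eq_bot_or_eq_top.resolve_right fun h => ?_
    have hm : ea ∈ sigHom.ker := h ▸ Subgroup.mem_top _
    rw [MonoidHom.mem_ker, sigHom_ea] at hm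
    exact ev_ne ok_all.1 rfl a_ne hm
  exact ⟨hinj, Finite.surjective_of_injective hinj⟩

/-- The outer automorphism. -/
noncomputable def sigma : MulAut GS := MulEquiv.ofBijective sigHom sigHom_bijective

theorem sigma_ea : sigma ea = ea := sigHom_ea

theorem sigma_eb : sigma eb = eb :=
  (sigHom_ev ok_all.2.1).trans (ev_eq (subst_ok _) ok_all.2.1 sig_b)

theorem sigma_eu : sigma eu = ev uW2 :=
  (sigHom_ev ok_all.2.2.1).trans (ev_eq (subst_ok _) ok_all.2.2.2.1 sig_u)

theorem sigma_outer : sigma ∉ Cfsg.Inn GS := by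
  rintro ⟨g, hg⟩
  have hg' : MulAut.conj g = sigma := hg
  have hga : g * ea = ea * g := by
    have h := DFunLike.congr_fun hg' ea
    rw [sigma_ea, MulAut.conj_apply] at h
    exact mul_inv_eq_iff_eq_mul.mp h
  obtain ⟨i, rfl⟩ := Subgroup.mem_zpowers_iff.1 (cent_a g hga)
  have hgb : ea ^ i * eb = eb * ea ^ i := by
    have h := DFunLike.congr_fun hg' eb
    rw [sigma_eb, MulAut.conj_apply] at h
    exact mul_inv_eq_iff_eq_mul.mp h
  have hi' : ea ^ ((6 : ℤ) * i) = ea ^ i := by
    have h := OuterRigid.mul_zpow_conj eb_conj i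
    rw [← hgb] at h
    exact mul_right_cancel h.symm
  rw [zpow_eq_zpow_iff_modEq, ea_order, Int.modEq_iff_dvd] at hi'
  have h0 : ea ^ i = 1 := by
    rw [← zpow_zero ea, zpow_eq_zpow_iff_modEq, ea_order, Int.modEq_iff_dvd]
    omega
  have h := DFunLike.congr_fun hg' eu
  rw [h0, sigma_eu, map_one, MulAut.one_apply] at h
  exact ev_ne ok_all.2.2.2.1 ok_all.2.2.1 u_two h.symm

theorem covers : OuterRigid.Covers 11 6 := by
  unfold OuterRigid.Covers; decide +kernel

theorem cases_aut (α : MulAut GS) : α ∈ Cfsg.Inn GS ∨ α * sigma ∈ Cfsg.Inn GS := by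
  haveI := Suz.finite
  haveI : Fact (Nat.Prime 11) := ⟨by norm_num⟩
  obtain ⟨h, hb, ha⟩ := OuterRigid.normalise (p := 11) (r := 6) (u := 9)
    (by rw [Suz.card_eq.1]; norm_num) ea_order eb_conj cent_a covers (by norm_num) (by norm_num) α
  obtain ⟨k, hb', ha'⟩ : ∃ k : GS, (MulAut.conj k * α) eb = eb ∧ (MulAut.conj k * α) ea = ea := by
    rcases ha with ha | ha
    · exact ⟨h, hb, ha⟩
    · refine ⟨eb ^ 5 * h, ?_, ?_⟩
      · rw [map_mul, mul_assoc, MulAut.mul_apply, hb, MulAut.conj_apply]
        group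
      · rw [map_mul, mul_assoc, MulAut.mul_apply, ha, MulAut.conj_apply]
        have h5 := OuterRigid.conj_pow_rel' eb_conj 5 1
        rw [pow_one, one_mul] at h5
        calc eb ^ 5 * ea⁻¹ * (eb ^ 5)⁻¹ = (eb ^ 5 * ea * (eb ^ 5)⁻¹)⁻¹ := by group
          _ = (ea ^ 10)⁻¹ := by
            rw [h5, ← pow_mod_orderOf ea (6 ^ 5), ea_order]
            norm_num
          _ = ea := inv_eq_of_mul_eq_one_right (by rw [← pow_succ]; exact ea_pow)
  have hinn : ∀ β : MulAut GS, MulAut.conj k * β = 1 → β ∈ Cfsg.Inn GS := by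
    intro β hβ
    rw [eq_inv_of_mul_eq_one_right hβ]
    exact inv_mem ⟨k, rfl⟩
  rcases image_u _ ha' hb' with hu | hu
  · exact Or.inl (hinn α (aut_ext (f := MulAut.conj k * α) (g := 1) ha' hb' hu))
  · right
    have e : MulAut.conj k * α = sigma :=
      aut_ext (ha'.trans sigma_ea.symm) (hb'.trans sigma_eb.symm) (hu.trans sigma_eu.symm)
    have hσ2 : ∀ β : MulAut GS, β = sigma → β * sigma ∈ Cfsg.Inn GS := by
      intro β hβ
      subst hβ
      have ha2 : (sigma * sigma) ea = ea := by rw [MulAut.mul_apply, sigma_ea, sigma_ea]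
      have hb2 : (sigma * sigma) eb = eb := by rw [MulAut.mul_apply, sigma_eb, sigma_eb]
      rcases image_u _ ha2 hb2 with h2 | h2
      · rw [aut_ext (f := sigma * sigma) (g := 1) ha2 hb2 h2]
        exact one_mem _
      · exfalso
        rw [MulAut.mul_apply] at h2
        have h3 : sigma eu = eu := sigma.injective (h2.trans sigma_eu.symm)
        rw [sigma_eu] at h3
        exact ev_ne ok_all.2.2.2.1 ok_all.2.2.1 u_two h3
    have hm : (MulAut.conj k * α) * sigma ∈ Cfsg.Inn GS := hσ2 _ e
    rw [mul_assoc] at hm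
    have hk : MulAut.conj k ∈ Cfsg.Inn GS := ⟨k, rfl⟩
    exact (Subgroup.mul_mem_cancel_left _ hk).mp hm

theorem card_out : Nat.card (Cfsg.Out GS) = 2 :=
  OuterRigid.card_out_eq_two sigma sigma_outer cases_aut

end Cfsg.Agent.Recog71.SuzOut
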