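import Mathlib

set_option autoImplicit false

/-!
Twelve by twelve matrices over the field with two elements, packed in natural numbers.
-/

namespace Cfsg.Agent.Recog71.SzEight

/-- An entry, as a Boolean. -/
def bit (M k l : ℕ) : Bool := M.testBit (12 * k + l)

/-- A row. -/
def row (M k : ℕ) : ℕ := (M >>> (12 * k)) % 2 ^ 12

/-- Iterated exclusive or. -/
def xsum (f : ℕ → ℕ) : ℕ → ℕ
  | 0 => 0
  | n + 1 => xsum f n ^^^ f n

/-- Rows placed at their positions. -/
def pack (f : ℕ → ℕ) : ℕ → ℕ
  | 0 => 0
  | n + 1 => pack f n ^^^ (f n % 2 ^ 12) <<< (12 * n)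

/-- Pass an evaluated number on. -/
def force {α : Sort _} (x : ℕ) (f : ℕ → α) : α :=
  match x with
  | 0 => f 0
  | n + 1 => f (n + 1)

theorem force_eq {α : Sort _} (x : ℕ) (f : ℕ → α) : force x f = f x := by
  cases x <;> rfl

/-- The product. -/
def mul (A B : ℕ) : ℕ :=
  pack (fun k => force (row A k) fun r => xsum (fun m => if r.testBit m then row B m else 0) 12) 12

/-- The transpose. -/
def trp (A : ℕ) : ℕ :=
  pack (fun k => xsum (fun m => if bit A m k then 2 ^ m else 0) 12) 12

/-- The action on bilinear forms. -/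
def act (g z : ℕ) : ℕ := force (mul g z) fun y => force (trp g) fun h => mul y h

/-- The identity. -/
def idm : ℕ := pack (fun k => 2 ^ k) 12

/-- A Boolean in the field with two elements. -/
def bz (b : Bool) : ZMod 2 := if b then 1 else 0

theorem bz_xor (a b : Bool) : bz (a ^^ b) = bz a + bz b := by
  cases a <;> cases b <;> decide

theorem bz_and (a b : Bool) : bz (a && b) = bz a * bz b := by
  cases a <;> cases b <;> decide

theorem testBit_xsum (f : ℕ → ℕ) (j : ℕ) : ∀ n,
    bz ((xsum f n).testBit j) = ∑ m ∈ Finset.range n, bz ((f m).testBit j)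
  | 0 => by simp [xsum, bz]
  | n + 1 => by rw [xsum, Nat.testBit_xor, bz_xor, testBit_xsum f j n, Finset.sum_range_succ]

theorem bit_pack (f : ℕ → ℕ) {k l : ℕ} (hl : l < 12) : ∀ n,
    bit (pack f n) k l = (decide (k < n) && (f k).testBit l)
  | 0 => by simp [pack, bit]
  | n + 1 => by
    have ih := bit_pack f hl (k := k) n
    simp only [bit] at ih ⊢
    rw [pack, Nat.testBit_xor, ih, Nat.testBit_shiftLeft, Nat.testBit_mod_two_pow]
    rcases Nat.lt_trichotomy k n with h | h | h
    · have : ¬ (12 * k + l ≥ 12 * n) := by omega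
      simp [this, h, Nat.lt_succ_of_lt h]
    · subst h
      simp [hl, Nat.add_sub_cancel_left]
    · have h1 : ¬ k < n := by omega
      have h2 : ¬ k < n + 1 := by omega
      have h3 : ¬ (12 * k + l - 12 * n < 12) := by omega
      simp [h1, h2, h3]

theorem testBit_row (M k l : ℕ) : (row M k).testBit l = (decide (l < 12) && bit M k l) := by
  rw [row, Nat.testBit_mod_two_pow, Nat.testBit_shiftRight, bit]

/-- The matrix of a packed number. -/
def toMat (M : ℕ) : Matrix (Fin 12) (Fin 12) (ZMod 2) :=
  Matrix.of fun k l => bz (bit M k.val l.val)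

theorem toMat_mul (A B : ℕ) : toMat (mul A B) = toMat A * toMat B := by
  ext k l
  simp only [toMat, Matrix.of_apply, mul, bit_pack _ l.isLt, k.isLt, decide_true, Bool.true_and,
    force_eq, testBit_xsum, Matrix.mul_apply]
  rw [← Fin.sum_univ_eq_sum_range
    (fun m => bz ((if (row A k.val).testBit m then row B m else 0).testBit l.val)) 12]
  refine Finset.sum_congr rfl fun m _ => ?_
  rw [← bz_and]
  congr 1
  rw [testBit_row, decide_eq_true m.isLt, Bool.true_and]
  cases bit A k.val m.val <;> simp [testBit_row]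

theorem toMat_trp (A : ℕ) : toMat (trp A) = (toMat A).transpose := by
  ext k l
  simp only [toMat, Matrix.of_apply, Matrix.transpose_apply, trp, bit_pack _ l.isLt, k.isLt,
    decide_true, Bool.true_and, testBit_xsum]
  rw [Finset.sum_eq_single l.val]
  · cases bit A l.val k.val <;> simp [bz]
  · intro m _ hm
    cases bit A m k.val <;> simp [bz, Nat.testBit_two_pow, hm]
  · intro h
    exact absurd (Finset.mem_range.mpr l.isLt) h

theorem toMat_act (g z : ℕ) : toMat (act g z) = toMat g * toMat z * (toMat g).transpose := by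
  rw [act, force_eq, force_eq, toMat_mul, toMat_mul, toMat_trp]

theorem toMat_xor (A B : ℕ) : toMat (A ^^^ B) = toMat A + toMat B := by
  ext k l
  simp [toMat, bit, Nat.testBit_xor, bz_xor]

theorem toMat_idm : toMat idm = 1 := by decide +kernel

theorem toMat_zero : toMat 0 = 0 := by
  ext k l
  simp [toMat, bit, bz]

theorem toMat_xsum (f : ℕ → ℕ) : ∀ n, toMat (xsum f n) = ∑ m ∈ Finset.range n, toMat (f m)
  | 0 => by simp [xsum, toMat_zero]
  | n + 1 => by rw [xsum, toMat_xor, toMat_xsum f n, Finset.sum_range_succ]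

/-- Powers with the exponents 12, 15, 7 and 13, in this order. -/
def powIdx (P : ℕ) : ℕ → ℕ
  | 0 => force (mul P P) fun p2 => force (mul p2 P) fun p3 => force (mul p3 p3) fun p6 => mul p6 p6
  | 1 => force (mul P P) fun p2 => force (mul p2 P) fun p3 => force (mul p3 p2) fun p5 =>
      force (mul p5 p5) fun p10 => mul p10 p5
  | 2 => force (mul P P) fun p2 => force (mul p2 P) fun p3 => force (mul p3 p3) fun p6 => mul p6 P
  | _ => force (mul P P) fun p2 => force (mul p2 P) fun p3 => force (mul p3 p3) fun p6 =>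
      force (mul p6 p6) fun p12 => mul p12 P

/-- The exponent of an index. -/
def expOf : ℕ → ℕ
  | 0 => 12
  | 1 => 15
  | 2 => 7
  | _ => 13

theorem toMat_powIdx (P : ℕ) : ∀ e, toMat (powIdx P e) = toMat P ^ expOf e
  | 0 => by simp only [powIdx, expOf, force_eq, toMat_mul]; noncomm_ring
  | 1 => by simp only [powIdx, expOf, force_eq, toMat_mul]; noncomm_ring
  | 2 => by simp only [powIdx, expOf, force_eq, toMat_mul]; noncomm_ring
  | n + 3 => by simp only [powIdx, expOf, force_eq, toMat_mul]; noncomm_ring

/-- A natural power. -/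
def npowM (P : ℕ) : ℕ → ℕ
  | 0 => idm
  | n + 1 => force (npowM P n) fun Q => mul Q P

theorem toMat_npowM (P : ℕ) : ∀ n, toMat (npowM P n) = toMat P ^ n
  | 0 => by rw [pow_zero]; exact toMat_idm
  | n + 1 => by rw [npowM, force_eq, toMat_mul, toMat_npowM P n, pow_succ]

end Cfsg.Agent.Recog71.SzEight
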