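import Cfsg.Agent.Recog71.SzEightGroup

set_option autoImplicit false

/-!
Extensions of powers of the module by the automorphism group of the Suzuki group over eight elements:
their prime divisors and their pairs of primes joined in the prime graph.
-/

namespace Cfsg.Agent.Recog71.SzEight

/-- The action on a power of a module. -/
def powActOf (G V : Type) [Group G] [AddCommGroup V] [DistribMulAction G V] (N : ℕ) :
    G →* MulAut (Multiplicative (Fin N → V)) :=
  MonoidHom.mk' (fun x => AddEquiv.toMultiplicative (DistribMulAction.toAddEquiv (Fin N → V) x))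
    fun x y => MulEquiv.ext fun v =>
      congrArg Multiplicative.ofAdd (mul_smul x y (Multiplicative.toAdd v))

theorem powActOf_apply {G V : Type} [Group G] [AddCommGroup V] [DistribMulAction G V] {N : ℕ} (x : G)
    (a : Multiplicative (Fin N → V)) (i : Fin N) :
    Multiplicative.toAdd (powActOf G V N x a) i = x • Multiplicative.toAdd a i := rfl

/-- The action on a power of the module. -/
noncomputable abbrev powAct (N : ℕ) : X →* MulAut (Multiplicative (Fin N → W)) := powActOf X W N

/-- The extension. -/
abbrev Ext (N : ℕ) : Type := Multiplicative (Fin N → W) ⋊[powAct N] X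

instance finiteExt (N : ℕ) : Finite (Ext N) :=
  Finite.of_equiv _ SemidirectProduct.equivProd.symm

variable {N : ℕ}

theorem pow_two_left (a : Multiplicative (Fin N → W)) : a ^ 2 = 1 := by
  refine congrArg Multiplicative.ofAdd (?_ : 2 • Multiplicative.toAdd a = 0)
  funext i
  show 2 • Multiplicative.toAdd a i = 0
  rw [two_nsmul]
  exact add_self_W _

theorem prime_of_card {r : ℕ} (hr : r.Prime) {x : X} (hx : orderOf x = r) :
    r ∈ [2, 3, 5, 7, 13] := by
  have h : ∀ n ∈ [12, 15, 7, 13], ∀ d ∈ Nat.divisors n, d.Prime → d ∈ [2, 3, 5, 7, 13] := by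
    intro n hn d hd hdp
    have := Nat.divisor_le hd
    simp only [List.mem_cons, List.not_mem_nil, or_false] at hn
    have hdvd := Nat.dvd_of_mem_divisors hd
    rcases hn with rfl | rfl | rfl | rfl <;> interval_cases d <;> revert hdp hdvd <;> decide
  rcases orderOf_dvd x with e | e | e | e <;>
    exact h _ (by simp) r (Nat.mem_divisors.mpr ⟨hx ▸ e, by norm_num⟩) hr

theorem prime_dvd_card {r : ℕ} (hr : r.Prime) :
    r ∣ Nat.card (Ext (N + 1)) ↔ r ∈ [2, 3, 5, 7, 13] := by
  haveI := Fact.mk hr
  constructor
  · intro h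
    obtain ⟨y, hy⟩ := exists_prime_orderOf_dvd_card' r h
    by_cases hk : y.right = 1
    · have h2 : orderOf y ∣ 2 := orderOf_dvd_of_pow_eq_one (by
        rw [show y = SemidirectProduct.inl y.left from SemidirectProduct.ext rfl hk, ← map_pow,
          pow_two_left, map_one])
      rw [hy] at h2
      simp [(Nat.prime_dvd_prime_iff_eq hr Nat.prime_two).mp h2]
    · refine prime_of_card hr (x := y.right) (orderOf_eq_prime ?_ hk)
      rw [← SemidirectProduct.rightHom_eq_right (φ := powAct (N + 1)), ← map_pow, ← hy,
        pow_orderOf_eq_one, map_one]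
  · intro h
    have key : ∀ {n : ℕ}, (∃ x : X, orderOf x = n) → n ∣ Nat.card (Ext (N + 1)) := by
      rintro n ⟨x, rfl⟩
      rw [← orderOf_injective (SemidirectProduct.inr (φ := powAct (N + 1))) SemidirectProduct.inr_injective x]
      exact orderOf_dvd_natCard _
    obtain ⟨s13, -, h13⟩ := exists_orderOf (w := wordSigma) (n := 13) (by simp)
    obtain ⟨s7, -, h7⟩ := exists_orderOf (w := wordSeven) (n := 7) (by simp)
    obtain ⟨s6, -, h6⟩ := exists_orderOf (w := wordSix) (n := 6) (by simp)
    obtain ⟨s5, -, h5⟩ := exists_orderOf (w := wordFive) (n := 5) (by simp)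
    simp only [List.mem_cons, List.not_mem_nil, or_false] at h
    rcases h with rfl | rfl | rfl | rfl | rfl
    · exact (show 2 ∣ 6 by norm_num).trans (key ⟨s6, h6⟩)
    · exact (show 3 ∣ 6 by norm_num).trans (key ⟨s6, h6⟩)
    · exact key ⟨s5, h5⟩
    · exact key ⟨s7, h7⟩
    · exact key ⟨s13, h13⟩

theorem orderOf_mem_of_right {r s : ℕ} (hr : r.Prime) (hs : s.Prime) (hne : r ≠ s) {x : X}
    (hx : orderOf x = r * s) : r * s ∈ [6, 10, 14, 15] := by
  have h : ∀ n ∈ [12, 15, 7, 13], ∀ d ∈ Nat.divisors n,
      d ∈ [1, 2, 3, 4, 5, 7, 12, 13] ∨ d ∈ [6, 10, 14, 15] := by decide +kernel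
  have hcases : r * s ∈ [1, 2, 3, 4, 5, 7, 12, 13] ∨ r * s ∈ [6, 10, 14, 15] := by
    rcases orderOf_dvd x with e | e | e | e <;>
      exact h _ (by simp) _ (Nat.mem_divisors.mpr ⟨hx ▸ e, by norm_num⟩)
  refine hcases.resolve_left fun hmem => ?_
  have hr2 := hr.two_le
  have hs2 := hs.two_le
  simp only [List.mem_cons, List.not_mem_nil, or_false] at hmem
  have hle : r ≤ 6 := by
    have : r * 2 ≤ r * s := Nat.mul_le_mul_left r hs2
    omega
  have hle' : s ≤ 6 := by
    have : 2 * s ≤ r * s := Nat.mul_le_mul_right s hr2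
    omega
  interval_cases r <;> interval_cases s <;> simp_all (config := {decide := true})

theorem edge {r s : ℕ} (hr : r.Prime) (hs : s.Prime) (hne : r ≠ s) :
    (∃ y : Ext (N + 1), orderOf y = r * s) ↔ r * s ∈ [6, 10, 14, 15] := by
  constructor
  · rintro ⟨y, hy⟩
    have hd : orderOf y.right ∣ r * s :=
      hy ▸ orderOf_map_dvd (SemidirectProduct.rightHom (φ := powAct (N + 1))) y
    by_cases hfull : orderOf y.right = r * s
    · exact orderOf_mem_of_right hr hs hne hfull
    have hv : (y ^ orderOf y.right).right = 1 := by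
      rw [← SemidirectProduct.rightHom_eq_right (φ := powAct (N + 1)), map_pow,
        SemidirectProduct.rightHom_eq_right, pow_orderOf_eq_one]
    set t := orderOf y.right with ht
    set a := (y ^ t).left with ha
    have hya : y ^ t = SemidirectProduct.inl a := SemidirectProduct.ext rfl hv
    have h2 : r * s ∣ t * 2 := hy ▸ orderOf_dvd_of_pow_eq_one (by
      rw [pow_mul, hya, ← map_pow, pow_two_left, map_one])
    -- one prime is two and the other is the order of the image
    have key : ∀ {p q : ℕ}, p.Prime → q.Prime → p ≠ q → p * q ∣ t * 2 → t ∣ p * q → t ≠ p * q →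
        q ∣ t → p = 2 ∧ t = q := by
      intro p q hp hq hne hd hdvd hfull hqd
      have hnp : ¬ p ∣ t := fun h => hfull (Nat.dvd_antisymm hdvd
        (((Nat.coprime_primes hp hq).mpr hne).mul_dvd_of_dvd_of_dvd h hqd))
      have hp2 : p = 2 := (Nat.prime_dvd_prime_iff_eq hp Nat.prime_two).mp
        ((hp.dvd_mul.mp ((dvd_mul_right p q).trans hd)).resolve_left hnp)
      exact ⟨hp2, Nat.dvd_antisymm (((hp.coprime_iff_not_dvd).mpr hnp).symm.dvd_of_dvd_mul_left hdvd) hqd⟩
    obtain ⟨q, hq, hq2, htq, hrs⟩ : ∃ q : ℕ, q.Prime ∧ q ≠ 2 ∧ t = q ∧ r * s = 2 * q := by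
      by_cases hsd : s ∣ t
      · obtain ⟨h2', hts⟩ := key hr hs hne h2 hd hfull hsd
        exact ⟨s, hs, fun e => hne (h2'.trans e.symm), hts, by rw [h2']⟩
      · have hs2 : s = 2 := (Nat.prime_dvd_prime_iff_eq hs Nat.prime_two).mp
          ((hs.dvd_mul.mp ((dvd_mul_left s r).trans h2)).resolve_left hsd)
        have hrd : r ∣ t := (hr.dvd_mul.mp ((dvd_mul_right r s).trans h2)).resolve_right
          fun h => hne (((Nat.prime_dvd_prime_iff_eq hr Nat.prime_two).mp h).trans hs2.symm)
        obtain ⟨-, htr⟩ := key hs hr hne.symm (by rw [mul_comm]; exact h2)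
          (by rw [mul_comm]; exact hd) (by rw [mul_comm]; exact hfull) hrd
        exact ⟨r, hr, fun e => hne (e.trans hs2.symm), htr, by rw [hs2, mul_comm]⟩
    have hmem := prime_of_card hq (x := y.right) (ht.symm.trans htq)
    have h13 : q ≠ 13 := by
      rintro rfl
      have hcomm : y * SemidirectProduct.inl a = SemidirectProduct.inl a * y := by
        rw [← hya]; exact ((Commute.refl y).pow_right t).eq
      have hfix : powAct (N + 1) y.right a = a := by
        have h := congrArg SemidirectProduct.left hcomm
        rw [SemidirectProduct.mul_left, SemidirectProduct.mul_left, SemidirectProduct.left_inl,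
          SemidirectProduct.right_inl, map_one, MulAut.one_apply, mul_comm] at h
        exact mul_right_cancel h
      have h0 : a = 1 := by
        refine congrArg Multiplicative.ofAdd (?_ : Multiplicative.toAdd a = 0)
        funext i
        exact fixed_thirteen (ht.symm.trans htq) (congrFun (congrArg Multiplicative.toAdd hfix) i)
      rw [h0, map_one] at hya
      have := orderOf_dvd_of_pow_eq_one hya
      rw [hy, hrs, htq] at this
      norm_num at this
    simp only [List.mem_cons, List.not_mem_nil, or_false] at hmem ⊢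
    rcases hmem with rfl | rfl | rfl | rfl | rfl <;> omega
  · intro h
    have hlift : ∀ {n : ℕ} (x : X), orderOf x = n → ∃ y : Ext (N + 1), orderOf y = n := fun x hx =>
      ⟨SemidirectProduct.inr x, (orderOf_injective _ SemidirectProduct.inr_injective x).trans hx⟩
    have hdouble : ∀ {n : ℕ}, Nat.Coprime 2 n → (∃ (x : X) (v : W), orderOf x = n ∧ v ≠ 0 ∧ x • v = v) →
        ∃ y : Ext (N + 1), orderOf y = 2 * n := by
      rintro n hcop ⟨x, v, hx, hv0, hxv⟩
      set a : Multiplicative (Fin (N + 1) → W) := Multiplicative.ofAdd (fun _ => v) with ha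
      have hfix : powAct (N + 1) x a = a := congrArg Multiplicative.ofAdd (funext fun _ => hxv)
      have hc : Commute (SemidirectProduct.inl a : Ext (N + 1)) (SemidirectProduct.inr x) := by
        refine SemidirectProduct.ext ?_ ?_
        · simp [hfix]
        · simp
      have h1 : orderOf (SemidirectProduct.inl a : Ext (N + 1)) = 2 := by
        rw [orderOf_injective _ SemidirectProduct.inl_injective]
        haveI : Fact (Nat.Prime 2) := ⟨Nat.prime_two⟩
        refine orderOf_eq_prime (pow_two_left a) fun e => hv0 ?_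
        exact congrFun (congrArg Multiplicative.toAdd e) 0
      have h2 : orderOf (SemidirectProduct.inr x : Ext (N + 1)) = n :=
        (orderOf_injective _ SemidirectProduct.inr_injective x).trans hx
      exact ⟨_, (hc.orderOf_mul_eq_mul_orderOf_of_coprime (by rw [h1, h2]; exact hcop)).trans (by rw [h1, h2])⟩
    simp only [List.mem_cons, List.not_mem_nil, or_false] at h
    rcases h with e | e | e | e <;> rw [e]
    · obtain ⟨x, -, hx⟩ := exists_orderOf (w := wordSix) (n := 6) (by simp)
      exact hlift x hx
    · exact hdouble (n := 5) (by norm_num) exists_five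
    · exact hdouble (n := 7) (by norm_num) exists_seven
    · obtain ⟨x, -, hx⟩ := exists_orderOf (w := wordFifteen) (n := 15) (by simp)
      exact hlift x hx

theorem lt_card (N : ℕ) : N < Nat.card (Ext (N + 1)) := by
  rw [Nat.card_congr SemidirectProduct.equivProd, Nat.card_prod]
  refine lt_of_lt_of_le ?_ (Nat.le_mul_of_pos_right _ Nat.card_pos)
  rw [Nat.card_congr Multiplicative.toAdd, Nat.card_fun, Nat.card_fin]
  exact lt_trans (Nat.lt_succ_self N) (Nat.lt_pow_self Finite.one_lt_card)

end Cfsg.Agent.Recog71.SzEight
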