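import Cfsg.Agent.Recog71.SzEightTables

set_option autoImplicit false
set_option maxRecDepth 10000

/-!
The exponents in one of the two double cosets.
-/

namespace Cfsg.Agent.Recog71.SzEight

theorem order_valid_b : ∀ d : Fin 1344,
    force (mul (T (rep 1).val) (Hh d.val)) (fun P => powIdx P (ordIdx 1 d)) = idm := by
  decide +kernel

end Cfsg.Agent.Recog71.SzEight
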