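import Cfsg.Agent.Recog71.SzEightOrdersA
import Cfsg.Agent.Recog71.SzEightOrdersB

set_option autoImplicit false
set_option maxRecDepth 10000

/-!
The exponents in the two double cosets, and the elements of order thirteen.
-/

namespace Cfsg.Agent.Recog71.SzEight

theorem order_valid : ∀ (r : Fin 2) (d : Fin 1344),
    force (mul (T (rep r).val) (Hh d.val)) (fun P => powIdx P (ordIdx r d)) = idm := by
  intro r d
  fin_cases r
  · exact order_valid_a d
  · exact order_valid_b d

theorem thirteen_valid : ∀ (r : Fin 2) (d : Fin 1344), 3 ≤ ordIdx r d →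
    force (mul (T (cT r d).val) (Hh (cH r d).val)) (fun z =>
      mul (npowM (force (mul (T (rep r).val) (Hh d.val)) id) (cExp r d)) z) =
    force (mul (T (cT r d).val) (Hh (cH r d).val)) (fun z => mul z sigma) := by
  decide +kernel

end Cfsg.Agent.Recog71.SzEight
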