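import Cfsg.Agent.Recog71.SzEightSub
import Cfsg.Agent.Recog71.SzEightOrders

set_option autoImplicit false
set_option maxRecDepth 10000

/-!
The automorphism group of the Suzuki group over eight elements as a matrix group, its element orders,
and a module on which elements of order thirteen fix only zero.
-/

namespace Cfsg.Agent.Recog71.SzEight

/-- A generator as a unit. -/
def gU (g : Fin 3) : (Matrix (Fin 12) (Fin 12) (ZMod 2))ˣ :=
  ⟨toMat (Gn g.val), toMat (Gn (g.val + 3)), by rw [← toMat_mul, (gen_inv g).1, toMat_idm],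
    by rw [← toMat_mul, (gen_inv g).2, toMat_idm]⟩

/-- The group. -/
abbrev X : Subgroup (Matrix (Fin 12) (Fin 12) (ZMod 2))ˣ := Subgroup.closure (Set.range gU)

/-- The matrix of an element. -/
def mat (x : X) : Matrix (Fin 12) (Fin 12) (ZMod 2) := ((x : (Matrix (Fin 12) (Fin 12) (ZMod 2))ˣ) : _)

theorem mat_mul (x y : X) : mat (x * y) = mat x * mat y := rfl

theorem mat_one : mat 1 = 1 := rfl

theorem mat_pow (x : X) (n : ℕ) : mat (x ^ n) = mat x ^ n := by
  induction n with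
  | zero => rfl
  | succ n ih => rw [pow_succ, mat_mul, ih, pow_succ]

theorem mat_inj {x y : X} (h : mat x = mat y) : x = y := Subtype.ext (Units.ext h)

theorem exists_gen (g : ℕ) (hg : g < 3) : ∃ x : X, mat x = toMat (Gn g) :=
  ⟨⟨gU ⟨g, hg⟩, Subgroup.subset_closure ⟨_, rfl⟩⟩, rfl⟩

theorem exists_word {w : List ℕ} (hw : ∀ g ∈ w, g < 3) : ∃ x : X, mat x = toMat (word w) := by
  induction w with
  | nil => exact ⟨1, by rw [mat_one, word, toMat_idm]⟩
  | cons g w ih =>
    obtain ⟨y, hy⟩ := exists_gen g (hw g List.mem_cons_self)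
    obtain ⟨x, hx⟩ := ih fun g' h => hw g' (List.mem_cons_of_mem _ h)
    exact ⟨y * x, by rw [mat_mul, word, force_eq, toMat_mul, hx, hy]⟩

theorem exists_T (i : Fin 65) : ∃ x : X, mat x = toMat (T i.val) := by
  induction hi : i.val using Nat.strong_induction_on generalizing i with
  | _ n IH =>
  subst hi
  by_cases h0 : i.val = 0
  · exact ⟨1, by rw [mat_one, h0, trans_valid.1, toMat_idm]⟩
  · obtain ⟨hlt, he⟩ := (trans_valid.2 i).2.1 h0
    obtain ⟨y, hy⟩ := exists_gen (tparG i).val (tparG i).isLt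
    obtain ⟨x, hx⟩ := IH _ hlt (tparI i) rfl
    exact ⟨y * x, by rw [mat_mul, hy, hx, ← toMat_mul, he]⟩

theorem exists_Sg (s : Fin 2) : ∃ x : X, mat x = toMat (Sg s.val) := by
  fin_cases s
  · rw [show ((⟨0, by norm_num⟩ : Fin 2).val) = 0 from rfl, sub_gen.1]; exact exists_word word_small.1
  · rw [show ((⟨1, by norm_num⟩ : Fin 2).val) = 1 from rfl, sub_gen.2]; exact exists_word word_small.2

theorem exists_H (a : Fin 1344) : ∃ x : X, mat x = toMat (Hh a.val) := by
  induction ha : a.val using Nat.strong_induction_on generalizing a with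
  | _ n IH =>
  subst ha
  by_cases h0 : a.val = 0
  · exact ⟨1, by rw [mat_one, h0, sub_valid.1, toMat_idm]⟩
  · obtain ⟨hlt, he⟩ := (sub_valid.2 a).2.2 h0
    obtain ⟨y, hy⟩ := exists_Sg (parS a)
    obtain ⟨x, hx⟩ := IH _ hlt (parI a) rfl
    exact ⟨y * x, by rw [mat_mul, hy, hx, ← toMat_mul, he]⟩

theorem sub_mul (a c : Fin 1344) :
    ∃ e : Fin 1344, toMat (Hh a.val) * toMat (Hh c.val) = toMat (Hh e.val) := by
  induction ha : a.val using Nat.strong_induction_on generalizing a with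
  | _ n IH =>
  subst ha
  by_cases h0 : a.val = 0
  · exact ⟨c, by rw [h0, sub_valid.1, toMat_idm, one_mul]⟩
  · obtain ⟨hlt, he⟩ := (sub_valid.2 a).2.2 h0
    obtain ⟨e, h⟩ := IH _ hlt (parI a) rfl
    exact ⟨hnx (parS a).val e, by rw [← he, toMat_mul, mul_assoc, h, ← toMat_mul,
      (sub_valid.2 e).2.1 (parS a)]⟩

/-- Products of a transversal element and a subgroup element. -/
def InS (M : Matrix (Fin 12) (Fin 12) (ZMod 2)) : Prop :=
  ∃ (i : Fin 65) (a : Fin 1344), M = toMat (T i.val) * toMat (Hh a.val)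

theorem gen_mul_InS (g : Fin 3) {M : Matrix (Fin 12) (Fin 12) (ZMod 2)} (h : InS M) :
    InS (toMat (Gn g.val) * M) := by
  obtain ⟨i, a, rfl⟩ := h
  obtain ⟨e, he⟩ := sub_mul (sch g.val i.val) a
  refine ⟨nxt g.val i.val, e, ?_⟩
  rw [← mul_assoc, ← toMat_mul, (trans_valid.2 i).2.2 g, toMat_mul, mul_assoc, he]

instance finiteX : Finite X := Subtype.finite

theorem InS_all (x : X) : InS (mat x) := by
  suffices key : ∀ y ∈ X, ∀ M, InS M →
      InS ((y : Matrix (Fin 12) (Fin 12) (ZMod 2)) * M) by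
    have h := key x.1 x.2 1 ⟨0, 0, by
      simp [trans_valid.1, sub_valid.1, toMat_idm]⟩
    rwa [mul_one] at h
  intro y hy
  induction hy using Subgroup.closure_induction with
  | one => intro M hM; rw [Units.val_one, one_mul]; exact hM
  | mul a b _ _ ha hb => intro M hM; rw [Units.val_mul, mul_assoc]; exact ha _ (hb M hM)
  | mem a ha =>
    obtain ⟨g, rfl⟩ := ha
    exact fun M hM => gen_mul_InS g hM
  | inv a _ ha =>
    intro M hM
    have hpow : ∀ n : ℕ, ∀ M, InS M → InS (((a ^ n : (Matrix (Fin 12) (Fin 12) (ZMod 2))ˣ) : Matrix _ _ _) * M) := by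
      intro n
      induction n with
      | zero => intro M hM; rw [pow_zero, Units.val_one, one_mul]; exact hM
      | succ n ih => intro M hM; rw [pow_succ, Units.val_mul, mul_assoc]; exact ih _ (ha M hM)
    obtain ⟨n, hn⟩ := ((isOfFinOrder_of_finite a).mem_powers_iff_mem_zpowers).mpr
      (Subgroup.inv_mem _ (Subgroup.mem_zpowers a))
    rw [← show a ^ n = a⁻¹ from hn]
    exact hpow n M hM

/-- Every element is conjugate to a representative. -/
theorem exists_conj (x : X) : ∃ (r : Fin 2) (d : Fin 1344) (h y : X),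
    mat y = toMat (T (rep r).val) * toMat (Hh d.val) ∧ x = h * y * h⁻¹ := by
  obtain ⟨i, a, hx⟩ := InS_all x
  obtain ⟨h, hh⟩ := exists_H (dcl i)
  obtain ⟨d₁, hd₁⟩ := sub_mul (dcx i) a
  obtain ⟨d, hd⟩ := sub_mul d₁ (dcl i)
  obtain ⟨t, ht⟩ := exists_T (rep (dcr i))
  obtain ⟨u, hu⟩ := exists_H d
  refine ⟨dcr i, d, h, t * u, by rw [mat_mul, ht, hu], ?_⟩
  have e : x * h = h * (t * u) := by
    refine mat_inj ?_
    rw [mat_mul, mat_mul, mat_mul, hx, hh, ht, hu, ← double_valid i, toMat_mul, toMat_mul, ← hd, ← hd₁]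
    simp only [mul_assoc]
  rw [← e, mul_inv_cancel_right]

theorem pow_exp (r : Fin 2) (d : Fin 1344) {y : X}
    (hy : mat y = toMat (T (rep r).val) * toMat (Hh d.val)) : y ^ expOf (ordIdx r d) = 1 := by
  refine mat_inj ?_
  have h := order_valid r d
  rw [force_eq] at h
  rw [mat_pow, hy, ← toMat_mul, ← toMat_powIdx, h, toMat_idm, mat_one]

theorem exp_cases (e : ℕ) : expOf e = 12 ∨ expOf e = 15 ∨ expOf e = 7 ∨ (3 ≤ e ∧ expOf e = 13) := by
  match e with
  | 0 => exact Or.inl rfl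
  | 1 => exact Or.inr (Or.inl rfl)
  | 2 => exact Or.inr (Or.inr (Or.inl rfl))
  | n + 3 => exact Or.inr (Or.inr (Or.inr ⟨by omega, rfl⟩))

theorem orderOf_dvd (x : X) : orderOf x ∣ 12 ∨ orderOf x ∣ 15 ∨ orderOf x ∣ 7 ∨ orderOf x ∣ 13 := by
  obtain ⟨r, d, h, y, hy, rfl⟩ := exists_conj x
  have hd : orderOf (h * y * h⁻¹) ∣ expOf (ordIdx r d) := by
    refine orderOf_dvd_of_pow_eq_one ?_
    rw [← MulAut.conj_apply, ← map_pow, pow_exp r d hy, map_one]
  rcases exp_cases (ordIdx r d) with e | e | e | ⟨-, e⟩ <;> rw [e] at hd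
  · exact Or.inl hd
  · exact Or.inr (Or.inl hd)
  · exact Or.inr (Or.inr (Or.inl hd))
  · exact Or.inr (Or.inr (Or.inr hd))

theorem exists_orderOf {w : List ℕ} {n : ℕ}
    (hw : (w, n) ∈ [(wordSigma, 13), (wordSeven, 7), (wordFive, 5), (wordSix, 6), (wordFifteen, 15)]) :
    ∃ x : X, mat x = toMat (word w) ∧ orderOf x = n := by
  obtain ⟨hg, h1, h2⟩ := word_order _ hw
  obtain ⟨x, hx⟩ := exists_word hg
  refine ⟨x, hx, (orderOf_eq_iff ?_).mpr ⟨?_, fun m hm hm0 e => h2 ⟨m, hm⟩ hm0 ?_⟩⟩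
  · simp only [List.mem_cons, Prod.mk.injEq, List.not_mem_nil, or_false] at hw
    rcases hw with ⟨-, rfl⟩ | ⟨-, rfl⟩ | ⟨-, rfl⟩ | ⟨-, rfl⟩ | ⟨-, rfl⟩ <;> norm_num
  · exact mat_inj (by rw [mat_pow, hx, ← toMat_npowM, h1, toMat_idm, mat_one])
  · show toMat (npowM (word w) m) = 1
    rw [toMat_npowM, ← hx, ← mat_pow, e, mat_one]

/-- The module. -/
def W : Submodule (ZMod 2) (Matrix (Fin 12) (Fin 12) (ZMod 2)) :=
  Submodule.span (ZMod 2) (Set.range fun k : Fin 48 => toMat (bas k.val))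

theorem bas_mem (k : Fin 48) : toMat (bas k.val) ∈ W := Submodule.subset_span ⟨k, rfl⟩

theorem comb_mem (c : ℕ) : toMat (comb c) ∈ W := by
  rw [comb, toMat_xsum]
  refine Submodule.sum_mem _ fun k hk => ?_
  split_ifs
  · exact bas_mem ⟨k, Finset.mem_range.mp hk⟩
  · rw [toMat_zero]; exact zero_mem _

/-- The action on forms. -/
def formAct (x : X) : Matrix (Fin 12) (Fin 12) (ZMod 2) →ₗ[ZMod 2] Matrix (Fin 12) (Fin 12) (ZMod 2) where
  toFun Z := mat x * Z * (mat x).transpose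
  map_add' Z Z' := by simp [mul_add, add_mul]
  map_smul' a Z := by simp

theorem formAct_apply (x : X) (Z : Matrix (Fin 12) (Fin 12) (ZMod 2)) :
    formAct x Z = mat x * Z * (mat x).transpose := rfl

theorem formAct_mul (x y : X) (Z : Matrix (Fin 12) (Fin 12) (ZMod 2)) :
    formAct (x * y) Z = formAct x (formAct y Z) := by
  simp only [formAct_apply, mat_mul, Matrix.transpose_mul, mul_assoc]

theorem formAct_one (Z : Matrix (Fin 12) (Fin 12) (ZMod 2)) : formAct 1 Z = Z := by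
  simp [formAct_apply, mat_one]

theorem formAct_mem (x : X) {Z : Matrix (Fin 12) (Fin 12) (ZMod 2)} (hZ : Z ∈ W) : formAct x Z ∈ W := by
  obtain ⟨u, hu⟩ := x
  revert Z
  induction hu using Subgroup.closure_induction with
  | one => intro Z hZ; exact (formAct_one Z).symm ▸ hZ
  | mul a b ha hb iha ihb =>
    intro Z hZ
    exact (formAct_mul ⟨a, ha⟩ ⟨b, hb⟩ Z).symm ▸ iha (ihb hZ)
  | mem a ha =>
    intro Z hZ
    obtain ⟨g, rfl⟩ := ha
    have hle : W ≤ W.comap (formAct ⟨gU g, Subgroup.subset_closure ⟨g, rfl⟩⟩) := by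
      refine Submodule.span_le.mpr ?_
      rintro _ ⟨k, rfl⟩
      show toMat (Gn g.val) * toMat (bas k.val) * (toMat (Gn g.val)).transpose ∈ W
      rw [← toMat_act, img_valid]
      exact comb_mem _
    exact hle hZ
  | inv a ha iha =>
    intro Z hZ
    have hpow : ∀ n : ℕ, ∀ {Z}, Z ∈ W → formAct (⟨a, ha⟩ ^ n : X) Z ∈ W := by
      intro n
      induction n with
      | zero => intro Z hZ; rw [pow_zero, formAct_one]; exact hZ
      | succ n ih => intro Z hZ; rw [pow_succ, formAct_mul]; exact ih (iha hZ)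
    obtain ⟨n, hn⟩ := ((isOfFinOrder_of_finite (⟨a, ha⟩ : X)).mem_powers_iff_mem_zpowers).mpr
      (Subgroup.inv_mem _ (Subgroup.mem_zpowers _))
    rw [show (⟨a⁻¹, inv_mem ha⟩ : X) = (⟨a, ha⟩ : X) ^ n from hn.symm]
    exact hpow n hZ

instance finiteW : Finite W := Subtype.finite

instance nontrivialW : Nontrivial W :=
  ⟨⟨⟨_, bas_mem 0⟩, 0, fun e => fix_valid.2.2.2.2 (congrArg Subtype.val e)⟩⟩

instance moduleW : DistribMulAction X W where
  smul x v := ⟨formAct x v.1, formAct_mem x v.2⟩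
  one_smul v := Subtype.ext (formAct_one v.1)
  mul_smul x y v := Subtype.ext (formAct_mul x y v.1)
  smul_zero x := Subtype.ext (map_zero (formAct x))
  smul_add x v w := Subtype.ext (map_add (formAct x) v.1 w.1)

theorem smul_val (x : X) (v : W) : (x • v : W).1 = mat x * v.1 * (mat x).transpose := rfl

theorem add_self_W (v : W) : v + v = 0 := by
  refine Subtype.ext ?_
  show v.1 + v.1 = 0
  exact Matrix.ext fun i j => CharTwo.add_self_eq_zero _

theorem sigma_fixed {s : X} (hs : mat s = toMat sigma) {v : W} (h : s • v = v) : v = 0 := by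
  let D : W →+ W :=
    { toFun := fun v => s • v + v
      map_zero' := by simp
      map_add' := fun v w => by rw [smul_add]; abel }
  have hsurj : Function.Surjective D := by
    suffices hle : W ≤ W.map ((formAct s) + LinearMap.id) by
      intro u
      obtain ⟨Z, hZ, e⟩ := hle u.2
      exact ⟨⟨Z, hZ⟩, Subtype.ext e⟩
    refine Submodule.span_le.mpr ?_
    rintro _ ⟨k, rfl⟩
    refine ⟨toMat (comb (pick surjTab 48 k.val)), comb_mem _, ?_⟩
    have e := surj_valid k
    rw [force_eq, force_eq] at e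
    rw [LinearMap.add_apply, LinearMap.id_apply, formAct_apply, hs, ← toMat_act, ← toMat_xor, e]
  refine Finite.injective_iff_surjective.mpr hsurj ?_
  show s • v + v = s • (0 : W) + 0
  rw [h, smul_zero, add_zero, add_self_W]

theorem fixed_thirteen {x : X} (hx : orderOf x = 13) {v : W} (hv : x • v = v) : v = 0 := by
  obtain ⟨r, d, h, y, hy, rfl⟩ := exists_conj x
  have hy13 : orderOf y = 13 := by rwa [← MulAut.conj_apply, MulEquiv.orderOf_eq] at hx
  have he : 3 ≤ ordIdx r d := by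
    have hd := hy13 ▸ orderOf_dvd_of_pow_eq_one (pow_exp r d hy)
    rcases exp_cases (ordIdx r d) with e | e | e | ⟨h3, -⟩
    · rw [e] at hd; norm_num at hd
    · rw [e] at hd; norm_num at hd
    · rw [e] at hd; norm_num at hd
    · exact h3
  obtain ⟨t, ht⟩ := exists_T (cT r d)
  obtain ⟨u, hu⟩ := exists_H (cH r d)
  obtain ⟨s, hs, -⟩ := exists_orderOf (w := wordSigma) (n := 13) (by simp)
  have hz : y ^ cExp r d * (t * u) = (t * u) * s := by
    have e := congrArg toMat (thirteen_valid r d he)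
    simp only [force_eq, id, toMat_mul, toMat_npowM] at e
    refine mat_inj ?_
    simp only [mat_mul, mat_pow, hy, ht, hu, hs]
    exact e
  have hyv : y • (h⁻¹ • v) = h⁻¹ • v := by
    rw [← mul_smul, show y * h⁻¹ = h⁻¹ * (h * y * h⁻¹) by group, mul_smul, hv]
  have hpow : y ^ cExp r d • (h⁻¹ • v) = h⁻¹ • v :=
    Subgroup.pow_mem (MulAction.stabilizer X (h⁻¹ • v)) hyv _
  have hfix : s • ((t * u)⁻¹ • h⁻¹ • v) = (t * u)⁻¹ • h⁻¹ • v := by
    have key : s * (t * u)⁻¹ = (t * u)⁻¹ * y ^ cExp r d := by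
      rw [eq_inv_mul_iff_mul_eq, ← mul_assoc, ← hz, mul_inv_cancel_right]
    rw [← mul_smul, key, mul_smul, hpow]
  have h0 := sigma_fixed hs hfix
  simpa [smul_eq_zero_iff_eq] using h0

theorem exists_seven : ∃ (x : X) (v : W), orderOf x = 7 ∧ v ≠ 0 ∧ x • v = v := by
  obtain ⟨x, hx, ho⟩ := exists_orderOf (w := wordSeven) (n := 7) (by simp)
  exact ⟨x, ⟨_, comb_mem (pick fixTab 48 0)⟩, ho, fun e => fix_valid.2.2.1 (congrArg Subtype.val e),
    Subtype.ext (by rw [smul_val, hx, ← toMat_act, fix_valid.1])⟩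

theorem exists_five : ∃ (x : X) (v : W), orderOf x = 5 ∧ v ≠ 0 ∧ x • v = v := by
  obtain ⟨x, hx, ho⟩ := exists_orderOf (w := wordFive) (n := 5) (by simp)
  exact ⟨x, ⟨_, comb_mem (pick fixTab 48 1)⟩, ho, fun e => fix_valid.2.2.2.1 (congrArg Subtype.val e),
    Subtype.ext (by rw [smul_val, hx, ← toMat_act, fix_valid.2.1])⟩

end Cfsg.Agent.Recog71.SzEight
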