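import Cfsg.Agent.Recog71.SzEightTables

set_option autoImplicit false
set_option maxRecDepth 10000

/-!
The checks on the subgroup of order 1344.
-/

namespace Cfsg.Agent.Recog71.SzEight

theorem sub_valid : Hh 0 = idm ∧ ∀ a : Fin 1344, mul (Hh a.val) (Hh (hinv a).val) = idm ∧
    (∀ s : Fin 2, mul (Sg s.val) (Hh a.val) = Hh (hnx s.val a).val) ∧
    (a.val ≠ 0 → (parI a).val < a.val ∧ mul (Sg (parS a).val) (Hh (parI a).val) = Hh a.val) := by
  decide +kernel

end Cfsg.Agent.Recog71.SzEight
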