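import Cfsg.Agent.Recog71.SzEightArith
import Cfsg.Agent.Recog71.SzEightData

set_option autoImplicit false
set_option maxRecDepth 10000

/-!
The tables for the automorphism group of the Suzuki group over eight elements, and the small checks.
-/

namespace Cfsg.Agent.Recog71.SzEight

/-- Read the `i`-th entry of width `w`. -/
def pick (t w i : ℕ) : ℕ := (t >>> (i * w)) % 2 ^ w

/-- A generator, or an inverse. -/
def Gn (g : ℕ) : ℕ := pick genTab 144 g

/-- A transversal element. -/
def T (i : ℕ) : ℕ := pick transTab 144 i

/-- The inverse of a transversal element. -/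
def Tv (i : ℕ) : ℕ := pick transInvTab 144 i

/-- An element of the subgroup. -/
def Hh (a : ℕ) : ℕ := pick subTab 144 a

/-- A generator of the subgroup. -/
def Sg (s : ℕ) : ℕ := pick subGenTab 144 s

/-- The image of a coset. -/
def nxt (g i : ℕ) : Fin 65 := Fin.ofNat 65 (pick nextTab 7 (g * 65 + i))

/-- The Schreier element. -/
def sch (g i : ℕ) : Fin 1344 := Fin.ofNat 1344 (pick schTab 11 (g * 65 + i))

/-- The parent generator of a transversal element. -/
def tparG (i : Fin 65) : Fin 3 := Fin.ofNat 3 (pick transParGen 2 i.val)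

/-- The parent of a transversal element. -/
def tparI (i : Fin 65) : Fin 65 := Fin.ofNat 65 (pick transParIdx 7 i.val)

/-- Multiplication by a generator of the subgroup. -/
def hnx (s : ℕ) (a : Fin 1344) : Fin 1344 := Fin.ofNat 1344 (pick subNextTab 11 (s * 1344 + a.val))

/-- The parent generator in the subgroup. -/
def parS (a : Fin 1344) : Fin 2 := Fin.ofNat 2 (pick subParGen 1 a.val)

/-- The parent in the subgroup. -/
def parI (a : Fin 1344) : Fin 1344 := Fin.ofNat 1344 (pick subParIdx 11 a.val)

/-- The inverse in the subgroup. -/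
def hinv (a : Fin 1344) : Fin 1344 := Fin.ofNat 1344 (pick subInvTab 11 a.val)

/-- A double coset representative. -/
def rep (r : Fin 2) : Fin 65 := Fin.ofNat 65 (pick repTab 7 r.val)

/-- The double coset of a coset. -/
def dcr (i : Fin 65) : Fin 2 := Fin.ofNat 2 (pick dcRep 1 i.val)

/-- The left factor. -/
def dcl (i : Fin 65) : Fin 1344 := Fin.ofNat 1344 (pick dcLeft 11 i.val)

/-- The right factor. -/
def dcx (i : Fin 65) : Fin 1344 := Fin.ofNat 1344 (pick dcRight 11 i.val)

/-- The exponent index. -/
def ordIdx (r : Fin 2) (d : Fin 1344) : ℕ := pick ordTab 2 (r.val * 1344 + d.val)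

/-- The power conjugate to the special element. -/
def cExp (r : Fin 2) (d : Fin 1344) : ℕ := pick conjExp 4 (r.val * 1344 + d.val)

/-- The conjugating coset. -/
def cT (r : Fin 2) (d : Fin 1344) : Fin 65 := Fin.ofNat 65 (pick conjTrans 7 (r.val * 1344 + d.val))

/-- The conjugating subgroup element. -/
def cH (r : Fin 2) (d : Fin 1344) : Fin 1344 :=
  Fin.ofNat 1344 (pick conjSub 11 (r.val * 1344 + d.val))

/-- The packed product of a word in the generators. -/
def word : List ℕ → ℕ
  | [] => idm
  | g :: w => force (word w) fun P => mul (Gn g) P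

/-- A word for the first generator of the subgroup. -/
def wordA : List ℕ := [0, 2, 0, 1, 0, 2, 0, 2, 1, 0, 0, 2, 0, 0, 1]

/-- A word for the second generator of the subgroup. -/
def wordB : List ℕ := [2, 1, 0, 0, 2, 2, 0, 0, 1, 0, 1, 0, 0]

/-- A word for an element of order 13. -/
def wordSigma : List ℕ := [1, 0]

/-- A word for an element of order seven with a fixed vector. -/
def wordSeven : List ℕ := [1, 0, 1, 0, 0]

/-- A word for an element of order five with a fixed vector. -/
def wordFive : List ℕ := [1, 0, 1, 0, 1, 0, 0]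

/-- A word for an element of order six. -/
def wordSix : List ℕ := [2, 1]

/-- A word for an element of order 15. -/
def wordFifteen : List ℕ := [2, 0, 1, 0]

/-- The special element of order thirteen. -/
def sigma : ℕ := word wordSigma

/-- A basis vector of the module. -/
def bas (k : ℕ) : ℕ := pick basTab 144 k

/-- A combination of the basis. -/
def comb (c : ℕ) : ℕ := xsum (fun k => if c.testBit k then bas k else 0) 48

theorem gen_inv : ∀ g : Fin 3, mul (Gn g.val) (Gn (g.val + 3)) = idm ∧
    mul (Gn (g.val + 3)) (Gn g.val) = idm := by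
  decide +kernel

theorem trans_valid : T 0 = idm ∧ ∀ i : Fin 65, mul (T i.val) (Tv i.val) = idm ∧
    (i.val ≠ 0 → (tparI i).val < i.val ∧ mul (Gn (tparG i).val) (T (tparI i).val) = T i.val) ∧
    ∀ g : Fin 3, mul (Gn g.val) (T i.val) = mul (T (nxt g.val i.val).val) (Hh (sch g.val i.val).val) := by
  decide +kernel

theorem double_valid : ∀ i : Fin 65,
    mul (Hh (dcl i).val) (mul (T (rep (dcr i)).val) (Hh (dcx i).val)) = T i.val := by
  decide +kernel

theorem sub_gen : Sg 0 = word wordA ∧ Sg 1 = word wordB := by decide +kernel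

theorem img_valid : ∀ (g : Fin 3) (k : Fin 48),
    act (Gn g.val) (bas k.val) = comb (pick imgTab 48 (g.val * 48 + k.val)) := by
  decide +kernel

theorem surj_valid : ∀ k : Fin 48, force sigma (fun s =>
    force (comb (pick surjTab 48 k.val)) fun z => act s z ^^^ z) = bas k.val := by
  decide +kernel

theorem fix_valid : act (word wordSeven) (comb (pick fixTab 48 0)) = comb (pick fixTab 48 0) ∧
    act (word wordFive) (comb (pick fixTab 48 1)) = comb (pick fixTab 48 1) ∧
    toMat (comb (pick fixTab 48 0)) ≠ 0 ∧ toMat (comb (pick fixTab 48 1)) ≠ 0 ∧ toMat (bas 0) ≠ 0 := by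
  decide +kernel

theorem word_order : ∀ w ∈ [(wordSigma, 13), (wordSeven, 7), (wordFive, 5), (wordSix, 6), (wordFifteen, 15)],
    (∀ g ∈ w.1, g < 3) ∧ npowM (word w.1) w.2 = idm ∧
      ∀ m : Fin w.2, 0 < m.val → toMat (npowM (word w.1) m.val) ≠ 1 := by
  decide +kernel

theorem word_small : (∀ g ∈ wordA, g < 3) ∧ ∀ g ∈ wordB, g < 3 := by decide +kernel

end Cfsg.Agent.Recog71.SzEight
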