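import Mathlib
import Cfsg.Prelude.Def_Sz

set_option autoImplicit false

/-!
An element of a Suzuki group fixing a non-zero vector of the natural module has order dividing 4.
-/

namespace Cfsg.Agent.Recog71.SzFix

open Matrix

variable {R : Type*} [CommRing R]

/-- The 2 × 2 minor with rows `k, l` and columns `i, j`. -/
def mnr (M : Matrix (Fin 4) (Fin 4) R) (k l i j : Fin 4) : R := M k i * M l j - M l i * M k j

/-- The second elementary invariant. -/
def e2 (M : Matrix (Fin 4) (Fin 4) R) : R :=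
  mnr M 0 1 0 1 + mnr M 0 2 0 2 + mnr M 0 3 0 3 + mnr M 1 2 1 2 + mnr M 1 3 1 3 + mnr M 2 3 2 3

theorem det_scalar_sub (M : Matrix (Fin 4) (Fin 4) R) (a : R) :
    (Matrix.scalar (Fin 4) a - M).det =
      a ^ 4 - M.trace * a ^ 3 + e2 M * a ^ 2 - M.adjugate.trace * a + M.det := by
  simp [e2, mnr, Matrix.trace, Matrix.det_succ_row_zero, Fin.sum_univ_succ,
    Matrix.adjugate_fin_succ_eq_det_submatrix, Fin.succAbove]
  ring

theorem charpoly_eq {F : Type*} [Field F] (M : Matrix (Fin 4) (Fin 4) F) :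
    M.charpoly = Polynomial.X ^ 4 - Polynomial.C M.trace * Polynomial.X ^ 3 +
      Polynomial.C (e2 M) * Polynomial.X ^ 2 - Polynomial.C M.adjugate.trace * Polynomial.X +
      Polynomial.C M.det := by
  have h := det_scalar_sub (M.map Polynomial.C) Polynomial.X
  rw [Matrix.charpoly, Matrix.charmatrix]
  rw [show Polynomial.C.mapMatrix M = M.map Polynomial.C from rfl, h]
  congr 1
  · congr 1
    · congr 1
      · congr 1
        simp [Matrix.trace, map_sum]
      · simp [e2, mnr, Matrix.map_apply]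
    · rw [show M.map Polynomial.C = Polynomial.C.mapMatrix M from rfl, ← RingHom.map_adjugate]
      simp [Matrix.trace, map_sum]
  · exact (RingHom.map_det Polynomial.C M).symm

variable {F : Type*} [Field F] [CharP F 2]

/-- The anti-diagonal matrix. -/
def J4 : Matrix (Fin 4) (Fin 4) F := !![0, 0, 0, 1; 0, 0, 1, 0; 0, 1, 0, 0; 1, 0, 0, 0]

theorem J4_mul_self : (J4 : Matrix (Fin 4) (Fin 4) F) * J4 = 1 := by
  ext i j; fin_cases i <;> fin_cases j <;> simp [J4, Matrix.mul_apply, Fin.sum_univ_four]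

theorem transpose_J_mul {g : GL (Fin 4) F} (hg : g ∈ Cfsg.Lie.Sp4 F) :
    (g : Matrix (Fin 4) (Fin 4) F)ᵀ * J4 * (g : Matrix (Fin 4) (Fin 4) F) = J4 := by
  ext i j
  have h := hg (Pi.single i 1) (Pi.single j 1)
  simp only [Units.coeHom_apply, Cfsg.Lie.altForm4] at h
  fin_cases i <;> fin_cases j <;>
    simp [Matrix.mul_apply, Fin.sum_univ_four, J4, Matrix.mulVec, dotProduct, Pi.single_apply] at h ⊢ <;>
    linear_combination h

theorem mul_J_transpose {g : GL (Fin 4) F} (hg : g ∈ Cfsg.Lie.Sp4 F) :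
    (g : Matrix (Fin 4) (Fin 4) F) * J4 * (g : Matrix (Fin 4) (Fin 4) F)ᵀ = J4 := by
  have h := transpose_J_mul hg
  have h1 : (J4 * (g : Matrix (Fin 4) (Fin 4) F)ᵀ * J4) * (g : Matrix (Fin 4) (Fin 4) F) = 1 := by
    rw [Matrix.mul_assoc, Matrix.mul_assoc, ← Matrix.mul_assoc _ J4, h, J4_mul_self]
  have h2 := mul_eq_one_comm.mp h1
  calc (g : Matrix (Fin 4) (Fin 4) F) * J4 * (g : Matrix (Fin 4) (Fin 4) F)ᵀ
      = ((g : Matrix (Fin 4) (Fin 4) F) * (J4 * (g : Matrix (Fin 4) (Fin 4) F)ᵀ * J4)) * J4 := by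
        simp only [Matrix.mul_assoc, J4_mul_self, Matrix.mul_one]
    _ = J4 := by rw [h2, Matrix.one_mul]

theorem minor_col {g : GL (Fin 4) F} (hg : g ∈ Cfsg.Lie.Sp4 F) (i j : Fin 4) :
    mnr (g : Matrix (Fin 4) (Fin 4) F) 0 3 i j + mnr (g : Matrix (Fin 4) (Fin 4) F) 1 2 i j =
      J4 i j := by
  rw [← transpose_J_mul hg]
  simp [mnr, Matrix.mul_apply, Fin.sum_univ_four, J4]
  have h2 : (2 : F) = 0 := CharTwo.two_eq_zero
  linear_combination (-((g : Matrix (Fin 4) (Fin 4) F) 3 i * (g : Matrix (Fin 4) (Fin 4) F) 0 j) -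
    (g : Matrix (Fin 4) (Fin 4) F) 2 i * (g : Matrix (Fin 4) (Fin 4) F) 1 j) * h2

theorem minor_row {g : GL (Fin 4) F} (hg : g ∈ Cfsg.Lie.Sp4 F) (k l : Fin 4) :
    mnr (g : Matrix (Fin 4) (Fin 4) F) k l 0 3 + mnr (g : Matrix (Fin 4) (Fin 4) F) k l 1 2 =
      J4 k l := by
  rw [← mul_J_transpose hg]
  simp [mnr, Matrix.mul_apply, Fin.sum_univ_four, J4]
  have h2 : (2 : F) = 0 := CharTwo.two_eq_zero
  linear_combination (-((g : Matrix (Fin 4) (Fin 4) F) l 0 * (g : Matrix (Fin 4) (Fin 4) F) k 3) -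
    (g : Matrix (Fin 4) (Fin 4) F) l 1 * (g : Matrix (Fin 4) (Fin 4) F) k 2) * h2

/-- The defining set of `Sz`. -/
def szSet (F : Type*) [Field F] (e : ℕ) : Set (GL (Fin 4) F) :=
  {g | g ∈ Cfsg.Lie.Sp4 F ∧ Cfsg.Lie.star4 (g : Matrix (Fin 4) (Fin 4) F) =
    (g : Matrix (Fin 4) (Fin 4) F).map (fun x => x ^ e)}

theorem star4_mul {g h : GL (Fin 4) F} (hg : g ∈ Cfsg.Lie.Sp4 F) (hh : h ∈ Cfsg.Lie.Sp4 F) :
    Cfsg.Lie.star4 ((g : Matrix (Fin 4) (Fin 4) F) * (h : Matrix (Fin 4) (Fin 4) F)) =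
      Cfsg.Lie.star4 (g : Matrix (Fin 4) (Fin 4) F) * Cfsg.Lie.star4 (h : Matrix (Fin 4) (Fin 4) F) := by
  ext p r
  rw [Matrix.mul_apply]
  simp only [Cfsg.Lie.star4, Matrix.of_apply]
  set A := (g : Matrix (Fin 4) (Fin 4) F)
  set B := (h : Matrix (Fin 4) (Fin 4) F)
  set k := (Cfsg.Lie.pairOf p).1
  set l := (Cfsg.Lie.pairOf p).2
  set i := (Cfsg.Lie.pairOf r).1
  set j := (Cfsg.Lie.pairOf r).2
  have hkl : (J4 : Matrix (Fin 4) (Fin 4) F) k l = 0 := by
    fin_cases p <;> simp [k, l, J4, Cfsg.Lie.pairOf]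
  have hij : (J4 : Matrix (Fin 4) (Fin 4) F) i j = 0 := by
    fin_cases r <;> simp [i, j, J4, Cfsg.Lie.pairOf]
  have h1 := minor_row hg k l
  have h2 := minor_col hh i j
  rw [hkl] at h1
  rw [hij] at h2
  simp only [mnr] at h1 h2
  simp only [Fin.sum_univ_four, Cfsg.Lie.pairOf, Matrix.mul_apply, Matrix.cons_val]
  have h20 : (2 : F) = 0 := CharTwo.two_eq_zero
  linear_combination (B 1 i * B 2 j - B 2 i * B 1 j) * h1 +
    (A k 0 * A l 3 - A l 0 * A k 3) * h2 +
    (-(B 1 i * B 2 j - B 2 i * B 1 j) * (A k 0 * A l 3 - A l 0 * A k 3)) * h20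

theorem szSet_mul {m : ℕ} {g h : GL (Fin 4) F} (hg : g ∈ szSet F (2 ^ m)) (hh : h ∈ szSet F (2 ^ m)) :
    g * h ∈ szSet F (2 ^ m) := by
  refine ⟨(Cfsg.Lie.Sp4 F).mul_mem hg.1 hh.1, ?_⟩
  rw [Units.val_mul, star4_mul hg.1 hh.1, hg.2, hh.2]
  exact (Matrix.map_mul (f := iterateFrobenius F 2 m)).symm

theorem mem_szSet [Finite F] {m : ℕ} {g : GL (Fin 4) F} (hg : g ∈ Cfsg.Lie.Sz F (2 ^ m)) :
    g ∈ szSet F (2 ^ m) := by
  have h1 : (1 : GL (Fin 4) F) ∈ szSet F (2 ^ m) := by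
    refine ⟨(Cfsg.Lie.Sp4 F).one_mem, ?_⟩
    ext p r
    fin_cases p <;> fin_cases r <;>
      simp [Cfsg.Lie.star4, Cfsg.Lie.pairOf, Matrix.map_apply, Matrix.one_apply]
  let M : Submonoid (GL (Fin 4) F) :=
    { carrier := szSet F (2 ^ m), one_mem' := h1, mul_mem' := szSet_mul }
  let S : Subgroup (GL (Fin 4) F) :=
    { M with
      inv_mem' := fun {x} hx => by
        rw [inv_eq_of_mul_eq_one_right (show x * x ^ (orderOf x - 1) = 1 by
          rw [← pow_succ', Nat.sub_add_cancel (orderOf_pos x), pow_orderOf_eq_one])]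
        exact M.pow_mem hx _ }
  exact (Subgroup.closure_le S).mpr (fun x hx => hx) hg

/-- An element of a Suzuki group with a non-zero fixed vector satisfies `g ^ 4 = 1`. -/
theorem pow_four_eq_one [Finite F] {m : ℕ} {g : GL (Fin 4) F} (hg : g ∈ Cfsg.Lie.Sz F (2 ^ m))
    (v : Fin 4 → F) (hv : v ≠ 0) (hfix : (g : Matrix (Fin 4) (Fin 4) F) *ᵥ v = v) : g ^ 4 = 1 := by
  obtain ⟨hsp, hstar⟩ := mem_szSet hg
  set M := (g : Matrix (Fin 4) (Fin 4) F) with hM
  have h20 : (2 : F) = 0 := CharTwo.two_eq_zero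
  have hJdet : (J4 : Matrix (Fin 4) (Fin 4) F).det * (J4 : Matrix (Fin 4) (Fin 4) F).det = 1 := by
    rw [← Matrix.det_mul, J4_mul_self, Matrix.det_one]
  have hdet : M.det = 1 := by
    have h := congrArg Matrix.det (transpose_J_mul hsp)
    rw [Matrix.det_mul, Matrix.det_mul, Matrix.det_transpose] at h
    have hsq : M.det * M.det = 1 := by
      calc M.det * M.det = M.det * M.det * ((J4 : Matrix (Fin 4) (Fin 4) F).det *
            (J4 : Matrix (Fin 4) (Fin 4) F).det) := by rw [hJdet, mul_one]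
        _ = (M.det * (J4 : Matrix (Fin 4) (Fin 4) F).det * M.det) *
            (J4 : Matrix (Fin 4) (Fin 4) F).det := by ring
        _ = 1 := by rw [h, hJdet]
    rcases mul_self_eq_one_iff.mp hsq with h | h
    · exact h
    · rw [h, CharTwo.neg_eq]
  -- adjugate trace
  have hadj : M.adjugate.trace = M.trace := by
    have h1 : (J4 * Mᵀ * J4) * M = 1 := by
      rw [Matrix.mul_assoc, Matrix.mul_assoc, ← Matrix.mul_assoc Mᵀ J4, transpose_J_mul hsp,
        J4_mul_self]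
    have h2 : M.adjugate = J4 * Mᵀ * J4 := by
      calc M.adjugate = (J4 * Mᵀ * J4) * M * M.adjugate := by rw [h1, Matrix.one_mul]
        _ = _ := by rw [Matrix.mul_assoc, Matrix.mul_adjugate, hdet, one_smul, Matrix.mul_one]
    rw [h2, Matrix.trace_mul_comm, ← Matrix.mul_assoc, J4_mul_self, Matrix.one_mul,
      Matrix.trace_transpose]
  -- e2 is the trace of the star
  have he2 : e2 M = (Cfsg.Lie.star4 M).trace := by
    have h1 := minor_row hsp 0 3
    have h2 := minor_col hsp 1 2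
    simp only [J4, Matrix.of_apply, Matrix.cons_val] at h1 h2
    simp only [mnr, ← hM] at h1 h2
    simp only [e2, mnr, Matrix.trace, Matrix.diag_apply, Cfsg.Lie.star4, Cfsg.Lie.pairOf,
      Matrix.of_apply, Fin.sum_univ_four, Matrix.cons_val]
    linear_combination h1 + h2 + (1 - (M 0 1 * M 3 2 - M 3 1 * M 0 2)) * h20
  have htr : (Cfsg.Lie.star4 M).trace = M.trace ^ 2 ^ m := by
    rw [hstar]
    simp only [Matrix.trace, Matrix.diag_apply, Matrix.map_apply]
    exact (sum_pow_char_pow 2 m Finset.univ _).symm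
  have hdet1 : (Matrix.scalar (Fin 4) (1 : F) - M).det = 0 := by
    rw [← Matrix.exists_mulVec_eq_zero_iff]
    exact ⟨v, hv, by rw [map_one, Matrix.sub_mulVec, Matrix.one_mulVec, hfix, sub_self]⟩
  rw [det_scalar_sub, hadj, hdet] at hdet1
  have he0 : e2 M = 0 := by linear_combination hdet1 + (M.trace - 1) * h20
  have ht0 : M.trace = 0 := by
    rw [he2, htr] at he0
    exact pow_eq_zero_iff (pow_ne_zero _ two_ne_zero) |>.mp he0
  have hc := Matrix.aeval_self_charpoly M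
  rw [charpoly_eq, hadj, ht0, he0, hdet] at hc
  simp only [map_zero, zero_mul, sub_zero, add_zero, map_one, map_add, map_pow,
    Polynomial.aeval_X] at hc
  apply Units.ext
  rw [Units.val_pow_eq_pow_val, Units.val_one, ← hM]
  have h11 : (1 : Matrix (Fin 4) (Fin 4) F) + 1 = 0 := by
    rw [← map_one (algebraMap F (Matrix (Fin 4) (Fin 4) F)), ← map_add, CharTwo.add_self_eq_zero,
      map_zero]
  exact add_right_cancel (hc.trans h11.symm)

end Cfsg.Agent.Recog71.SzFix
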