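import Cfsg.Agent.Recog71.U34Module

set_option autoImplicit false
set_option linter.style.maxHeartbeats false

/-!
Groups of arbitrarily large order with the prime graph of `PSU(3,4)`.
-/

namespace Cfsg.Agent.Recog71.U34

open Cfsg Cfsg.Agent.Unitary

instance factFive : Fact (Nat.Prime 5) := ⟨Nat.prime_five⟩

section Abstract

variable {A : Type} [CommGroup A] [Finite A] (φ : Γ →* MulAut A)

theorem no_thirteen_five (h13 : ∀ g : Γ, orderOf g = 13 → ∀ a : A, φ g a = a → a = 1) :
    ¬ ∃ y : A ⋊[φ] Γ, orderOf y = 13 * 5 ∧ orderOf y.right = 13 := by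
  rintro ⟨y, hy, hr⟩
  have hv : (y ^ 13).right = 1 := by
    rw [← SemidirectProduct.rightHom_eq_right (φ := φ), map_pow,
      SemidirectProduct.rightHom_eq_right, ← hr, pow_orderOf_eq_one]
  set a : A := (y ^ 13).left with ha
  have hya : y ^ 13 = SemidirectProduct.inl a := SemidirectProduct.ext rfl hv
  have hcomm : y * SemidirectProduct.inl a = SemidirectProduct.inl a * y := by
    rw [← hya]; exact ((Commute.refl y).pow_right 13).eq
  have hfix : φ y.right a = a := by
    have h := congrArg SemidirectProduct.left hcomm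
    rw [SemidirectProduct.mul_left, SemidirectProduct.mul_left, SemidirectProduct.left_inl,
      SemidirectProduct.right_inl, map_one, MulAut.one_apply, mul_comm] at h
    exact mul_right_cancel h
  have h0 : a = 1 := h13 _ hr a hfix
  rw [h0, map_one] at hya
  have := orderOf_dvd_of_pow_eq_one hya
  rw [hy] at this
  norm_num at this

theorem exists_of_right (h5 : ∀ a : A, a ^ 5 = 1)
    (h13 : ∀ g : Γ, orderOf g = 13 → ∀ a : A, φ g a = a → a = 1) {p q : ℕ} (hp : p.Prime)
    (hq : q.Prime) (hne : p ≠ q) (y : A ⋊[φ] Γ) (hy : orderOf y = p * q) :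
    ∃ g : Γ, orderOf g = p * q := by
  by_cases hfull : orderOf y.right = p * q
  · exact ⟨_, hfull⟩
  have hdvd : orderOf y.right ∣ p * q :=
    hy ▸ orderOf_map_dvd (SemidirectProduct.rightHom (φ := φ)) y
  have hpow : y ^ (5 * orderOf y.right) = 1 := by
    rw [mul_comm 5, pow_mul]
    have h1 : (y ^ orderOf y.right).right = 1 := by
      rw [← SemidirectProduct.rightHom_eq_right (φ := φ), map_pow,
        SemidirectProduct.rightHom_eq_right, pow_orderOf_eq_one]
    rw [show y ^ orderOf y.right = SemidirectProduct.inl (y ^ orderOf y.right).left from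
      SemidirectProduct.ext rfl h1, ← map_pow, h5, map_one]
  have hd : p * q ∣ 5 * orderOf y.right := hy ▸ orderOf_dvd_of_pow_eq_one hpow
  -- one of the primes is five, the other is the order of the image
  have key : ∀ {p q : ℕ}, p.Prime → q.Prime → p ≠ q → p * q ∣ 5 * orderOf y.right →
      orderOf y.right ∣ p * q → orderOf y.right ≠ p * q → q ∣ orderOf y.right →
      p = 5 ∧ orderOf y.right = q := by
    intro p q hp hq hne hd hdvd hfull hqd
    have hnp : ¬ p ∣ orderOf y.right := fun h => hfull (Nat.dvd_antisymm hdvd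
      (((Nat.coprime_primes hp hq).mpr hne).mul_dvd_of_dvd_of_dvd h hqd))
    have hp5 : p = 5 := (Nat.prime_dvd_prime_iff_eq hp Nat.prime_five).mp
      ((hp.dvd_mul.mp ((dvd_mul_right p q).trans hd)).resolve_right hnp)
    have hcop : Nat.Coprime (orderOf y.right) p := ((hp.coprime_iff_not_dvd).mpr hnp).symm
    exact ⟨hp5, Nat.dvd_antisymm (hcop.dvd_of_dvd_mul_left hdvd) hqd⟩
  obtain ⟨r, hr, hr5, hyr, hpq⟩ : ∃ r : ℕ, r.Prime ∧ r ≠ 5 ∧ orderOf y.right = r ∧ p * q = r * 5 := by
    by_cases hqd : q ∣ orderOf y.right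
    · obtain ⟨h5, hr⟩ := key hp hq hne hd hdvd hfull hqd
      exact ⟨q, hq, fun e => hne (h5.trans e.symm), hr, by rw [h5, mul_comm]⟩
    · have hq5 : q = 5 := (Nat.prime_dvd_prime_iff_eq hq Nat.prime_five).mp
        ((hq.dvd_mul.mp ((dvd_mul_left q p).trans hd)).resolve_right hqd)
      have hpd : p ∣ orderOf y.right :=
        (hp.dvd_mul.mp ((dvd_mul_right p q).trans hd)).resolve_left
          fun h => hne (((Nat.prime_dvd_prime_iff_eq hp Nat.prime_five).mp h).trans hq5.symm)
      obtain ⟨-, hr⟩ := key hq hp hne.symm (by rw [mul_comm]; exact hd)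
        (by rw [mul_comm]; exact hdvd) (by rw [mul_comm]; exact hfull) hpd
      exact ⟨p, hp, fun e => hne (e.trans hq5.symm), hr, by rw [hq5]⟩
  rw [hpq]
  have hrd : r ∣ 62400 := card_Γ ▸ hyr ▸ orderOf_dvd_natCard y.right
  rw [show (62400 : ℕ) = 2 ^ 6 * (3 * (5 ^ 2 * 13)) by norm_num, hr.dvd_mul, hr.dvd_mul, hr.dvd_mul]
    at hrd
  rcases hrd with h | h | h | h
  · rw [(Nat.prime_dvd_prime_iff_eq hr Nat.prime_two).mp (hr.dvd_of_dvd_pow h)]
    exact exists_order_ten
  · rw [(Nat.prime_dvd_prime_iff_eq hr Nat.prime_three).mp h]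
    exact exists_order_fifteen
  · exact absurd ((Nat.prime_dvd_prime_iff_eq hr Nat.prime_five).mp (hr.dvd_of_dvd_pow h)) hr5
  · have e13 := (Nat.prime_dvd_prime_iff_eq hr (by norm_num)).mp h
    exact absurd ⟨y, by rw [hy, hpq, e13], hyr.trans e13⟩ (no_thirteen_five φ h13)

end Abstract

/-- The action on the module, written multiplicatively, on powers. -/
noncomputable def actPow (N : ℕ) : Γ →* MulAut (Multiplicative (Fin N → W)) :=
  MonoidHom.mk'
    (fun g => AddEquiv.toMultiplicative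
      { toFun := fun f i => rho g (f i)
        invFun := fun f i => rho g⁻¹ (f i)
        left_inv := fun f => funext fun i => by
          show rho g⁻¹ (rho g (f i)) = f i
          rw [← rho_mul, inv_mul_cancel, rho_one]
        right_inv := fun f => funext fun i => by
          show rho g (rho g⁻¹ (f i)) = f i
          rw [← rho_mul, mul_inv_cancel, rho_one]
        map_add' := fun f g' => funext fun i => map_add (rho g) (f i) (g' i) })
    fun g h => MulEquiv.ext fun f =>
      congrArg Multiplicative.ofAdd (funext fun i => rho_mul g h (f.toAdd i))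

theorem wpow_five {N : ℕ} (a : Multiplicative (Fin N → W)) : a ^ 5 = 1 := by
  refine congrArg Multiplicative.ofAdd (?_ : 5 • a.toAdd = 0)
  funext i
  show 5 • a.toAdd i = 0
  rw [← Nat.cast_smul_eq_nsmul (ZMod 5), ZMod.natCast_self, zero_smul]

theorem fixed_wpow {N : ℕ} (g : Γ) (hg : orderOf g = 13) (a : Multiplicative (Fin N → W))
    (h : actPow N g a = a) : a = 1 := by
  refine congrArg Multiplicative.ofAdd (?_ : a.toAdd = 0)
  funext i
  exact fixed_of_order_thirteen hg (congrFun (congrArg Multiplicative.toAdd h) i)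

/-- The extension. -/
abbrev Ext (N : ℕ) : Type := Multiplicative (Fin N → W) ⋊[actPow N] Γ

instance finiteExt (N : ℕ) : Finite (Ext N) :=
  Finite.of_equiv _ SemidirectProduct.equivProd.symm

theorem card_ext (N : ℕ) : Nat.card (Ext N) = Nat.card W ^ N * 62400 := by
  rw [SemidirectProduct.card, Nat.card_congr Multiplicative.toAdd, Nat.card_fun, Nat.card_fin,
    card_Γ]

theorem exists_card_W : ∃ n, 0 < n ∧ Nat.card W = 5 ^ n := by
  refine ⟨Module.finrank (ZMod 5) W, ?_, ?_⟩
  · haveI : Nontrivial W := ⟨⟨⟨bas 0, bas_mem 0⟩, 0, fun e => bas_ne_zero ((Submodule.mk_eq_zero W (bas_mem 0)).mp e)⟩⟩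
    exact Module.finrank_pos
  · rw [Module.natCard_eq_pow_finrank (K := ZMod 5), Nat.card_zmod]

theorem prime_dvd_card_ext (N : ℕ) (p : ℕ) (hp : p.Prime) :
    p ∣ Nat.card (Ext N) ↔ p ∣ 62400 := by
  obtain ⟨n, -, hn⟩ := exists_card_W
  rw [card_ext, hn, hp.dvd_mul]
  refine ⟨fun h => h.elim (fun h5 => ?_) id, Or.inr⟩
  rw [← pow_mul] at h5
  exact (Nat.prime_dvd_prime_iff_eq hp Nat.prime_five).mp (hp.dvd_of_dvd_pow h5) ▸ by norm_num

theorem main {F : Type*} [Field F] [Fintype F] (hF : Fintype.card F = 16) (N : ℕ) :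
    ∃ (H : Type) (_ : Group H) (_ : Finite H), N < Nat.card H ∧
      ((∀ p : ℕ, p.Prime → (p ∣ Nat.card (PSU 3 F 4) ↔ p ∣ Nat.card H)) ∧
      (∀ p q : ℕ, p.Prime → q.Prime → p ≠ q →
        ((∃ g : PSU 3 F 4, orderOf g = p * q) ↔ (∃ g : H, orderOf g = p * q)))) := by
  classical
  have hF' : Fintype.card F = 4 ^ 2 := hF.trans (by norm_num)
  let e : K16 ≃+* F := FiniteField.ringEquivOfCardEq (K16.card_eq.trans hF.symm)
  -- transport
  let ψ₀ : Matrix.SpecialLinearGroup (Fin 3) K16 →* Matrix.SpecialLinearGroup (Fin 3) F :=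
    Matrix.SpecialLinearGroup.map e.toRingHom
  have hψ : ∀ g ∈ Γ, ψ₀ g ∈ SU 3 F 4 := by
    intro g hg u v
    obtain ⟨u', rfl⟩ : ∃ u', u = e.toRingHom ∘ u' :=
      ⟨fun i => e.symm (u i), funext fun i => (e.apply_symm_apply _).symm⟩
    obtain ⟨v', rfl⟩ : ∃ v', v = e.toRingHom ∘ v' :=
      ⟨fun i => e.symm (v i), funext fun i => (e.apply_symm_apply _).symm⟩
    have hh : ∀ a b : Fin 3 → K16, hermForm 3 F 4 (e.toRingHom ∘ a) (e.toRingHom ∘ b) =
        e.toRingHom (hermForm 3 K16 4 a b) := by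
      intro a b; simp [hermForm, map_sum]
    have hm : ∀ a : Fin 3 → K16, (slToMat 3 F (ψ₀ g)).mulVec (e.toRingHom ∘ a) =
        e.toRingHom ∘ ((slToMat 3 K16 g).mulVec a) := by
      intro a
      funext i
      exact (RingHom.map_mulVec e.toRingHom (slToMat 3 K16 g) a i).symm
    rw [hm, hm, hh, hh]
    exact congrArg e.toRingHom (hg u' v')
  let ψ : Γ →* SU 3 F 4 := (ψ₀.comp Γ.subtype).codRestrict _ fun g => hψ g g.2
  have hinj : Function.Injective ψ := by
    intro a b hab
    refine Subtype.ext (Subtype.ext (Matrix.ext fun i j => e.injective ?_))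
    exact congrArg (fun z : SU 3 F 4 => ((z : Matrix.SpecialLinearGroup (Fin 3) F) :
      Matrix (Fin 3) (Fin 3) F) i j) hab
  have hcardF : Nat.card (SU 3 F 4) = 62400 := by
    have h1 := card_SU_mul hF' (by norm_num : 1 ≤ 3)
    rw [card_GU hF' 3] at h1
    norm_num [Finset.prod_range_succ, Nat.even_add_one] at h1
    simp only [← Nat.card_eq_fintype_card] at h1
    exact Nat.eq_of_mul_eq_mul_left (by norm_num : 0 < 5) (h1.trans (by norm_num))
  have hbij : Function.Bijective ψ :=
    (Nat.bijective_iff_injective_and_card ψ).mpr ⟨hinj, by rw [card_Γ, hcardF]⟩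
  have hcen : Nat.card (Subgroup.center (SU 3 F 4)) = 1 := by rw [card_center hF' (by norm_num)]; rfl
  have hqinj : Function.Injective (QuotientGroup.mk' (Subgroup.center (SU 3 F 4))) := by
    rw [← MonoidHom.ker_eq_bot_iff, QuotientGroup.ker_mk']
    exact Subgroup.card_eq_one.mp hcen
  let E : Γ ≃* PSU 3 F 4 := (MulEquiv.ofBijective ψ hbij).trans
    (MulEquiv.ofBijective _ ⟨hqinj, QuotientGroup.mk'_surjective _⟩)
  refine ⟨Ext N, inferInstance, inferInstance, ?_, fun p hp => ?_, fun p q hp hq hne => ?_⟩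
  · obtain ⟨n, hn0, hn⟩ := exists_card_W
    rw [card_ext, hn, ← pow_mul]
    calc N ≤ n * N := Nat.le_mul_of_pos_left N hn0
      _ < 5 ^ (n * N) := Nat.lt_pow_self (by norm_num)
      _ ≤ 5 ^ (n * N) * 62400 := Nat.le_mul_of_pos_right _ (by norm_num)
  · rw [prime_dvd_card_ext N p hp, ← Nat.card_congr E.toEquiv, card_Γ]
  · constructor
    · rintro ⟨g, hg⟩
      refine ⟨SemidirectProduct.inr (E.symm g), ?_⟩
      rw [orderOf_injective _ SemidirectProduct.inr_injective, MulEquiv.orderOf_eq, hg]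
    · rintro ⟨y, hy⟩
      obtain ⟨g, hg⟩ :=
        exists_of_right (A := Multiplicative (Fin N → W)) (actPow N) wpow_five fixed_wpow hp hq hne y hy
      exact ⟨E g, by rw [MulEquiv.orderOf_eq, hg]⟩

end Cfsg.Agent.Recog71.U34
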