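import Mathlib
import Cfsg.Agent.Recog71.U34Data

set_option autoImplicit false

/-!
The field with sixteen elements, with computable operations.
-/

namespace Cfsg.Agent.Recog71.U34

/-- Read the `i`-th entry of width `w` in a packed table. -/
def pick (t w i : ℕ) : ℕ := (t >>> (i * w)) % 2 ^ w

theorem pick_lt (t w i : ℕ) : pick t w i < 2 ^ w := Nat.mod_lt _ (Nat.two_pow_pos w)

/-- An entry as an element of `Fin m`. -/
def pickF (m : ℕ) [NeZero m] (t w i : ℕ) : Fin m := Fin.ofNat m (pick t w i)

/-- The field with sixteen elements. -/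
structure K16 where
  /-- The coordinates as a numeral. -/
  val : Fin 16
deriving DecidableEq

namespace K16

instance : Fintype K16 :=
  Fintype.ofEquiv (Fin 16) ⟨K16.mk, K16.val, fun _ => rfl, fun _ => rfl⟩

theorem card_eq : Fintype.card K16 = 16 := by
  rw [Fintype.card_congr (⟨K16.val, K16.mk, fun _ => rfl, fun _ => rfl⟩ : K16 ≃ Fin 16),
    Fintype.card_fin]

instance : Zero K16 := ⟨⟨0⟩⟩
instance : One K16 := ⟨⟨1⟩⟩
instance : Add K16 := ⟨fun a b => ⟨Fin.ofNat 16 (a.val.val ^^^ b.val.val)⟩⟩
instance : Neg K16 := ⟨fun a => a⟩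
instance : Mul K16 := ⟨fun a b => ⟨pickF 16 mulTab 4 (a.val.val * 16 + b.val.val)⟩⟩
instance : Inv K16 := ⟨fun a => ⟨pickF 16 invTab 4 a.val.val⟩⟩

theorem forall_iff {p : K16 → Prop} : (∀ a, p a) ↔ ∀ i : Fin 16, p ⟨i⟩ :=
  ⟨fun h i => h _, fun h a => h a.val⟩

theorem add_assoc' : ∀ a b c : K16, a + b + c = a + (b + c) := by
  simp only [forall_iff]; decide +kernel

theorem mul_assoc' : ∀ a b c : K16, a * b * c = a * (b * c) := by
  simp only [forall_iff]; decide +kernel

theorem left_distrib' : ∀ a b c : K16, a * (b + c) = a * b + a * c := by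
  simp only [forall_iff]; decide +kernel

theorem add_comm' : ∀ a b : K16, a + b = b + a := by
  simp only [forall_iff]; decide +kernel

theorem mul_comm' : ∀ a b : K16, a * b = b * a := by
  simp only [forall_iff]; decide +kernel

theorem units' : ∀ a : K16, 0 + a = a ∧ 1 * a = a ∧ 0 * a = 0 ∧ -a + a = 0 ∧
    (a ≠ 0 → a * a⁻¹ = 1) := by
  simp only [forall_iff]; decide +kernel

instance : Field K16 where
  add_assoc := add_assoc'
  zero_add a := (units' a).1
  add_zero a := (add_comm' a 0).trans (units' a).1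
  add_comm := add_comm'
  neg_add_cancel a := (units' a).2.2.2.1
  mul_assoc := mul_assoc'
  one_mul a := (units' a).2.1
  mul_one a := (mul_comm' a 1).trans (units' a).2.1
  mul_comm := mul_comm'
  zero_mul a := (units' a).2.2.1
  mul_zero a := (mul_comm' a 0).trans (units' a).2.2.1
  left_distrib := left_distrib'
  right_distrib a b c := by
    rw [mul_comm', left_distrib', mul_comm' c a, mul_comm' c b]
  exists_pair_ne := ⟨0, 1, by decide⟩
  mul_inv_cancel a ha := (units' a).2.2.2.2 ha
  inv_zero := by decide +kernel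
  nsmul := nsmulRec
  zsmul := zsmulRec
  nnqsmul := _
  qsmul := _

end K16

/-- A vector packed in twelve bits. -/
def vecOf (n : ℕ) : Fin 3 → K16 := fun i => ⟨pickF 16 n 4 i.val⟩

end Cfsg.Agent.Recog71.U34
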