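import Cfsg.Agent.Recog71.U34Tables
import Cfsg.Agent.Lib.Unitary.Generation
import Cfsg.Agent.Lib.Unitary.Center
import Cfsg.Agent.Lib.Unitary.Simple

set_option autoImplicit false
set_option linter.style.maxHeartbeats false

/-!
Generators and special elements of `SU(3,4)`.
-/

namespace Cfsg.Agent.Recog71.U34

open Cfsg Cfsg.Agent.Unitary

/-- The special unitary group over sixteen elements. -/
abbrev Γ : Subgroup (Matrix.SpecialLinearGroup (Fin 3) K16) := SU 3 K16 4

theorem hcard : Fintype.card K16 = 4 ^ 2 := K16.card_eq.trans (by norm_num)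

/-- The generating transvections. -/
def t (g : Fin 4) : Γ := tv hcard (gen_valid g).2 (gen_valid g).1

theorem t_smul (g : Fin 4) (x : Fin 3 → K16) : t g • x = gact g x :=
  tv_smul hcard (gen_valid g).2 (gen_valid g).1 x

theorem smul_lin (g : Γ) (a : K16) (x : Fin 3 → K16) : g • (a • x) = a • (g • x) :=
  smul_comm g a x

theorem t_sq (g : Fin 4) : t g * t g = 1 := by
  refine eq_of_smul_eq_SU fun x => ?_
  rw [one_smul, mul_smul, t, tv_smul, tv_smul, herm_add_left, herm_smul_left,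
    show herm 4 (gv g) (gv g) = 0 from (gen_valid g).2,
    mul_zero, add_zero, add_assoc, ← add_smul]
  have h : ∀ a : K16, a + a = 0 := fun a => neg_add_cancel a
  rw [h, zero_smul, add_zero]

/-- The generated group. -/
def gens : Subgroup Γ := Subgroup.closure (Set.range t)

theorem t_mem (g : Fin 4) : t g ∈ gens := Subgroup.subset_closure ⟨g, rfl⟩

theorem isoVec_reached (i : Fin 65) : ∃ k ∈ gens, ∃ a : K16, isoVec i = a • (k • gv 0) := by
  obtain ⟨n, hn⟩ := i
  induction n using Nat.strong_induction_on with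
  | _ n IH =>
  by_cases h0 : (⟨n, hn⟩ : Fin 65) = 0
  · exact ⟨1, one_mem _, 1, by rw [h0, tree_valid.1, one_smul, one_smul]⟩
  · obtain ⟨hlt, he⟩ := tree_valid.2 ⟨n, hn⟩ h0
    obtain ⟨k, hk, a, ha⟩ := IH _ hlt (parI ⟨n, hn⟩).isLt
    refine ⟨t (parG ⟨n, hn⟩) * k, mul_mem (t_mem _) hk, parS ⟨n, hn⟩ * a, ?_⟩
    rw [he, ← t_smul, show isoVec (parI ⟨n, hn⟩) = a • (k • gv 0) from ha, smul_lin, mul_smul,
      mul_smul]

theorem tv_base_mem {c : K16} (hc : c + c ^ 4 = 0) : tv hcard (gen_valid 0).2 hc ∈ gens := by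
  rcases scal_cases c hc with rfl | rfl | rfl | rfl
  · have : tv hcard (gen_valid 0).2 hc = 1 := eq_of_smul_eq_SU fun x => by
      rw [tv_smul, one_smul, zero_mul, zero_smul, add_zero]
    rw [this]; exact one_mem _
  · exact t_mem 0
  · have : tv hcard (gen_valid 0).2 hc = t 1 := eq_of_smul_eq_SU fun x => by
      rw [tv_smul, t_smul, gact, gen_vec_one]
    rw [this]; exact t_mem 1
  · have : tv hcard (gen_valid 0).2 hc = t 0 * t 1 := eq_of_smul_eq_SU fun x => by
      rw [mul_smul, t_smul, t_smul, tv_smul]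
      show _ = gact 0 (gact 1 x)
      unfold gact
      rw [gen_vec_one, show hermForm 3 K16 4 (x + (gc 1 * hermForm 3 K16 4 x (gv 0)) • gv 0) (gv 0)
        = hermForm 3 K16 4 x (gv 0) by
          show herm 4 _ _ = herm 4 _ _
          rw [herm_add_left, herm_smul_left, show herm 4 (gv 0) (gv 0) = 0 from (gen_valid 0).2,
            mul_zero, add_zero]]
      rw [add_mul, add_smul]
      abel
    rw [this]; exact mul_mem (t_mem 0) (t_mem 1)

theorem isotropic_cases (u : Fin 3 → K16) (hu : herm 4 u u = 0) :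
    u = 0 ∨ ∃ (i : Fin 65) (s : K16), u = s • isoVec i := by
  have hscale : ∀ a : K16, herm 4 (a • u) (a • u) = 0 := fun a => by
    rw [herm_smul_left, herm_smul_right hcard, hu, mul_zero, mul_zero]
  by_cases h0 : u 0 = 0
  · by_cases h1 : u 1 = 0
    · by_cases h2 : u 2 = 0
      · exact Or.inl (funext fun j => by fin_cases j <;> assumption)
      · refine absurd ?_ iso_complete.2.2
        have e : (u 2)⁻¹ • u = ![0, 0, 1] := by
          funext j; fin_cases j <;> simp [h0, h1, inv_mul_cancel₀ h2]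
        rw [← e]; exact hscale _
    · have e : (u 1)⁻¹ • u = ![0, 1, ⟨((u 1)⁻¹ * u 2).val⟩] := by
        funext j; fin_cases j <;> simp [h0, inv_mul_cancel₀ h1]
      obtain ⟨i, hi⟩ := iso_complete.2.1 _ (e ▸ hscale _)
      exact Or.inr ⟨i, u 1, by rw [← hi, ← e, smul_inv_smul₀ h1]⟩
  · have e : (u 0)⁻¹ • u = ![1, ⟨((u 0)⁻¹ * u 1).val⟩, ⟨((u 0)⁻¹ * u 2).val⟩] := by
      funext j; fin_cases j <;> simp [inv_mul_cancel₀ h0]
    obtain ⟨i, hi⟩ := iso_complete.1 _ _ (e ▸ hscale _)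
    exact Or.inr ⟨i, u 0, by rw [← hi, ← e, smul_inv_smul₀ h0]⟩

theorem gens_eq_top : gens = ⊤ := by
  rw [eq_top_iff, ← tvGroup_empty hcard (by decide : ¬ (3 = 3 ∧ 4 = 2))]
  rw [tvGroup, Subgroup.closure_le]
  rintro _ ⟨u, c, hu, hc, -, rfl⟩
  rcases isotropic_cases u hu with hu0 | ⟨i, s, hs⟩
  · have : tv hcard hu hc = 1 := eq_of_smul_eq_SU fun x => by
      rw [tv_smul, one_smul, hu0, smul_zero, add_zero]
    rw [this]; exact one_mem _
  · obtain ⟨k, hk, a, ha⟩ := isoVec_reached i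
    obtain ⟨b, hb⟩ : ∃ b : K16, u = b • (k • gv 0) := ⟨s * a, by rw [mul_smul, ← ha, ← hs]⟩
    have hc' : (c * b * b ^ 4) + (c * b * b ^ 4) ^ 4 = 0 := by
      have hN : ∀ x : K16, (x * x ^ 4) ^ 4 = x * x ^ 4 := by
        simp only [K16.forall_iff]; decide +kernel
      rw [mul_assoc c b, mul_pow, hN, ← add_mul, hc, zero_mul]
    have hk2 : ∀ (v : Fin 3 → K16) {x : Fin 3 → K16},
        herm 4 (k⁻¹ • x) v = herm 4 x (k • v) := fun v x => by
      rw [← herm_smul_SU k (k⁻¹ • x) v, smul_inv_smul]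
    have e : tv hcard hu hc = k * tv hcard (gen_valid 0).2 hc' * k⁻¹ := eq_of_smul_eq_SU fun x => by
      rw [tv_smul, mul_smul (k * tv hcard (gen_valid 0).2 hc') k⁻¹ x,
        mul_smul k (tv hcard (gen_valid 0).2 hc') (k⁻¹ • x), tv_smul, smul_add, smul_inv_smul,
        smul_lin, hk2 (gv 0), hb, herm_smul_right hcard, smul_smul]
      congr 2
      ring
    rw [e]
    exact mul_mem (mul_mem hk (tv_base_mem hc')) (inv_mem hk)

theorem card_Γ : Nat.card Γ = 62400 := by
  have h1 := card_SU_mul hcard (by norm_num : 1 ≤ 3)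
  rw [card_GU hcard 3] at h1
  norm_num [Finset.prod_range_succ, Nat.even_add_one] at h1
  show Nat.card (SU 3 K16 4) = 62400
  exact Nat.eq_of_mul_eq_mul_left (by norm_num : 0 < 5) (h1.trans (by norm_num))

theorem eq_one_of_std {g : Γ} (h : ∀ i : Fin 3, g • (Pi.single i 1 : Fin 3 → K16) = Pi.single i 1) :
    g = 1 :=
  Subtype.ext (Subtype.ext (Matrix.ext_of_mulVec_single fun i => (h i).trans (one_smul Γ _).symm))

/-- An element of order thirteen. -/
def sigma : Γ := t 0 * t 2 * t 3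

theorem pow_smul_iterate {g : Γ} {f : (Fin 3 → K16) → (Fin 3 → K16)} (hf : ∀ x, g • x = f x)
    (n : ℕ) (x : Fin 3 → K16) : g ^ n • x = f^[n] x := by
  induction n with
  | zero => exact one_smul _ x
  | succ n ih => rw [pow_succ', mul_smul, ih, hf, Function.iterate_succ_apply']

theorem sigma_smul (x : Fin 3 → K16) : sigma • x = sact x := by
  rw [sigma, mul_smul, mul_smul, t_smul, t_smul, t_smul]; rfl

theorem orderOf_sigma : orderOf sigma = 13 := by
  haveI : Fact (Nat.Prime 13) := ⟨by norm_num⟩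
  refine orderOf_eq_prime ?_ fun h => sigma_valid.2.2.2 ?_
  · refine eq_one_of_std fun i => ?_
    rw [pow_smul_iterate sigma_smul]
    fin_cases i
    exacts [sigma_valid.1, sigma_valid.2.1, sigma_valid.2.2.1]
  · rw [← sigma_smul, h, one_smul]

/-- The map of an element of order fifteen. -/
def act15 (x : Fin 3 → K16) : Fin 3 → K16 := gact 1 (gact 2 (gact 3 x))

/-- The map of an element of order ten. -/
def act10 (x : Fin 3 → K16) : Fin 3 → K16 := gact 0 (gact 2 (gact 3 (gact 1 (gact 3 x))))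

theorem word_valid :
    (∀ i : Fin 3, act15^[15] (Pi.single i 1) = Pi.single i 1 ∧
      act10^[10] (Pi.single i 1) = Pi.single i 1) ∧
    (∃ i : Fin 3, act15^[5] (Pi.single i 1) ≠ Pi.single i 1) ∧
    (∃ i : Fin 3, act15^[3] (Pi.single i 1) ≠ Pi.single i 1) ∧
    (∃ i : Fin 3, act10^[5] (Pi.single i 1) ≠ Pi.single i 1) ∧
    (∃ i : Fin 3, act10^[2] (Pi.single i 1) ≠ Pi.single i 1) := by
  decide +kernel

theorem orderOf_eq_mul_of {g : Γ} {p q : ℕ} (hp : p.Prime) (hq : q.Prime) (h : g ^ (p * q) = 1)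
    (hgp : g ^ p ≠ 1) (hgq : g ^ q ≠ 1) : orderOf g = p * q := by
  obtain ⟨a, b, ha, hb, e⟩ := exists_dvd_and_dvd_of_dvd_mul (orderOf_dvd_of_pow_eq_one h)
  rcases (Nat.dvd_prime hp).mp ha with rfl | rfl <;> rcases (Nat.dvd_prime hq).mp hb with rfl | rfl
  · exact absurd (orderOf_dvd_iff_pow_eq_one.mp (by rw [e]; exact one_dvd _)) hgp
  · exact absurd (orderOf_dvd_iff_pow_eq_one.mp (by rw [e, one_mul])) hgq
  · exact absurd (orderOf_dvd_iff_pow_eq_one.mp (by rw [e, mul_one])) hgp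
  · exact e

theorem exists_order_fifteen : ∃ g : Γ, orderOf g = 3 * 5 := by
  refine ⟨t 1 * t 2 * t 3, orderOf_eq_mul_of Nat.prime_three Nat.prime_five ?_ ?_ ?_⟩
  all_goals
    have hs : ∀ x : Fin 3 → K16, (t 1 * t 2 * t 3) • x = act15 x := fun x => by
      rw [mul_smul, mul_smul, t_smul, t_smul, t_smul]; rfl
  · exact eq_one_of_std fun i => by rw [pow_smul_iterate hs]; exact (word_valid.1 i).1
  · obtain ⟨i, hi⟩ := word_valid.2.2.1
    exact fun h => hi (by rw [← pow_smul_iterate hs, h, one_smul])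
  · obtain ⟨i, hi⟩ := word_valid.2.1
    exact fun h => hi (by rw [← pow_smul_iterate hs, h, one_smul])

theorem exists_order_ten : ∃ g : Γ, orderOf g = 2 * 5 := by
  refine ⟨t 0 * t 2 * t 3 * t 1 * t 3, orderOf_eq_mul_of Nat.prime_two Nat.prime_five ?_ ?_ ?_⟩
  all_goals
    have hs : ∀ x : Fin 3 → K16, (t 0 * t 2 * t 3 * t 1 * t 3) • x = act10 x := fun x => by
      rw [mul_smul, mul_smul, mul_smul, mul_smul, t_smul, t_smul, t_smul, t_smul, t_smul]; rfl
  · exact eq_one_of_std fun i => by rw [pow_smul_iterate hs]; exact (word_valid.1 i).2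
  · obtain ⟨i, hi⟩ := word_valid.2.2.2.2
    exact fun h => hi (by rw [← pow_smul_iterate hs, h, one_smul])
  · obtain ⟨i, hi⟩ := word_valid.2.2.2.1
    exact fun h => hi (by rw [← pow_smul_iterate hs, h, one_smul])

end Cfsg.Agent.Recog71.U34
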