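import Cfsg.Agent.Recog71.U34Group

set_option autoImplicit false
set_option linter.style.maxHeartbeats false
set_option maxRecDepth 10000

/-!
A module of `SU(3,4)` in characteristic five in which elements of order thirteen fix only zero.
-/

namespace Cfsg.Agent.Recog71.U34

open Cfsg Cfsg.Agent.Unitary
open scoped LinearAlgebra.Projectivization

/-- Triples of points. -/
abbrev Trip : Type := Fin 3 → ℙ K16 (Fin 3 → K16)

/-- The permutation module on triples of points. -/
abbrev Perm5 : Type := Trip →₀ ZMod 5

/-- The action on the permutation module. -/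
noncomputable def act (g : Γ) : Perm5 →ₗ[ZMod 5] Perm5 :=
  Finsupp.lmapDomain (ZMod 5) (ZMod 5) (fun z : Trip => g • z)

theorem act_apply (g : Γ) (v : Perm5) : act g v = Finsupp.mapDomain (fun z : Trip => g • z) v := rfl

theorem act_mul (g h : Γ) (v : Perm5) : act (g * h) v = act g (act h v) := by
  rw [act_apply, act_apply, act_apply, ← Finsupp.mapDomain_comp]
  exact congrArg (fun f => Finsupp.mapDomain f v) (funext fun z => mul_smul g h z)

theorem act_one (v : Perm5) : act 1 v = v := by
  rw [act_apply, show (fun z : Trip => (1 : Γ) • z) = id from funext fun z => one_smul _ z,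
    Finsupp.mapDomain_id]

/-- A point. -/
noncomputable def pt (i : Fin 208) : ℙ K16 (Fin 3 → K16) :=
  Projectivization.mk K16 (ptVec i) (point_valid i).1

theorem smul_pt (g : Fin 4) (i : Fin 208) : t g • pt i = pt (ptPerm g i) := by
  rw [pt, smul_mk_SU, pt, Projectivization.mk_eq_mk_iff']
  exact ⟨ptScal g i, by rw [t_smul, ((point_valid i).2 g).2]⟩

/-- The cyclically ordered frame as an element of the module. -/
noncomputable def delta (x : Fin 832) : Perm5 :=
  ∑ r : Fin 3, Finsupp.single (fun i => pt (frame x (i + r))) 1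

theorem act_delta (g : Fin 4) (x : Fin 832) : act (t g) (delta x) = delta (frPerm g x) := by
  rw [delta, map_sum, delta]
  refine Fintype.sum_equiv (Equiv.subRight (frRot g x)) _ _ fun r => ?_
  rw [act_apply, Finsupp.mapDomain_single]
  congr 1
  funext i
  show t g • pt (frame x (i + r)) = pt (frame (frPerm g x) (i + (r - frRot g x)))
  rw [smul_pt, (frame_valid g x).2, add_sub_assoc]

/-- The basis vectors of the submodule. -/
noncomputable def bas (k : Fin 12) : Perm5 := ∑ x : Fin 832, coef x k • delta x

theorem act_bas (g : Fin 4) (k : Fin 12) : act (t g) (bas k) = ∑ l, actMat g k l • bas l := by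
  have hinv : Function.Involutive (frPerm g) := fun x => (frame_valid g x).1
  calc act (t g) (bas k) = ∑ x, coef x k • delta (frPerm g x) := by
        simp only [bas, map_sum, map_smul, act_delta]
    _ = ∑ y, coef (frPerm g y) k • delta y := by
        refine Fintype.sum_equiv hinv.toPerm _ _ fun x => ?_
        show _ = coef (frPerm g (frPerm g x)) k • delta (frPerm g x)
        rw [hinv x]
    _ = ∑ y, ∑ l, (actMat g k l * coef y l) • delta y := by
        simp only [coef_valid, Finset.sum_smul]
    _ = _ := by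
        rw [Finset.sum_comm]
        simp only [bas, Finset.smul_sum, smul_smul]

/-- The submodule. -/
noncomputable def W : Submodule (ZMod 5) Perm5 := Submodule.span (ZMod 5) (Set.range bas)

theorem bas_mem (k : Fin 12) : bas k ∈ W := Submodule.subset_span ⟨k, rfl⟩

theorem act_mem (g : Γ) {v : Perm5} (hv : v ∈ W) : act g v ∈ W := by
  have key : ∀ g : Γ, ∀ v ∈ W, act g v ∈ W := by
    intro g
    have hg : g ∈ gens := gens_eq_top ▸ Subgroup.mem_top g
    induction hg using Subgroup.closure_induction with
    | one => intro v hv; rw [act_one]; exact hv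
    | mul a b _ _ ha hb => intro v hv; rw [act_mul]; exact ha _ (hb v hv)
    | mem a ha =>
      obtain ⟨i, rfl⟩ := ha
      intro v hv
      have hle : W ≤ W.comap (act (t i)) := by
        refine Submodule.span_le.mpr ?_
        rintro _ ⟨k, rfl⟩
        show act (t i) (bas k) ∈ W
        rw [act_bas]
        exact Submodule.sum_mem _ fun l _ => Submodule.smul_mem _ _ (bas_mem l)
      exact hle hv
    | inv a _ ha =>
      intro v hv
      have hpow : ∀ n : ℕ, ∀ v ∈ W, act (a ^ n) v ∈ W := by
        intro n
        induction n with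
        | zero => intro v hv; rw [pow_zero, act_one]; exact hv
        | succ n ih => intro v hv; rw [pow_succ, act_mul]; exact ih _ (ha v hv)
      obtain ⟨n, hn⟩ : ∃ n : ℕ, a⁻¹ = a ^ n := by
        obtain ⟨n, hn⟩ := ((isOfFinOrder_of_finite a).mem_powers_iff_mem_zpowers).mpr
          (Subgroup.inv_mem _ (Subgroup.mem_zpowers a))
        exact ⟨n, hn.symm⟩
      rw [hn]; exact hpow n v hv
  exact key g v hv

/-- The action on the submodule. -/
noncomputable def rho (g : Γ) : W →ₗ[ZMod 5] W := (act g).restrict fun _ hv => act_mem g hv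

theorem rho_mul (g h : Γ) (w : W) : rho (g * h) w = rho g (rho h w) := Subtype.ext (act_mul g h w)

theorem rho_one (w : W) : rho 1 w = w := Subtype.ext (act_one w)

theorem act_comp_bas (g : Fin 4) (M : Matrix (Fin 12) (Fin 12) (ZMod 5)) (k : Fin 12) :
    act (t g) (∑ l, M k l • bas l) = ∑ l, (M * actMat g) k l • bas l := by
  simp only [map_sum, map_smul, act_bas, Finset.smul_sum, smul_smul, Matrix.mul_apply,
    Finset.sum_smul]
  exact Finset.sum_comm

theorem act_sigma_bas (k : Fin 12) :
    act sigma (bas k) = ∑ l, (actMat 3 * actMat 2 * actMat 0) k l • bas l := by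
  rw [sigma, act_mul, act_mul, act_bas, act_comp_bas, act_comp_bas]

theorem sigma_sub_one_surjective :
    Function.Surjective (rho sigma - (LinearMap.id : W →ₗ[ZMod 5] W)) := by
  set D := actMat 3 * actMat 2 * actMat 0 - 1 with hD
  have hD' : ∀ k, act sigma (bas k) - bas k = ∑ l, D k l • bas l := by
    intro k
    simp only [hD, Matrix.sub_apply, sub_smul, Finset.sum_sub_distrib, act_sigma_bas,
      Matrix.one_apply, ite_smul, one_smul, zero_smul, Finset.sum_ite_eq, Finset.mem_univ, if_true]
  rintro ⟨v, hv⟩
  suffices h : W ≤ (W.map (act sigma - (LinearMap.id : Perm5 →ₗ[ZMod 5] Perm5))) by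
    obtain ⟨w, hw, hwv⟩ := h hv
    exact ⟨⟨w, hw⟩, Subtype.ext hwv⟩
  refine Submodule.span_le.mpr ?_
  rintro _ ⟨k, rfl⟩
  refine ⟨∑ j, invMat k j • bas j, Submodule.sum_mem _ fun j _ => Submodule.smul_mem _ _ (bas_mem j),
    ?_⟩
  simp only [map_sum, map_smul, LinearMap.sub_apply, LinearMap.id_coe, id_eq, hD', Finset.smul_sum,
    smul_smul]
  rw [Finset.sum_comm]
  simp only [← Finset.sum_smul, ← Matrix.mul_apply]
  rw [show invMat * D = 1 from inv_valid]
  simp only [Matrix.one_apply, ite_smul, one_smul, zero_smul, Finset.sum_ite_eq, Finset.mem_univ,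
    if_true]

instance finiteW : Finite W := Module.finite_of_finite (ZMod 5)

theorem sigma_fixed {w : W} (h : rho sigma w = w) : w = 0 := by
  have hinj : Function.Injective (rho sigma - (LinearMap.id : W →ₗ[ZMod 5] W)) :=
    Finite.injective_iff_surjective.mpr sigma_sub_one_surjective
  refine hinj ?_
  rw [map_zero, LinearMap.sub_apply, LinearMap.id_apply, h, sub_self]

theorem fixed_of_order_thirteen {g : Γ} (hg : orderOf g = 13) {w : W} (h : rho g w = w) :
    w = 0 := by
  classical
  haveI : Fact (Nat.Prime 13) := ⟨by norm_num⟩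
  have h13 : ∀ P : Sylow 13 Γ, Nat.card (P : Subgroup Γ) = 13 := fun P => by
    rw [P.card_eq_multiplicity, card_Γ, show (62400 : ℕ) = 13 ^ 1 * 4800 by norm_num,
      Nat.factorization_mul (by norm_num) (by norm_num), Finsupp.add_apply,
      Nat.Prime.factorization_pow (by norm_num), Finsupp.single_eq_same,
      Nat.factorization_eq_zero_of_not_dvd (show ¬ 13 ∣ 4800 by norm_num)]
    norm_num
  have hsyl : ∀ x : Γ, orderOf x = 13 → ∃ P : Sylow 13 Γ, (P : Subgroup Γ) = Subgroup.zpowers x := by
    intro x hx
    obtain ⟨P, hP⟩ := (IsPGroup.of_card (n := 1)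
      ((Nat.card_zpowers x).trans (hx.trans (pow_one 13).symm))).exists_le_sylow
    exact ⟨P, (Subgroup.eq_of_le_of_card_ge hP (by rw [h13, Nat.card_zpowers, hx])).symm⟩
  obtain ⟨P, hP⟩ := hsyl g hg
  obtain ⟨Q, hQ⟩ := hsyl sigma orderOf_sigma
  obtain ⟨c, hc⟩ := MulAction.exists_smul_eq Γ P Q
  have hmem : c * g * c⁻¹ ∈ Subgroup.zpowers sigma := by
    rw [← hQ, ← hc, Sylow.coe_subgroup_smul, hP]
    exact ⟨g, Subgroup.mem_zpowers g, rfl⟩
  have hord : orderOf (c * g * c⁻¹) = 13 :=
    (orderOf_injective (MulAut.conj c).toMonoidHom (MulAut.conj c).injective g).trans hg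
  have hsig : sigma ∈ Subgroup.zpowers (c * g * c⁻¹) := by
    have : Subgroup.zpowers (c * g * c⁻¹) = Subgroup.zpowers sigma :=
      Subgroup.eq_of_le_of_card_ge (Subgroup.zpowers_le.mpr hmem)
        (by rw [Nat.card_zpowers, Nat.card_zpowers, hord, orderOf_sigma])
    rw [this]; exact Subgroup.mem_zpowers _
  obtain ⟨n, hn⟩ := ((isOfFinOrder_of_finite _).mem_powers_iff_mem_zpowers).mpr hsig
  have hfix : ∀ m : ℕ, rho ((c * g * c⁻¹) ^ m) (rho c w) = rho c w := by
    intro m
    induction m with
    | zero => rw [pow_zero, rho_one]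
    | succ m ih =>
      rw [pow_succ', rho_mul, ih, ← rho_mul, inv_mul_cancel_right, rho_mul, h]
  have h0 : rho c w = 0 := sigma_fixed (by
    have e : (c * g * c⁻¹) ^ n = sigma := hn
    rw [← e]; exact hfix n)
  have := congrArg (rho c⁻¹) h0
  rwa [← rho_mul, inv_mul_cancel, rho_one, map_zero] at this

theorem bas_ne_zero : bas 0 ≠ 0 := by
  classical
  intro h
  let z : Trip := fun i => pt (frame x0 i)
  have h1 := DFunLike.congr_fun h z
  rw [bas, Finsupp.finsetSum_apply, Finset.sum_eq_single x0] at h1
  · rw [Finsupp.smul_apply, delta, Finsupp.finsetSum_apply, Finset.sum_eq_single 0] at h1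
    · simp [z, x0_valid.1] at h1
      exact absurd h1 (by decide)
    · intro r _ hr
      rw [Finsupp.single_apply, if_neg]
      intro e
      refine hr (x0_valid.2 x0 r (by rw [x0_valid.1]; decide) fun i => ?_).2
      obtain ⟨a, ha⟩ := (Projectivization.mk_eq_mk_iff' K16 _ _ _ _).mp (congrFun e i).symm
      exact x0_separated _ _ a.val ha
    · simp
  · intro x _ hx
    rw [Finsupp.smul_apply, smul_eq_mul]
    by_cases hc : coef x 0 = 0
    · rw [hc, zero_mul]
    · rw [delta, Finsupp.finsetSum_apply, Finset.sum_eq_zero, mul_zero]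
      intro r _
      rw [Finsupp.single_apply, if_neg]
      intro e
      refine hx (x0_valid.2 x r hc fun i => ?_).1
      obtain ⟨a, ha⟩ := (Projectivization.mk_eq_mk_iff' K16 _ _ _ _).mp (congrFun e i).symm
      exact x0_separated _ _ a.val ha
  · simp

end Cfsg.Agent.Recog71.U34
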