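import Cfsg.Agent.Recog71.U34Field
import Cfsg.Prelude.Def_Classical

set_option autoImplicit false
set_option linter.style.maxHeartbeats false
set_option maxRecDepth 10000

/-!
Checks of the tables for the module of `SU(3,4)` in characteristic 5.
-/

namespace Cfsg.Agent.Recog71.U34

open Cfsg

/-- The vector of the `g`-th generating transvection. -/
def gv (g : Fin 4) : Fin 3 → K16 := vecOf (pick genVec 12 g.val)

/-- The scalar of the `g`-th generating transvection. -/
def gc (g : Fin 4) : K16 := ⟨pickF 16 genScal 4 g.val⟩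

/-- The action of a generator. -/
def gact (g : Fin 4) (x : Fin 3 → K16) : Fin 3 → K16 :=
  x + (gc g * hermForm 3 K16 4 x (gv g)) • gv g

theorem gen_valid : ∀ g, gc g + gc g ^ 4 = 0 ∧ hermForm 3 K16 4 (gv g) (gv g) = 0 := by
  decide +kernel

/-- The isotropic points, in breadth first order. -/
def isoVec (i : Fin 65) : Fin 3 → K16 := vecOf (pick isoTab 12 i.val)

/-- The parent generator. -/
def parG (i : Fin 65) : Fin 4 := pickF 4 parGen 2 i.val

/-- The parent index. -/
def parI (i : Fin 65) : Fin 65 := pickF 65 parIdx 8 i.val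

/-- The parent scalar. -/
def parS (i : Fin 65) : K16 := ⟨pickF 16 parScal 4 i.val⟩

theorem tree_valid : isoVec 0 = gv 0 ∧ ∀ i : Fin 65, i ≠ 0 →
    (parI i).val < i.val ∧ isoVec i = parS i • gact (parG i) (isoVec (parI i)) := by
  decide +kernel

theorem iso_complete :
    (∀ b c : Fin 16, hermForm 3 K16 4 ![1, ⟨b⟩, ⟨c⟩] ![1, ⟨b⟩, ⟨c⟩] = 0 →
      ∃ i : Fin 65, ![1, ⟨b⟩, ⟨c⟩] = isoVec i) ∧
    (∀ c : Fin 16, hermForm 3 K16 4 ![0, 1, ⟨c⟩] ![0, 1, ⟨c⟩] = 0 →
      ∃ i : Fin 65, ![0, 1, ⟨c⟩] = isoVec i) ∧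
    hermForm 3 K16 4 (![0, 0, 1] : Fin 3 → K16) ![0, 0, 1] ≠ 0 := by
  decide +kernel

theorem scal_cases : ∀ c : K16, c + c ^ 4 = 0 →
    c = 0 ∨ c = gc 0 ∨ c = gc 1 ∨ c = gc 0 + gc 1 := by
  simp only [K16.forall_iff]; decide +kernel

theorem gen_vec_one : gv 1 = gv 0 := by decide +kernel

/-- The points. -/
def ptVec (i : Fin 208) : Fin 3 → K16 := vecOf (pick pointTab 12 i.val)

/-- The permutation of the points. -/
def ptPerm (g : Fin 4) (i : Fin 208) : Fin 208 := pickF 208 pointPerm 8 (208 * g.val + i.val)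

/-- The scalars in the action on points. -/
def ptScal (g : Fin 4) (i : Fin 208) : K16 := ⟨pickF 16 pointScal 4 (208 * g.val + i.val)⟩

theorem point_valid : ∀ i : Fin 208, ptVec i ≠ 0 ∧
    ∀ g, ptScal g i ≠ 0 ∧ gact g (ptVec i) = ptScal g i • ptVec (ptPerm g i) := by
  decide +kernel

/-- The frames. -/
def frame (x : Fin 832) (i : Fin 3) : Fin 208 := pickF 208 frameTab 8 (3 * x.val + i.val)

/-- The permutation of the frames. -/
def frPerm (g : Fin 4) (x : Fin 832) : Fin 832 := pickF 832 framePerm 10 (832 * g.val + x.val)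

/-- The rotation in the action on frames. -/
def frRot (g : Fin 4) (x : Fin 832) : Fin 3 := pickF 3 frameRot 2 (832 * g.val + x.val)

theorem frame_valid : ∀ (g : Fin 4) (x : Fin 832), frPerm g (frPerm g x) = x ∧
    ∀ i : Fin 3, ptPerm g (frame x i) = frame (frPerm g x) (i - frRot g x) := by
  decide +kernel

/-- The coefficient of a frame in a basis vector. -/
def coef (x : Fin 832) (k : Fin 12) : ZMod 5 := pickF 5 coefTab 3 (12 * x.val + k.val)

/-- The matrix of a generator. -/
def actMat (g : Fin 4) : Matrix (Fin 12) (Fin 12) (ZMod 5) :=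
  fun i j => pickF 5 actTab 3 (144 * g.val + 12 * i.val + j.val)

/-- The inverse of the special element minus one. -/
def invMat : Matrix (Fin 12) (Fin 12) (ZMod 5) :=
  fun i j => pickF 5 invSigma 3 (12 * i.val + j.val)

/-- The first twelve terms of a sum, in `ℕ`. -/
def natSum (f : ℕ → ℕ) : ℕ → ℕ
  | 0 => 0
  | n + 1 => natSum f n + f n

theorem natSum_eq (f : ℕ → ℕ) (n : ℕ) : natSum f n = ∑ i ∈ Finset.range n, f i := by
  induction n with
  | zero => rfl
  | succ n ih => rw [natSum, ih, Finset.sum_range_succ]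

theorem coef_check : ∀ (g : Fin 4) (x : Fin 832) (k : Fin 12),
    pick coefTab 3 (12 * (frPerm g x).val + k.val) % 5 =
      natSum (fun l => pick actTab 3 (144 * g.val + 12 * k.val + l) *
        pick coefTab 3 (12 * x.val + l)) 12 % 5 := by
  decide +kernel

theorem coef_valid (g : Fin 4) (x : Fin 832) (k : Fin 12) :
    coef (frPerm g x) k = ∑ l, actMat g k l * coef x l := by
  have h := (ZMod.natCast_eq_natCast_iff' _ _ 5).mpr (coef_check g x k)
  rw [natSum_eq, Nat.cast_sum, ← Fin.sum_univ_eq_sum_range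
    (fun l => ((pick actTab 3 (144 * g.val + 12 * k.val + l) *
      pick coefTab 3 (12 * x.val + l) : ℕ) : ZMod 5)) 12] at h
  have e : ∀ n : ℕ, (Fin.ofNat 5 n : ZMod 5) = (n : ZMod 5) := fun _ => rfl
  simp only [Nat.cast_mul] at h
  simp only [coef, actMat, pickF, e]
  exact h

theorem inv_valid : invMat * (actMat 3 * actMat 2 * actMat 0 - 1) = 1 := by decide +kernel

/-- The special element, as a map. -/
def sact (x : Fin 3 → K16) : Fin 3 → K16 := gact 0 (gact 2 (gact 3 x))

theorem sigma_valid : sact^[13] (Pi.single 0 1) = Pi.single 0 1 ∧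
    sact^[13] (Pi.single 1 1) = Pi.single 1 1 ∧ sact^[13] (Pi.single 2 1) = Pi.single 2 1 ∧
    sact (Pi.single 0 1) ≠ Pi.single 0 1 := by
  decide +kernel

/-- The base frame. -/
def x0 : Fin 832 := 807

theorem x0_valid : coef x0 0 = 1 ∧
    ∀ x : Fin 832, ∀ r : Fin 3, coef x 0 ≠ 0 → (∀ i, frame x (i + r) = frame x0 i) →
      x = x0 ∧ r = 0 := by
  decide +kernel

theorem x0_separated : ∀ (i : Fin 208) (j : Fin 3) (a : Fin 16),
    (⟨a⟩ : K16) • ptVec i = ptVec (frame x0 j) → i = frame x0 j := by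
  decide +kernel

end Cfsg.Agent.Recog71.U34
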